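import Cfsg.Agent.H960.HT.Her
import Cfsg.Agent.H199.HT.JTwo
import Cfsg.Agent.OddOrderCharacters.WielandtElem
import Cfsg.Agent.Omega.NOThreeL.ATwo.Fam_m3
import Cfsg.Prelude.Def_CaseTheorems
import Mathlib.Tactic
import Cfsg.Agent.H138.HT.Alt
import Mathlib
import Cfsg.Agent.H662.GW.QPCen_m3
import Mathlib.NumberTheory.Multiplicity
import Cfsg.Agent.H952.F4.Scott_m3
import Cfsg.Agent.H593.RobinsonRank
import Cfsg.Agent.H65.E6Ext_m3
import Cfsg.Agent.FastGrp
import Cfsg.Agent.Prune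
set_option linter.all false

section
prune_inst 0x7fb0eef90fa889deffff7e3fa7d8cffc10848fffe6dff94bffe069bf8b9f030209c5fb850de058fe0e96c01410b87813f87eceffa06bdc7ffffd5ff41ffbec0f8566b50851d488240f342fff83f0778a7f3fffffffffffffffffffffffffffbeffbdffbffffd

-- part: H19/HT/Gen
section
prune_inst 0x4f0104f00770010000018050260001e32a4000102004b0000292005060d0b58628003a6214a000d14020480801004003002100400400000000a00040000250729908252003365a10cb40007000002400000000000000000000000000000041000200400002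
set_option linter.all false
open scoped Cfsg.Agent.FastGrp

/-!
# Half-transitive linear groups without coprimality (S3512, S3577)

Duality, the pseudocyclic identity, `|C_V(g)| ≤ m - 1` and `|V| ≤ 2 m²` hold for every half-transitive
linear group, also when `p` divides its order.
-/

set_option autoImplicit false

open scoped Classical
open Cfsg.Agent.H828.HT

namespace Cfsg.Agent.H19.HT

universe u

variable {p : ℕ} [Fact p.Prime] {V : Type u} [AddCommGroup V] [Module (ZMod p) V] [Finite V]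
  {G : Subgroup (V ≃ₗ[ZMod p] V)} {h : ℕ}

/-- a `p`-subgroup of `G` fixes a non-zero vector -/
theorem exists_fixed_pgroup [Nontrivial V] (Q : Subgroup G) (hQ : IsPGroup p Q) :
    ∃ v : V, v ≠ 0 ∧ ∀ g ∈ Q, (g : V ≃ₗ[ZMod p] V) v = v := by
  have hdvd : p ∣ Nat.card V := by
    rw [card_eq_pow (p := p) V]
    exact dvd_pow_self p (Module.finrank_pos (R := ZMod p) (M := V)).ne'
  have h0 : (0 : V) ∈ MulAction.fixedPoints Q V := fun g => map_zero ((g : G) : V ≃ₗ[ZMod p] V)
  obtain ⟨v, hv, hne⟩ := hQ.exists_fixed_point_of_prime_dvd_card_of_fixed_point V hdvd h0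
  exact ⟨v, hne.symm, fun g hg => hv ⟨g, hg⟩⟩

/-- the `p`-part of `|G|` divides `h` -/
theorem factorization_eq (hh : Half G h) [Nontrivial V] :
    h.factorization p = (Nat.card G).factorization p := by
  classical
  obtain ⟨P⟩ : Nonempty (Sylow p G) := inferInstance
  obtain ⟨v, hv, hfix⟩ := exists_fixed_pgroup (P : Subgroup G) P.isPGroup'
  have h1 : Nat.card (P : Subgroup G) ∣ h := by
    rw [← hh v hv]
    refine Subgroup.card_dvd_of_le ?_
    intro g hg
    exact hfix g hg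
  have h2 : h ∣ Nat.card G := by
    rw [← hh v hv]; exact Subgroup.card_subgroup_dvd_card _
  have hG0 : Nat.card G ≠ 0 := Nat.card_pos.ne'
  have hh0 : h ≠ 0 := fun h0 => hG0 (by rw [h0] at h2; exact Nat.eq_zero_of_zero_dvd h2)
  refine le_antisymm ((Nat.factorization_le_iff_dvd hh0 hG0).2 h2 p) ?_
  rw [P.card_eq_multiplicity] at h1
  exact (Nat.Prime.pow_dvd_iff_le_factorization (Fact.out : p.Prime) hh0).1 h1

/-- the order of the stabiliser of a functional divides `h` -/
theorem dst_dvd (hh : Half G h) {f : Module.Dual (ZMod p) V} (hf : f ≠ 0) :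
    Nat.card (dst G f) ∣ h := by
  classical
  obtain ⟨w, hw⟩ : ∃ w, f w ≠ 0 := by
    by_contra hc
    push Not at hc
    exact hf (LinearMap.ext hc)
  have hw0 : w ≠ 0 := by rintro rfl; exact hw (map_zero f)
  haveI : Nontrivial V := ⟨⟨w, 0, hw0⟩⟩
  have hG0 : Nat.card G ≠ 0 := Nat.card_pos.ne'
  have h2 : h ∣ Nat.card G := by
    rw [← hh w hw0]; exact Subgroup.card_subgroup_dvd_card _
  have hh0 : h ≠ 0 := fun h0 => hG0 (by rw [h0] at h2; exact Nat.eq_zero_of_zero_dvd h2)
  have hd0 : Nat.card (dst G f) ≠ 0 := Nat.card_pos.ne'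
  rw [← Nat.factorization_le_iff_dvd hd0 hh0]
  intro l
  by_cases hl : l.Prime
  swap
  · rw [Nat.factorization_eq_zero_of_not_prime _ hl]; exact Nat.zero_le _
  by_cases hlp : l = p
  · subst hlp
    rw [factorization_eq hh]
    exact (Nat.factorization_le_iff_dvd hd0 hG0).2 (Subgroup.card_subgroup_dvd_card _) l
  · haveI : Fact l.Prime := ⟨hl⟩
    obtain ⟨Q⟩ : Nonempty (Sylow l (dst G f)) := inferInstance
    set Q' : Subgroup G := (Q : Subgroup (dst G f)).map (dst G f).subtype with hQ'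
    set Q'' : Subgroup (V ≃ₗ[ZMod p] V) := Q'.map G.subtype with hQ''
    have hc1 : Nat.card Q' = Nat.card (Q : Subgroup (dst G f)) :=
      (Nat.card_congr ((Q : Subgroup (dst G f)).equivMapOfInjective _
        (dst G f).subtype_injective).toEquiv).symm
    have hc2 : Nat.card Q'' = Nat.card Q' :=
      (Nat.card_congr (Q'.equivMapOfInjective _ G.subtype_injective).toEquiv).symm
    have hcop : ¬ p ∣ Nat.card Q'' := by
      rw [hc2, hc1, Q.card_eq_multiplicity]
      intro hd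
      exact hlp ((Nat.prime_dvd_prime_iff_eq (Fact.out : p.Prime) hl).1
        ((Fact.out : p.Prime).dvd_of_dvd_pow hd)).symm
    obtain ⟨v, hv, hv'⟩ := exists_fixed Q'' hcop hf (by
      rintro _ ⟨g, ⟨g', _, rfl⟩, rfl⟩ w
      exact mem_dst.1 g'.2 w)
    have hv0 : v ≠ 0 := by
      rintro rfl
      exact hv (map_zero f)
    have h3 : Nat.card Q' ∣ h := by
      rw [← hh v hv0]
      refine Subgroup.card_dvd_of_le ?_
      intro g hg
      exact hv' _ ⟨g, hg, rfl⟩
    rw [hc1, Q.card_eq_multiplicity] at h3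
    exact (Nat.Prime.pow_dvd_iff_le_factorization hl hh0).1 h3

theorem dst_le (hh : Half G h) {f : Module.Dual (ZMod p) V} (hf : f ≠ 0) :
    Nat.card (dst G f) ≤ h := by
  obtain ⟨w, hw⟩ : ∃ w, f w ≠ 0 := by
    by_contra hc
    push Not at hc
    exact hf (LinearMap.ext hc)
  have hw0 : w ≠ 0 := by rintro rfl; exact hw (map_zero f)
  refine Nat.le_of_dvd ?_ (dst_dvd hh hf)
  rw [← hh w hw0]
  exact Nat.card_pos

theorem dst_card (hh : Half G h) {f : Module.Dual (ZMod p) V}
    (hf : f ≠ 0) : Nat.card (dst G f) = h := by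
  have h1 := sum_card_fx G
  have h2 := sum_card_dfx G
  simp_rw [card_dfx] at h2
  rw [h1] at h2
  have e1 : ∑ v : V, Nat.card (MulAction.stabilizer G v) =
      Nat.card G + ∑ _v ∈ (Finset.univ.erase (0 : V)), h := by
    rw [← Finset.add_sum_erase _ _ (Finset.mem_univ (0 : V))]
    congr 1
    · have : MulAction.stabilizer G (0 : V) = ⊤ := by
        rw [eq_top_iff]
        intro g _
        exact map_zero (g : V ≃ₗ[ZMod p] V)
      rw [this, Subgroup.card_top]
    · exact Finset.sum_congr rfl (fun v hv => hh v (Finset.ne_of_mem_erase hv))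
  have e2 : ∑ f : Module.Dual (ZMod p) V, Nat.card (dst G f) =
      Nat.card G + ∑ f ∈ (Finset.univ.erase (0 : Module.Dual (ZMod p) V)),
        Nat.card (dst G f) := by
    rw [← Finset.add_sum_erase _ _ (Finset.mem_univ (0 : Module.Dual (ZMod p) V))]
    congr 1
    have : dst G (0 : Module.Dual (ZMod p) V) = ⊤ := by
      rw [eq_top_iff]
      intro g _
      rw [mem_dst]
      intro w; rfl
    rw [this, Subgroup.card_top]
  have e3 : ∑ _v ∈ (Finset.univ.erase (0 : V)), h =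
      ∑ _f ∈ (Finset.univ.erase (0 : Module.Dual (ZMod p) V)), h := by
    rw [Finset.sum_const, Finset.sum_const, Finset.card_erase_of_mem (Finset.mem_univ _),
      Finset.card_erase_of_mem (Finset.mem_univ _), Finset.card_univ, Finset.card_univ,
      ← Nat.card_eq_fintype_card, ← Nat.card_eq_fintype_card, card_dual]
  rw [e1, e2, e3] at h2
  have h3 := Nat.add_left_cancel h2
  have h4 := (Finset.sum_eq_sum_iff_of_le (s := Finset.univ.erase (0 : Module.Dual (ZMod p) V))
    (f := fun f => Nat.card (dst G f)) (g := fun _ => h)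
    (fun f hf => dst_le hh (Finset.ne_of_mem_erase hf))).1 h3.symm
  exact h4 f (Finset.mem_erase.2 ⟨hf, Finset.mem_univ _⟩)

/-- **Pseudocyclic identity.** -/
theorem ident (hh : Half G h) {v : V} (hv : v ≠ 0) :
    (∑ g : G, if v ∈ cm (g : V ≃ₗ[ZMod p] V) then Nat.card (fx (g : V ≃ₗ[ZMod p] V)) else 0)
      + h = Nat.card G := by
  have key : (∑ g : G, (if v ∈ cm (g : V ≃ₗ[ZMod p] V) then
      (Nat.card (fx (g : V ≃ₗ[ZMod p] V)) : ℂ) else 0)) =
      (Nat.card G : ℂ) - h := by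
    have h1 : ∀ g : G, (if v ∈ cm (g : V ≃ₗ[ZMod p] V) then
        (Nat.card (fx (g : V ≃ₗ[ZMod p] V)) : ℂ) else 0) =
        ∑ f : Module.Dual (ZMod p) V, (if f ∈ dfx (g : V ≃ₗ[ZMod p] V) then
          (ZMod.stdAddChar (N := p)) (f v) else 0) := by
      intro g
      rw [sum_ev, card_dfx]
      congr 1
      rw [dfx, eq_iff_iff]
      exact (Subspace.forall_mem_dualAnnihilator_apply_eq_zero_iff _ _).symm
    rw [Finset.sum_congr rfl (fun g _ => h1 g), Finset.sum_comm]
    have h2 : ∀ f : Module.Dual (ZMod p) V,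
        (∑ g : G, (if f ∈ dfx (g : V ≃ₗ[ZMod p] V) then
          (ZMod.stdAddChar (N := p)) (f v) else 0)) =
        (Nat.card (dst G f) : ℂ) * (ZMod.stdAddChar (N := p)) (f v) := by
      intro f
      rw [← Finset.sum_filter, Finset.sum_const, nsmul_eq_mul, Nat.card_eq_fintype_card,
        Fintype.card_subtype]
      rfl
    rw [Finset.sum_congr rfl (fun f _ => h2 f),
      ← Finset.add_sum_erase _ _ (Finset.mem_univ (0 : Module.Dual (ZMod p) V))]
    have h3 : ∑ f ∈ Finset.univ.erase (0 : Module.Dual (ZMod p) V),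
        (Nat.card (dst G f) : ℂ) * (ZMod.stdAddChar (N := p)) (f v) =
        (h : ℂ) * ∑ f ∈ Finset.univ.erase (0 : Module.Dual (ZMod p) V),
          (ZMod.stdAddChar (N := p)) (f v) := by
      rw [Finset.mul_sum]
      exact Finset.sum_congr rfl (fun f hf => by
        rw [dst_card hh (Finset.ne_of_mem_erase hf)])
    have h4 : ∑ f : Module.Dual (ZMod p) V, (ZMod.stdAddChar (N := p)) (f v) = 0 := by
      have := sum_ev (⊤ : Submodule (ZMod p) (Module.Dual (ZMod p) V)) v
      simp only [Submodule.mem_top, if_true, true_imp_iff] at this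
      rw [this, if_neg]
      intro hc
      exact hv ((Module.forall_dual_apply_eq_zero_iff (ZMod p) v).1 hc)
    rw [← Finset.add_sum_erase _ _ (Finset.mem_univ (0 : Module.Dual (ZMod p) V))] at h4
    have h5 : (ZMod.stdAddChar (N := p)) ((0 : Module.Dual (ZMod p) V) v) = 1 := by
      rw [LinearMap.zero_apply, AddChar.map_zero_eq_one]
    rw [h5] at h4
    have h6 : dst G (0 : Module.Dual (ZMod p) V) = ⊤ := by
      rw [eq_top_iff]
      intro g _
      rw [mem_dst]
      intro w; rfl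
    rw [h3, eq_neg_of_add_eq_zero_right h4, h5, h6, Subgroup.card_top]
    ring
  have h7 : ((∑ g : G, if v ∈ cm (g : V ≃ₗ[ZMod p] V) then
      Nat.card (fx (g : V ≃ₗ[ZMod p] V)) else 0 : ℕ) : ℂ) + h = Nat.card G := by
    push_cast
    rw [key]
    ring
  exact_mod_cast h7

/-- `|C_V(g)| ≤ m - 1` for `g ≠ 1`. -/
theorem fx_lt (hh : Half G h) (h0 : 0 < h) {m : ℕ}
    (hm : m * h = Nat.card G) {g₀ : G} (hg₀ : g₀ ≠ 1) :
    Nat.card (fx (g₀ : V ≃ₗ[ZMod p] V)) + 1 ≤ m := by
  obtain ⟨v, hv, hv'⟩ := exists_mem_cm (g := (g₀ : V ≃ₗ[ZMod p] V))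
    (fun h => hg₀ (Subtype.ext h))
  have h1 := ident hh hv
  rw [pairs_card] at h1
  have h2 : h * Nat.card (fx (g₀ : V ≃ₗ[ZMod p] V)) ≤
      ∑ w : V, Nat.card {g : G // (g : V ≃ₗ[ZMod p] V) w = w + v} := by
    have h3 : ∑ w ∈ Finset.univ.filter (fun w : V => (g₀ : V ≃ₗ[ZMod p] V) w = w + v),
        Nat.card {g : G // (g : V ≃ₗ[ZMod p] V) w = w + v} =
        ∑ _w ∈ Finset.univ.filter (fun w : V => (g₀ : V ≃ₗ[ZMod p] V) w = w + v), h := by
      refine Finset.sum_congr rfl ?_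
      intro w hw
      have hw' := (Finset.mem_filter.1 hw).2
      rw [card_transporter g₀ hw']
      apply hh
      rintro rfl
      rw [map_zero, zero_add] at hw'
      exact hv hw'.symm
    have h4 : (Finset.univ.filter (fun w : V => (g₀ : V ≃ₗ[ZMod p] V) w = w + v)).card =
        Nat.card (fx (g₀ : V ≃ₗ[ZMod p] V)) := by
      obtain ⟨w₀, hw₀⟩ := mem_cm.1 hv'
      rw [Nat.card_eq_fintype_card, Fintype.card_subtype]
      symm
      refine Finset.card_bij (fun w _ => w₀ + w) ?_ ?_ ?_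
      · intro w hw
        simp only [Finset.mem_filter, Finset.mem_univ, true_and, mem_fx] at hw ⊢
        rw [map_add, hw₀, hw]
        abel
      · intro a _ b _ h
        exact add_left_cancel h
      · intro b hb
        simp only [Finset.mem_filter, Finset.mem_univ, true_and] at hb
        refine ⟨b - w₀, ?_, by abel⟩
        simp only [Finset.mem_filter, Finset.mem_univ, true_and, mem_fx]
        rw [map_sub, hw₀, hb]
        abel
    rw [Finset.sum_const, h4, smul_eq_mul, mul_comm] at h3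
    rw [← h3]
    exact Finset.sum_le_sum_of_subset (Finset.subset_univ _)
  have h5 : h * (Nat.card (fx (g₀ : V ≃ₗ[ZMod p] V)) + 1) ≤ h * m := by
    rw [mul_comm h m, hm]
    linarith only [h1, h2]
  exact Nat.le_of_mul_le_mul_left h5 h0

/-- **The size bound**: `|V| ≤ 2 m²`. -/
theorem card_le (hh : Half G h) (h2 : 2 ≤ h) {m : ℕ}
    (hm : m * h = Nat.card G) : Nat.card V ≤ 2 * m ^ 2 := by
  have h1 := sum_fx_half hh
  rw [← Finset.add_sum_erase _ _ (Finset.mem_univ (1 : G))] at h1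
  have e1 : Nat.card (fx ((1 : G) : V ≃ₗ[ZMod p] V)) = Nat.card V := by
    rw [Subgroup.coe_one, fx_one]
    exact Nat.card_congr Submodule.topEquiv.toEquiv
  have h3 : ∑ g ∈ Finset.univ.erase (1 : G), (Nat.card (fx (g : V ≃ₗ[ZMod p] V)) + 1) ≤
      ∑ _g ∈ Finset.univ.erase (1 : G), m :=
    Finset.sum_le_sum (fun g hg => fx_lt hh (by omega) hm (Finset.ne_of_mem_erase hg))
  have h4 : (Finset.univ.erase (1 : G)).card + 1 = Nat.card G := by
    rw [Finset.card_erase_of_mem (Finset.mem_univ _), Finset.card_univ,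
      Nat.card_eq_fintype_card]
    exact Nat.sub_add_cancel Fintype.card_pos
  rw [Finset.sum_add_distrib, Finset.sum_const, Finset.sum_const, smul_eq_mul, smul_eq_mul,
    mul_one] at h3
  rw [e1] at h1
  set S := ∑ g ∈ Finset.univ.erase (1 : G), Nat.card (fx (g : V ≃ₗ[ZMod p] V))
  set c := (Finset.univ.erase (1 : G)).card
  obtain ⟨k, rfl⟩ : ∃ k, h = k + 2 := ⟨h - 2, by omega⟩
  -- `S + |V| + h = |G| + h |V|`, `S + c ≤ c m`, `c + 1 = |G| = m h`
  have hc : c + 1 = m * (k + 2) := by rw [h4, hm]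
  have hS : S + Nat.card V + (k + 2) = m * (k + 2) + (k + 2) * Nat.card V := by
    rw [hm, ← h1]; ring
  obtain ⟨n, rfl⟩ : ∃ n, m = n + 1 := by
    rcases Nat.eq_zero_or_pos m with h | h
    · subst h; simp at hc
    · exact ⟨m - 1, by omega⟩
  have hc' : c = n * (k + 2) + (k + 1) := by linarith only [h4, hm]
  have hS2 : S ≤ c * n := by linarith only [h3]
  have key : (k + 1) * Nat.card V ≤ (k + 1) * (2 * (n + 1) ^ 2) := by
    have : (k + 1) * Nat.card V + n * (k + 2) = S := by linarith only [h1, hm]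
    have h5 : c * n = (n * (k + 2) + (k + 1)) * n := by rw [hc']
    linarith only [h1, h3, h5, Nat.zero_le (k * n), Nat.zero_le (k * n * n)]
  exact Nat.le_of_mul_le_mul_left key (by omega)


end Cfsg.Agent.H19.HT
end

-- part: H578/HT/Cov
section
prune_inst 0x4d0000f010740000000040002400002b52500000000400000482407460a0042220002a80008000516022200800004003813000420420000000a0004000021070910a8100031510c08800006000080400000000000000000000000000000000000200400000
set_option linter.all false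
open scoped Cfsg.Agent.FastGrp

/-!
# S3540, quasisimple rows: coverage tools (task T3)

`cov`, `cov_card`, `covL`, `covL_card`, `rank_two`.
-/

set_option autoImplicit false
set_option linter.unusedSectionVars false

open scoped Classical

universe u w

namespace Cfsg.Agent.H578.HT

open Cfsg.Agent.H828.HT Cfsg.Agent.H337.HT

/-! ### Group theory -/

/-- an automorphism of a group acts on the group modulo its centre -/
def toS (A : Type*) [Group A] : MulAut A →* MulAut (A ⧸ Subgroup.center A) where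
  toFun α := QuotientGroup.congr (Subgroup.center A) (Subgroup.center A) α
    (Subgroup.characteristic_iff_map_eq.1 inferInstance α)
  map_one' := by
    ext x
    induction x using QuotientGroup.induction_on with
    | H a => rfl
  map_mul' α β := by
    ext x
    induction x using QuotientGroup.induction_on with
    | H a => rfl

theorem toS_mk {A : Type*} [Group A] (α : MulAut A) (a : A) :
    toS A α (QuotientGroup.mk a) = QuotientGroup.mk (α a) := rfl

/-- an element of prime order `r` lies in every normal subgroup of index prime to `r` -/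
theorem mem_of_not_dvd_index {A : Type*} [Group A] [Finite A] (N : Subgroup A) [N.Normal] {r : ℕ}
    (hr : r.Prime) (hN : ¬ r ∣ N.index) {a : A} (ha : a ^ r = 1) : a ∈ N := by
  rw [← QuotientGroup.eq_one_iff]
  have h1 : (QuotientGroup.mk a : A ⧸ N) ^ r = 1 := by
    rw [← QuotientGroup.mk_pow, ha]; rfl
  have h2 : orderOf (QuotientGroup.mk a : A ⧸ N) ∣ r := orderOf_dvd_of_pow_eq_one h1
  rcases (Nat.dvd_prime hr).1 h2 with h3 | h3
  · exact orderOf_eq_one_iff.1 h3
  · exact absurd (by rw [Subgroup.index_eq_card, ← h3]; exact orderOf_dvd_natCard _) hN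

theorem conj_range_normal (A : Type*) [Group A] : ((MulAut.conj : A →* MulAut A).range).Normal := by
  constructor
  rintro _ ⟨x, rfl⟩ α
  refine ⟨α x, ?_⟩
  ext y
  simp only [MulAut.conj_apply, MulAut.mul_apply]
  have : y = α (α⁻¹ y) := by
    rw [← MulAut.mul_apply, mul_inv_cancel]; rfl
  conv_lhs => rw [this]
  rw [← map_mul, ← map_inv, ← map_mul]

/-- a simple group with trivial centre: inner automorphisms -/
theorem inner_of_pow {S : Type*} [Group S] [Finite S] (hc : Subgroup.center S = ⊥) {r : ℕ} (hr : r.Prime)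
    (hout : ¬ r ∣ Nat.card (MulAut S) / Nat.card S) {α : MulAut S} (ha : α ^ r = 1) :
    ∃ x : S, α = MulAut.conj x := by
  have : Finite (MulAut S) := Finite.of_injective (fun g : MulAut S => (g : S → S)) DFunLike.coe_injective
  have := conj_range_normal S
  have hinj : Function.Injective (MulAut.conj : S →* MulAut S) := by
    rw [injective_iff_map_eq_one]
    intro x hx
    have : x ∈ Subgroup.center S := by
      rw [Subgroup.mem_center_iff]
      intro y
      have h1 := DFunLike.congr_fun hx y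
      rw [MulAut.conj_apply] at h1
      have h2 : x * y * x⁻¹ = y := h1
      rw [mul_inv_eq_iff_eq_mul] at h2
      exact h2.symm
    rwa [hc, Subgroup.mem_bot] at this
  have hidx : ((MulAut.conj : S →* MulAut S).range).index = Nat.card (MulAut S) / Nat.card S := by
    have h1 := Subgroup.card_mul_index ((MulAut.conj : S →* MulAut S).range)
    have h2 : Nat.card ((MulAut.conj : S →* MulAut S).range) = Nat.card S :=
      (Nat.card_congr (MonoidHom.ofInjective hinj).toEquiv).symm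
    rw [h2] at h1
    rw [← h1, Nat.mul_div_cancel_left _ Nat.card_pos]
  obtain ⟨x, hx⟩ := mem_of_not_dvd_index _ hr (by rw [hidx]; exact hout) ha
  exact ⟨x, hx.symm⟩

/-- an endomorphism-like map of a perfect group that is trivial modulo the centre is trivial -/
theorem eq_id_of_mod_center {A : Type*} [Group A] (hp : commutator A = ⊤) (β : A →* A)
    (h : ∀ a, β a * a⁻¹ ∈ Subgroup.center A) (a : A) : β a = a := by
  let z : A →* Subgroup.center A :=
    { toFun := fun a => ⟨β a * a⁻¹, h a⟩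
      map_one' := Subtype.ext (by simp only [_root_.map_one, _root_.inv_one, _root_.mul_one, _root_.OneMemClass.coe_one])
      map_mul' := fun a b => by
        refine Subtype.ext ?_
        change β (a * b) * (a * b)⁻¹ = (β a * a⁻¹) * (β b * b⁻¹)
        have h1 := Subgroup.mem_center_iff.1 (h b) a⁻¹
        rw [mul_assoc (β a), h1, map_mul]
        group }
  have h1 : commutator A ≤ z.ker := by
    rw [commutator_def, Subgroup.commutator_le]
    intro x _ y _
    rw [MonoidHom.mem_ker, map_commutatorElement, commutatorElement_eq_one_iff_mul_comm]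
    exact Subtype.ext (Subgroup.mem_center_iff.1 (z y).2 (z x : A))
  rw [hp] at h1
  have h2 : z a = 1 := h1 (Subgroup.mem_top a)
  have h3 : β a * a⁻¹ = 1 := congrArg Subtype.val h2
  exact mul_inv_eq_one.1 h3

/-! ### The setting -/

variable {p : ℕ} [Fact p.Prime] {K : Type w} [Field K] {V : Type u} [AddCommGroup V] [Module (ZMod p) V]
  [Module K V] {G L : Subgroup (V ≃ₗ[ZMod p] V)} {h : ℕ}

/-- conjugation by elements normalising `L` -/
def cj (g : V ≃ₗ[ZMod p] V) (L : Subgroup (V ≃ₗ[ZMod p] V)) (hg : ∀ l ∈ L, g * l * g⁻¹ ∈ L)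
    (hg' : ∀ l ∈ L, g⁻¹ * l * g⁻¹⁻¹ ∈ L) : MulAut L where
  toFun l := ⟨g * l * g⁻¹, hg l l.2⟩
  invFun l := ⟨g⁻¹ * l * g⁻¹⁻¹, hg' l l.2⟩
  left_inv l := Subtype.ext (by simp only [mul_assoc, _root_.inv_mul_cancel_left, _root_.inv_inv, _root_.inv_mul_cancel, _root_.mul_one])
  right_inv l := Subtype.ext (by simp only [mul_assoc, _root_.inv_inv, _root_.mul_inv_cancel_left, _root_.mul_inv_cancel, _root_.mul_one])
  map_mul' l m := Subtype.ext (by simp only [mul_assoc, _root_.Subgroup.coe_mul, _root_.MulMemClass.mk_mul_mk, _root_.inv_mul_cancel_left])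

theorem center_quot (H : QS p K V G L h) : Subgroup.center (L ⧸ Subgroup.center L) = ⊥ := by
  have := H.simple
  rcases IsSimpleGroup.eq_bot_or_eq_top_of_normal (Subgroup.center (L ⧸ Subgroup.center L)) inferInstance
    with h1 | h1
  · exact h1
  exfalso
  have h2 : commutator (L ⧸ Subgroup.center L) = ⊤ := by
    have h3 : (commutator L).map (QuotientGroup.mk' (Subgroup.center L)) =
        commutator (L ⧸ Subgroup.center L) := by
      rw [commutator_def, Subgroup.map_commutator, commutator_def]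
      congr 1 <;>
      exact Subgroup.map_top_of_surjective _ (QuotientGroup.mk'_surjective _)
    rw [← h3, H.perf]
    exact Subgroup.map_top_of_surjective _ (QuotientGroup.mk'_surjective _)
  have h4 : commutator (L ⧸ Subgroup.center L) ≤ ⊥ := by
    rw [commutator_def, Subgroup.commutator_le]
    intro x _ y _
    rw [Subgroup.mem_bot, commutatorElement_eq_one_iff_mul_comm]
    have : y ∈ Subgroup.center (L ⧸ Subgroup.center L) := h1 ▸ Subgroup.mem_top y
    exact Subgroup.mem_center_iff.1 this x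
  rw [h2] at h4
  exact top_ne_bot (le_antisymm h4 bot_le)

/-- an element of `L` commuting with `L` is a scalar -/
theorem scal_of_cen (H : QS p K V G L h) {g : V ≃ₗ[ZMod p] V} (hg : ∀ l ∈ L, g * l = l * g) :
    ∃ c : K, ∀ v, g v = c • v := by
  refine H.endo (g : V →ₗ[ZMod p] V) ?_
  intro l hl v
  exact congrArg (fun e : V ≃ₗ[ZMod p] V => e v) (hg l hl)

theorem mem_center_of_scal (H : QS p K V G L h) {x : L} {c : K}
    (hc : ∀ v, (x : V ≃ₗ[ZMod p] V) v = c • v) : x ∈ Subgroup.center L := by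
  rw [Subgroup.mem_center_iff]
  intro l
  refine Subtype.ext (LinearEquiv.ext fun v => ?_)
  change (l : V ≃ₗ[ZMod p] V) ((x : V ≃ₗ[ZMod p] V) v) = (x : V ≃ₗ[ZMod p] V) ((l : V ≃ₗ[ZMod p] V) v)
  rw [hc, hc, H.lin _ l.2]

theorem scal_of_mem_center (H : QS p K V G L h) {x : L} (hx : x ∈ Subgroup.center L) :
    ∃ c : K, ∀ v, (x : V ≃ₗ[ZMod p] V) v = c • v :=
  scal_of_cen H (fun l hl => (congrArg Subtype.val (Subgroup.mem_center_iff.1 hx ⟨l, hl⟩)).symm)

variable [Finite V]

/-- **inner elements.** An element of prime order `r` of `G`, `r` prime to `|Out S|`, is `x c` with `x ∈ L`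
and a scalar `c`. -/
theorem inner_scal (H : QS p K V G L h) {r : ℕ} (hr : r.Prime)
    (hout : ¬ r ∣ Nat.card (MulAut (L ⧸ Subgroup.center L)) / Nat.card (L ⧸ Subgroup.center L))
    {g : V ≃ₗ[ZMod p] V} (hg : g ∈ G) (hgr : g ^ r = 1) :
    ∃ (x : L) (c : K), c ≠ 0 ∧ ∀ v, g v = (x : V ≃ₗ[ZMod p] V) (c • v) := by
  set S := L ⧸ Subgroup.center L
  have hn := H.nrm g hg
  have hn' := H.nrm g⁻¹ (G.inv_mem hg)
  set α : MulAut L := cj g L hn hn' with hα
  have hαk : ∀ (k : ℕ) (l : L), ((α ^ k) l : V ≃ₗ[ZMod p] V) = g ^ k * l * (g ^ k)⁻¹ := by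
    intro k
    induction k with
    | zero => intro l; simp
    | succ k ih =>
      intro l
      rw [pow_succ, MulAut.mul_apply, ih]
      change g ^ k * (g * l * g⁻¹) * (g ^ k)⁻¹ = _
      rw [pow_succ]
      group
  have hαr : α ^ r = 1 := by
    ext l : 1
    refine Subtype.ext ?_
    rw [hαk, hgr]
    simp
  obtain ⟨xb, hxb⟩ := inner_of_pow (center_quot H) hr hout (α := toS L α) (by rw [← map_pow, hαr, map_one])
  obtain ⟨x, rfl⟩ := QuotientGroup.mk_surjective xb
  -- `β` = conjugation by `x⁻¹ g`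
  let β : L →* L := ((MulAut.conj x⁻¹ * α : MulAut L) : L ≃* L).toMonoidHom
  have hβ : ∀ l, β l = x⁻¹ * α l * x := by
    intro l
    change (MulAut.conj x⁻¹) (α l) = _
    rw [MulAut.conj_apply, inv_inv]
  have h1 : ∀ l, β l = l := by
    refine eq_id_of_mod_center H.perf β ?_
    intro l
    rw [hβ, ← QuotientGroup.eq_one_iff]
    have h2 := DFunLike.congr_fun hxb (QuotientGroup.mk l)
    rw [toS_mk, MulAut.conj_apply] at h2
    rw [QuotientGroup.mk_mul, QuotientGroup.mk_mul, QuotientGroup.mk_mul, h2]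
    simp only [mul_assoc, _root_.QuotientGroup.mk_inv, _root_.inv_mul_cancel_left, _root_.inv_mul_cancel, _root_.mul_one, _root_.mul_inv_cancel]
  obtain ⟨c, hc⟩ := scal_of_cen H (g := (x : V ≃ₗ[ZMod p] V)⁻¹ * g) (by
    intro l hl
    have h2 := congrArg Subtype.val (h1 ⟨l, hl⟩)
    rw [hβ] at h2
    have h3 : (x : V ≃ₗ[ZMod p] V)⁻¹ * (g * l * g⁻¹) * x = l := h2
    have h4 : (x : V ≃ₗ[ZMod p] V)⁻¹ * (g * l * g⁻¹) * x * ((x : V ≃ₗ[ZMod p] V)⁻¹ * g) =
        (x : V ≃ₗ[ZMod p] V)⁻¹ * g * l := by group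
    rw [h3] at h4
    exact h4.symm)
  have hgv : ∀ v, g v = (x : V ≃ₗ[ZMod p] V) (c • v) := by
    intro v
    rw [← hc v]
    change g v = ((x : V ≃ₗ[ZMod p] V) * ((x : V ≃ₗ[ZMod p] V)⁻¹ * g)) v
    rw [mul_inv_cancel_left]
  refine ⟨x, c, ?_, hgv⟩
  rintro rfl
  have : ∀ v : V, v = 0 := by
    intro v
    apply g.injective
    rw [hgv, zero_smul, map_zero, map_zero]
  obtain ⟨a, -, b, -, hab⟩ := H.nonab
  apply hab
  ext v
  rw [this ((a * b) v), this ((b * a) v)]

/-- (COV) -/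
theorem cov (H : QS p K V G L h) {r : ℕ} (hr : r.Prime) (hrh : r ∣ h)
    (hout : ¬ r ∣ Nat.card (MulAut (L ⧸ Subgroup.center L)) / Nat.card (L ⧸ Subgroup.center L)) :
    ∀ v : V, v ≠ 0 → ∃ x : L, x ∉ Subgroup.center L ∧ x ^ r ∈ Subgroup.center L ∧
      ∃ c : K, (x : V ≃ₗ[ZMod p] V) v = c • v := by
  intro v hv
  have : Fact r.Prime := ⟨hr⟩
  rw [← H.half v hv] at hrh
  obtain ⟨g, hg⟩ := exists_prime_orderOf_dvd_card' r hrh
  have hgr : ((g : G) : V ≃ₗ[ZMod p] V) ^ r = 1 := by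
    have h1 := pow_orderOf_eq_one g
    rw [hg] at h1
    exact congrArg (fun t : MulAction.stabilizer G v => ((t : G) : V ≃ₗ[ZMod p] V)) h1
  obtain ⟨x, c, hc, hx⟩ := inner_scal H hr hout (g : G).2 hgr
  have hgv : ((g : G) : V ≃ₗ[ZMod p] V) v = v := g.2
  have hxv : (x : V ≃ₗ[ZMod p] V) v = c⁻¹ • v := by
    have h1 := hx v
    rw [hgv, H.lin _ x.2] at h1
    conv_rhs => rw [h1]
    rw [smul_smul, inv_mul_cancel₀ hc, one_smul]
  refine ⟨x, ?_, ?_, c⁻¹, hxv⟩
  · intro hxc
    obtain ⟨d, hd⟩ := scal_of_mem_center H hxc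
    have h1 : ∀ u, ((g : G) : V ≃ₗ[ZMod p] V) u = (d * c) • u := by
      intro u
      rw [hx, hd, smul_smul]
    have h2 : d * c = 1 := by
      have h3 := h1 v
      rw [hgv] at h3
      have h4 : (d * c - 1) • v = 0 := by rw [sub_smul, one_smul, ← h3, sub_self]
      rcases smul_eq_zero.1 h4 with h5 | h5
      · exact sub_eq_zero.1 h5
      · exact absurd h5 hv
    have h3 : g = 1 := by
      refine Subtype.ext (Subtype.ext (LinearEquiv.ext fun u => ?_))
      rw [h1, h2, one_smul]; rfl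
    rw [h3, orderOf_one] at hg
    exact hr.one_lt.ne hg
  · -- `x ^ r` is a scalar
    have h1 : ∀ (k : ℕ) (u : V), (((g : G) : V ≃ₗ[ZMod p] V) ^ k) u =
        (((x : V ≃ₗ[ZMod p] V)) ^ k) (c ^ k • u) := by
      intro k
      induction k with
      | zero => intro u; simp
      | succ k ih =>
        intro u
        rw [pow_succ' , pow_succ' (x : V ≃ₗ[ZMod p] V), pow_succ']
        change ((g : G) : V ≃ₗ[ZMod p] V) ((((g : G) : V ≃ₗ[ZMod p] V) ^ k) u) =
          (x : V ≃ₗ[ZMod p] V) (((x : V ≃ₗ[ZMod p] V) ^ k) ((c * c ^ k) • u))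
        rw [ih, hx, mul_smul]
        congr 1
        rw [H.lin _ (L.pow_mem x.2 k) c]
    refine mem_center_of_scal H (c := (c ^ r)⁻¹) ?_
    intro u
    have h2 := h1 r ((c ^ r)⁻¹ • u)
    rw [hgr, smul_smul, mul_inv_cancel₀ (pow_ne_zero _ hc), one_smul] at h2
    exact h2.symm

/-! ### Counting -/

theorem exists_ne_zero (H : QS p K V G L h) : ∃ v : V, v ≠ 0 := by
  by_contra hc
  push Not at hc
  obtain ⟨a, -, b, -, hab⟩ := H.nonab
  apply hab
  ext v
  rw [hc ((a * b) v), hc ((b * a) v)]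

theorem finK (H : QS p K V G L h) : Finite K := by
  obtain ⟨v, hv⟩ := exists_ne_zero H
  exact Finite.of_injective (fun c : K => c • v) (smul_left_injective K hv)

theorem card_V (H : QS p K V G L h) : Nat.card V = Nat.card K ^ Module.finrank K V := by
  have := finK H
  have : Module.Finite K V := Module.Finite.of_finite
  exact Module.natCard_eq_pow_finrank

/-- an element of `L` as a `K`-linear map -/
def kl (H : QS p K V G L h) (x : L) : V →ₗ[K] V where
  toFun v := (x : V ≃ₗ[ZMod p] V) v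
  map_add' := map_add _
  map_smul' c v := H.lin _ x.2 c v

@[simp] theorem kl_apply (H : QS p K V G L h) (x : L) (v : V) :
    kl H x v = (x : V ≃ₗ[ZMod p] V) v := rfl

omit [Finite V] in
theorem sum_finrank_le [Module.Finite K V] {ι : Type*} [Fintype ι] [DecidableEq ι]
    (E : ι → Submodule K V) (hE : iSupIndep E) :
    ∑ i, Module.finrank K (E i) ≤ Module.finrank K V := by
  have h1 := LinearMap.finrank_le_finrank_of_injective (hE.dfinsupp_lsum_injective)
  refine le_trans (le_of_eq ?_) h1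
  exact (Module.finrank_directSum K (fun i => E i)).symm

theorem conv1 {q a : ℕ} (hq : 1 ≤ q) : (a + 1) * (q ^ a - 1) ≤ a * (q ^ (a + 1) - 1) := by
  obtain ⟨t, rfl⟩ : ∃ t, q = t + 1 := ⟨q - 1, by omega⟩
  have h1 : 1 ≤ (t + 1) ^ a := Nat.one_le_pow _ _ (by omega)
  obtain ⟨Q, hQ⟩ : ∃ Q, (t + 1) ^ a = Q + 1 := ⟨(t + 1) ^ a - 1, by omega⟩
  rw [pow_succ, hQ]
  have h2 : (Q + 1) * (t + 1) - 1 = Q * t + Q + t := by
    have : (Q + 1) * (t + 1) = Q * t + Q + t + 1 := by ring
    omega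
  rw [h2, Nat.add_sub_cancel]
  rcases Nat.eq_zero_or_pos a with rfl | ha
  · simp at hQ; subst hQ; simp
  · rcases Nat.eq_zero_or_pos t with rfl | ht
    · simp at hQ; subst hQ; simp
    · have h3 : 1 * 1 ≤ a * t := Nat.mul_le_mul ha ht
      nlinarith only [h3]

theorem conv {q a d : ℕ} (hq : 1 ≤ q) (had : a ≤ d) : d * (q ^ a - 1) ≤ a * (q ^ d - 1) := by
  induction d, had using Nat.le_induction with
  | base => exact le_rfl
  | succ d had ih =>
    rcases Nat.eq_zero_or_pos d with rfl | hd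
    · obtain rfl : a = 0 := by omega
      simp
    · have h1 := conv1 (a := d) hq
      refine Nat.le_of_mul_le_mul_left ?_ hd
      calc d * ((d + 1) * (q ^ a - 1)) = (d + 1) * (d * (q ^ a - 1)) := by ring
        _ ≤ (d + 1) * (a * (q ^ d - 1)) := Nat.mul_le_mul_left _ ih
        _ = a * ((d + 1) * (q ^ d - 1)) := by ring
        _ ≤ a * (d * (q ^ (d + 1) - 1)) := Nat.mul_le_mul_left _ h1
        _ = d * (a * (q ^ (d + 1) - 1)) := by ring

theorem natCard_le_sum {ι X : Type*} [Fintype ι] [Finite X] (P : X → Prop) (Q : ι → X → Prop)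
    (h : ∀ x, P x → ∃ i, Q i x) : Nat.card {x // P x} ≤ ∑ i, Nat.card {x // Q i x} := by
  rw [← Nat.card_sigma]
  choose g hg using h
  refine Nat.card_le_card_of_injective
    (fun x : {x // P x} => (⟨g x x.2, ⟨x, hg x x.2⟩⟩ : Σ i, {x // Q i x})) ?_
  intro x y hxy
  have h1 := (Sigma.mk.inj_iff.1 hxy).1
  have h2 := (Sigma.mk.inj_iff.1 hxy).2
  have h3 : ∀ (i j : ι) (a : {x // Q i x}) (b : {x // Q j x}), i = j → HEq a b → (a : X) = b := by
    rintro i _ a b rfl hab
    rw [eq_of_heq hab]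
  exact Subtype.ext (h3 _ _ _ _ h1 h2)

theorem natCard_ne_zero_and {X : Type*} [AddGroup X] [Finite X] (P : X → Prop) (h0 : P 0) :
    Nat.card {x // x ≠ 0 ∧ P x} = Nat.card {x // P x} - 1 := by
  let _ : Fintype X := Fintype.ofFinite X
  have h1 : Finset.univ.filter (fun x : X => x ≠ 0 ∧ P x) = (Finset.univ.filter (fun x : X => P x)).erase 0 := by
    ext x; simp only [_root_.ne_eq, _root_.Finset.mem_filter, _root_.Finset.mem_univ, _root_.true_and, _root_.Finset.mem_erase]
  rw [Nat.card_eq_fintype_card, Nat.card_eq_fintype_card, Fintype.card_subtype, Fintype.card_subtype, h1,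
    Finset.card_erase_of_mem (by simpa using h0)]

theorem natCard_ne_zero : Nat.card {v : V // v ≠ 0} = Nat.card V - 1 := by
  have h1 := natCard_ne_zero_and (fun _ : V => True) trivial
  rw [Nat.card_congr (Equiv.subtypeUnivEquiv (fun _ : V => trivial))] at h1
  rw [← h1]
  exact Nat.card_congr (Equiv.subtypeEquivRight (by simp))

/-- the number of non-zero eigenvectors of an element of `L` -/
theorem eig_card (H : QS p K V G L h) {d k : ℕ} (y : L)
    (hd : ∀ c : K, Nat.card {v : V // (y : V ≃ₗ[ZMod p] V) v = c • v} ≤ Nat.card K ^ d)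
    (hk : Module.finrank K V ≤ k * d) :
    Nat.card {v : V // v ≠ 0 ∧ ∃ c : K, (y : V ≃ₗ[ZMod p] V) v = c • v} ≤
      k * (Nat.card K ^ d - 1) := by
  have := finK H
  have : Module.Finite K V := Module.Finite.of_finite
  let _ : Fintype K := Fintype.ofFinite K
  set q := Nat.card K with hq
  have hq1 : 1 < q := Finite.one_lt_card
  let E : K → Submodule K V := fun c => Module.End.eigenspace (kl H y) c
  have hE : ∀ (c : K) (v : V), v ∈ E c ↔ (y : V ≃ₗ[ZMod p] V) v = c • v := by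
    intro c v
    exact Module.End.mem_eigenspace_iff
  have hcard : ∀ c, Nat.card (E c) = q ^ Module.finrank K (E c) := fun c =>
    Module.natCard_eq_pow_finrank
  have hcard2 : ∀ c, Nat.card (E c) = Nat.card {v : V // (y : V ≃ₗ[ZMod p] V) v = c • v} := fun c =>
    Nat.card_congr (Equiv.subtypeEquivRight (hE c))
  have had : ∀ c, Module.finrank K (E c) ≤ d := by
    intro c
    have h1 := hd c
    rw [← hcard2, hcard] at h1
    exact (Nat.pow_le_pow_iff_right hq1).1 h1
  have hsum : ∑ c, Module.finrank K (E c) ≤ Module.finrank K V :=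
    sum_finrank_le E (Module.End.eigenspaces_iSupIndep _)
  -- the set of eigenvectors
  have h1 : Nat.card {v : V // v ≠ 0 ∧ ∃ c : K, (y : V ≃ₗ[ZMod p] V) v = c • v} ≤
      ∑ c : K, (q ^ Module.finrank K (E c) - 1) := by
    refine (natCard_le_sum (ι := K) _ (fun c v => v ≠ 0 ∧ (y : V ≃ₗ[ZMod p] V) v = c • v)
      (fun v hv => ?_)).trans (le_of_eq ?_)
    · obtain ⟨hv0, c, hc⟩ := hv
      exact ⟨c, hv0, hc⟩
    · refine Finset.sum_congr rfl (fun c _ => ?_)
      rw [natCard_ne_zero_and _ (by rw [map_zero, smul_zero]), ← hcard2, hcard]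
  refine h1.trans ?_
  rcases Nat.eq_zero_or_pos d with rfl | hd0
  · have : ∀ c, Module.finrank K (E c) = 0 := fun c => Nat.le_zero.1 (had c)
    simp [this]
  · refine Nat.le_of_mul_le_mul_left ?_ hd0
    calc d * ∑ c : K, (q ^ Module.finrank K (E c) - 1)
        = ∑ c : K, d * (q ^ Module.finrank K (E c) - 1) := Finset.mul_sum _ _ _
      _ ≤ ∑ c : K, Module.finrank K (E c) * (q ^ d - 1) :=
          Finset.sum_le_sum (fun c _ => conv hq1.le (had c))
      _ = (∑ c : K, Module.finrank K (E c)) * (q ^ d - 1) := (Finset.sum_mul _ _ _).symm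
      _ ≤ (k * d) * (q ^ d - 1) := Nat.mul_le_mul_right _ (hsum.trans hk)
      _ = d * (k * (q ^ d - 1)) := by ring

omit [Finite V] in
theorem card_zpowers_mk (x : L) {r : ℕ} (hr : r.Prime) (h1 : x ∉ Subgroup.center L)
    (h2 : x ^ r ∈ Subgroup.center L) :
    Nat.card (Subgroup.zpowers (QuotientGroup.mk x : L ⧸ Subgroup.center L)) = r := by
  rw [Nat.card_zpowers]
  have : Fact r.Prime := ⟨hr⟩
  refine orderOf_eq_prime ?_ ?_
  · rw [← QuotientGroup.mk_pow]
    exact (QuotientGroup.eq_one_iff _).2 h2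
  · intro h3
    exact h1 ((QuotientGroup.eq_one_iff _).1 h3)

/-- a subgroup of prime order is generated by any of its elements `≠ 1` -/
theorem exists_rep {S : Type*} [Group S] {r : ℕ} (hr : r.Prime) {R : Subgroup S} (hR : Nat.card R = r) :
    ∃ s : S, R = Subgroup.zpowers s := by
  have : Fact r.Prime := ⟨hr⟩
  have : IsCyclic R := isCyclic_of_prime_card hR
  obtain ⟨s, hs⟩ := IsCyclic.exists_generator (α := R)
  refine ⟨s, le_antisymm ?_ ?_⟩
  · intro t ht
    obtain ⟨k, hk⟩ := Subgroup.mem_zpowers_iff.1 (hs ⟨t, ht⟩)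
    exact Subgroup.mem_zpowers_iff.2 ⟨k, by rw [← Subgroup.coe_zpow, hk]⟩
  · exact (Subgroup.zpowers_le).2 s.2

/-- **coverage, general form.** -/
theorem cov_sum (H : QS p K V G L h) {r : ℕ} (hr : r.Prime) (hrh : r ∣ h)
    (hout : ¬ r ∣ Nat.card (MulAut (L ⧸ Subgroup.center L)) / Nat.card (L ⧸ Subgroup.center L))
    (f : Subgroup (L ⧸ Subgroup.center L) → ℕ)
    (hf : ∀ x : L, x ∉ Subgroup.center L → x ^ r ∈ Subgroup.center L →
      Nat.card {v : V // v ≠ 0 ∧ ∃ c : K, (x : V ≃ₗ[ZMod p] V) v = c • v} ≤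
        f (Subgroup.zpowers (QuotientGroup.mk x))) :
    Nat.card V - 1 ≤ ∑ R : {R : Subgroup (L ⧸ Subgroup.center L) // Nat.card R = r}, f R := by
  have hrep : ∀ R : {R : Subgroup (L ⧸ Subgroup.center L) // Nat.card R = r},
      ∃ y : L, R.1 = Subgroup.zpowers (QuotientGroup.mk y : L ⧸ Subgroup.center L) := by
    intro R
    obtain ⟨s, hs⟩ := exists_rep hr R.2
    obtain ⟨y, rfl⟩ := QuotientGroup.mk_surjective s
    exact ⟨y, hs⟩
  choose Y hY using hrep
  have hY1 : ∀ R, Y R ∉ Subgroup.center L := by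
    intro R hc
    have h1 : (QuotientGroup.mk (Y R) : L ⧸ Subgroup.center L) = 1 := (QuotientGroup.eq_one_iff _).2 hc
    have h2 := R.2
    rw [hY R, h1, Subgroup.zpowers_one_eq_bot, Subgroup.card_bot] at h2
    exact hr.one_lt.ne h2
  have hY2 : ∀ R, Y R ^ r ∈ Subgroup.center L := by
    intro R
    rw [← QuotientGroup.eq_one_iff, QuotientGroup.mk_pow]
    have h2 := R.2
    rw [hY R, Nat.card_zpowers] at h2
    rw [← h2]
    exact pow_orderOf_eq_one _
  rw [← natCard_ne_zero]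
  refine (natCard_le_sum (ι := {R : Subgroup (L ⧸ Subgroup.center L) // Nat.card R = r}) _
    (fun R v => v ≠ 0 ∧ ∃ c : K, (Y R : V ≃ₗ[ZMod p] V) v = c • v) (fun v hv => ?_)).trans
      (Finset.sum_le_sum (fun R _ => ?_))
  · obtain ⟨x, hx1, hx2, c, hc⟩ := cov H hr hrh hout v hv
    refine ⟨⟨Subgroup.zpowers (QuotientGroup.mk x), card_zpowers_mk x hr hx1 hx2⟩, hv, ?_⟩
    set R : {R : Subgroup (L ⧸ Subgroup.center L) // Nat.card R = r} :=
      ⟨Subgroup.zpowers (QuotientGroup.mk x), card_zpowers_mk x hr hx1 hx2⟩ with hR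
    have h1 : (QuotientGroup.mk (Y R) : L ⧸ Subgroup.center L) ∈
        Subgroup.zpowers (QuotientGroup.mk x : L ⧸ Subgroup.center L) := by
      have h2 : (QuotientGroup.mk (Y R) : L ⧸ Subgroup.center L) ∈ R.1 := (hY R).symm ▸ Subgroup.mem_zpowers _
      exact h2
    obtain ⟨j, hj⟩ : ∃ i : ℕ, (QuotientGroup.mk x : L ⧸ Subgroup.center L) ^ i = QuotientGroup.mk (Y R) :=
      (mem_powers_iff_mem_zpowers (x := (QuotientGroup.mk x : L ⧸ Subgroup.center L))).2 h1
    have h3 : (x ^ j)⁻¹ * Y R ∈ Subgroup.center L := by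
      rw [← QuotientGroup.eq_one_iff, QuotientGroup.mk_mul, QuotientGroup.mk_inv, QuotientGroup.mk_pow, hj,
        inv_mul_cancel]
    obtain ⟨d, hd⟩ := scal_of_mem_center H h3
    have h4 : ∀ k : ℕ, ((x ^ k : L) : V ≃ₗ[ZMod p] V) v = c ^ k • v := by
      intro k
      induction k with
      | zero => simp only [_root_.pow_zero, _root_.OneMemClass.coe_one, _root_.LinearEquiv.coe_one, _root_.id_eq, _root_.one_smul]
      | succ k ih =>
        rw [pow_succ, Subgroup.coe_mul]
        change ((x ^ k : L) : V ≃ₗ[ZMod p] V) ((x : V ≃ₗ[ZMod p] V) v) = _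
        rw [hc, H.lin _ (x ^ k).2, ih, smul_smul, ← pow_succ']
    refine ⟨d * c ^ j, ?_⟩
    have h5 : ((Y R : L) : V ≃ₗ[ZMod p] V) v =
        ((x ^ j : L) : V ≃ₗ[ZMod p] V) (((((x ^ j)⁻¹ * Y R : L)) : V ≃ₗ[ZMod p] V) v) := by
      change _ = (((x ^ j * ((x ^ j)⁻¹ * Y R) : L)) : V ≃ₗ[ZMod p] V) v
      rw [mul_inv_cancel_left]
    rw [h5, hd, H.lin _ (x ^ j).2, h4, smul_smul]
  · have h1 := hf (Y R) (hY1 R) (hY2 R)
    rw [← hY R] at h1
    exact h1

/-- **(COV), counted.** -/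
theorem cov_card (H : QS p K V G L h) {r : ℕ} (hr : r.Prime) (hrh : r ∣ h)
    (hout : ¬ r ∣ Nat.card (MulAut (L ⧸ Subgroup.center L)) / Nat.card (L ⧸ Subgroup.center L))
    {d k N : ℕ}
    (hd : ∀ x : L, x ∉ Subgroup.center L → x ^ r ∈ Subgroup.center L → ∀ c : K,
      Nat.card {v : V // (x : V ≃ₗ[ZMod p] V) v = c • v} ≤ Nat.card K ^ d)
    (hk : Module.finrank K V ≤ k * d)
    (hN : Nat.card {R : Subgroup (L ⧸ Subgroup.center L) // Nat.card R = r} ≤ N) :
    Nat.card K ^ Module.finrank K V - 1 ≤ N * k * (Nat.card K ^ d - 1) := by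
  have h1 := cov_sum H hr hrh hout (fun _ => k * (Nat.card K ^ d - 1))
    (fun x hx1 hx2 => eig_card H x (hd x hx1 hx2) hk)
  rw [← card_V H]
  refine h1.trans ?_
  rw [Finset.sum_const, smul_eq_mul, Finset.card_univ, ← Nat.card_eq_fintype_card, mul_assoc]
  exact Nat.mul_le_mul_right _ hN

/-! ### Coverage by elements of `L` -/

/-- (COVL) -/
theorem covL (H : QS p K V G L h) {r a : ℕ} (hr : r.Prime) (ha : r ^ a ∣ Nat.card L)
    (hna : ¬ r ^ a ∣ Nat.card V - 1) :
    ∀ v : V, v ≠ 0 → ∃ x : L, orderOf x = r ∧ (x : V ≃ₗ[ZMod p] V) v = v := by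
  intro v hv
  have : Fact r.Prime := ⟨hr⟩
  have h0 : 0 < h := lt_of_lt_of_le (by norm_num) H.two_le
  obtain ⟨m, hm, -⟩ := exists_m H.half ⟨v, hv⟩
  have h1 := orbit_normal_dvd_m H.half h0 hm L H.le H.nrm hv
  have h2 := dvd_card_sub_one H.half h0 hm
  have h3 := MulAction.card_orbit_mul_card_stabilizer_eq_card_group L v
  rw [← Nat.card_eq_fintype_card, ← Nat.card_eq_fintype_card, ← Nat.card_eq_fintype_card] at h3
  have h4 : r ∣ Nat.card (MulAction.stabilizer L v) := by
    by_contra hc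
    apply hna
    refine dvd_trans ?_ (h1.trans h2)
    have h5 : Nat.Coprime (r ^ a) (Nat.card (MulAction.stabilizer L v)) :=
      Nat.Coprime.pow_left _ ((Nat.Prime.coprime_iff_not_dvd hr).2 hc)
    rw [← h3] at ha
    exact h5.dvd_of_dvd_mul_right ha
  obtain ⟨g, hg⟩ := exists_prime_orderOf_dvd_card' r h4
  refine ⟨(g : L), ?_, g.2⟩
  rw [← hg, Subgroup.orderOf_coe]

/-- **(COVL), general form.** -/
theorem covL_sum (H : QS p K V G L h) {r a : ℕ} (hr : r.Prime) (ha : r ^ a ∣ Nat.card L)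
    (hna : ¬ r ^ a ∣ Nat.card V - 1) (hz : ¬ r ∣ Nat.card (Subgroup.center L))
    (f : Subgroup (L ⧸ Subgroup.center L) → ℕ)
    (hf : ∀ x : L, orderOf x = r →
      Nat.card {v : V // v ≠ 0 ∧ (x : V ≃ₗ[ZMod p] V) v = v} ≤ f (Subgroup.zpowers (QuotientGroup.mk x))) :
    Nat.card V - 1 ≤ ∑ R : {R : Subgroup (L ⧸ Subgroup.center L) // Nat.card R = r}, f R := by
  have hnc : ∀ x : L, orderOf x = r → x ∉ Subgroup.center L := by
    intro x hx hc
    apply hz
    rw [← hx, ← Subgroup.orderOf_mk x hc]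
    exact orderOf_dvd_natCard _
  let Y : {R : Subgroup (L ⧸ Subgroup.center L) // Nat.card R = r} → L := fun R =>
    if hR : ∃ x : L, orderOf x = r ∧ R.1 = Subgroup.zpowers (QuotientGroup.mk x : L ⧸ Subgroup.center L) then
      hR.choose else 1
  have hY : ∀ (R : {R : Subgroup (L ⧸ Subgroup.center L) // Nat.card R = r}) (x : L), orderOf x = r →
      R.1 = Subgroup.zpowers (QuotientGroup.mk x : L ⧸ Subgroup.center L) →
      orderOf (Y R) = r ∧ R.1 = Subgroup.zpowers (QuotientGroup.mk (Y R) : L ⧸ Subgroup.center L) := by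
    intro R x h1 h2
    have hR : ∃ x : L, orderOf x = r ∧ R.1 = Subgroup.zpowers (QuotientGroup.mk x : L ⧸ Subgroup.center L) :=
      ⟨x, h1, h2⟩
    have : Y R = hR.choose := dif_pos hR
    rw [this]
    exact hR.choose_spec
  rw [← natCard_ne_zero]
  refine (natCard_le_sum (ι := {R : Subgroup (L ⧸ Subgroup.center L) // Nat.card R = r}) _
    (fun R v => v ≠ 0 ∧ orderOf (Y R) = r ∧
      R.1 = Subgroup.zpowers (QuotientGroup.mk (Y R) : L ⧸ Subgroup.center L) ∧
      (Y R : V ≃ₗ[ZMod p] V) v = v) (fun v hv => ?_)).trans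
      (Finset.sum_le_sum (fun R _ => ?_))
  · obtain ⟨x, hx1, hx⟩ := covL H hr ha hna v hv
    have hx2 : x ^ r ∈ Subgroup.center L := by
      rw [← hx1, pow_orderOf_eq_one]; exact one_mem _
    refine ⟨⟨Subgroup.zpowers (QuotientGroup.mk x), card_zpowers_mk x hr (hnc x hx1) hx2⟩, hv, ?_⟩
    set R : {R : Subgroup (L ⧸ Subgroup.center L) // Nat.card R = r} :=
      ⟨Subgroup.zpowers (QuotientGroup.mk x), card_zpowers_mk x hr (hnc x hx1) hx2⟩ with hR
    obtain ⟨hy1, hy2⟩ := hY R x hx1 rfl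
    refine ⟨hy1, hy2, ?_⟩
    have h1 : (QuotientGroup.mk (Y R) : L ⧸ Subgroup.center L) ∈
        Subgroup.zpowers (QuotientGroup.mk x : L ⧸ Subgroup.center L) := by
      have h2 : (QuotientGroup.mk (Y R) : L ⧸ Subgroup.center L) ∈ R.1 := hy2.symm ▸ Subgroup.mem_zpowers _
      exact h2
    obtain ⟨j, hj⟩ : ∃ i : ℕ, (QuotientGroup.mk x : L ⧸ Subgroup.center L) ^ i = QuotientGroup.mk (Y R) :=
      (mem_powers_iff_mem_zpowers (x := (QuotientGroup.mk x : L ⧸ Subgroup.center L))).2 h1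
    set z := (x ^ j)⁻¹ * Y R with hz'
    have h3 : z ∈ Subgroup.center L := by
      rw [← QuotientGroup.eq_one_iff, hz', QuotientGroup.mk_mul, QuotientGroup.mk_inv, QuotientGroup.mk_pow, hj,
        inv_mul_cancel]
    have h4 : Y R = x ^ j * z := by rw [hz', mul_inv_cancel_left]
    have h5 : z ^ r = 1 := by
      have h6 : Commute (x ^ j) z := Subgroup.mem_center_iff.1 h3 (x ^ j)
      have h7 : (Y R) ^ r = 1 := by rw [← hy1, pow_orderOf_eq_one]
      rw [h4, h6.mul_pow, ← pow_mul, mul_comm j, pow_mul, ← hx1, pow_orderOf_eq_one, one_pow, one_mul, hx1] at h7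
      exact h7
    have h6 : z = 1 := by
      by_contra hne
      have : Fact r.Prime := ⟨hr⟩
      have h7 : orderOf z = r := orderOf_eq_prime h5 hne
      exact hnc z h7 h3
    rw [h4, h6, mul_one]
    have h7 : ∀ k : ℕ, ((x ^ k : L) : V ≃ₗ[ZMod p] V) v = v := by
      intro k
      induction k with
      | zero => simp
      | succ k ih =>
        rw [pow_succ, Subgroup.coe_mul]
        change ((x ^ k : L) : V ≃ₗ[ZMod p] V) ((x : V ≃ₗ[ZMod p] V) v) = _
        rw [hx, ih]
    exact h7 j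
  · by_cases hc : orderOf (Y R) = r ∧
      R.1 = Subgroup.zpowers (QuotientGroup.mk (Y R) : L ⧸ Subgroup.center L)
    · have h1 := hf (Y R) hc.1
      rw [← hc.2] at h1
      refine le_trans (le_of_eq ?_) h1
      exact Nat.card_congr (Equiv.subtypeEquivRight (fun v =>
        ⟨fun h => ⟨h.1, h.2.2.2⟩, fun h => ⟨h.1, hc.1, hc.2, h.2⟩⟩))
    · have : IsEmpty {v : V // v ≠ 0 ∧ orderOf (Y R) = r ∧
          R.1 = Subgroup.zpowers (QuotientGroup.mk (Y R) : L ⧸ Subgroup.center L) ∧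
          (Y R : V ≃ₗ[ZMod p] V) v = v} := ⟨fun v => hc ⟨v.2.2.1, v.2.2.2.1⟩⟩
      rw [Nat.card_of_isEmpty]
      exact Nat.zero_le _

/-- **(COVL), counted.** -/
theorem covL_card (H : QS p K V G L h) {r a : ℕ} (hr : r.Prime) (ha : r ^ a ∣ Nat.card L)
    (hna : ¬ r ^ a ∣ Nat.card V - 1) (hz : ¬ r ∣ Nat.card (Subgroup.center L)) {d N : ℕ}
    (hd : ∀ x : L, orderOf x = r → Nat.card {v : V // (x : V ≃ₗ[ZMod p] V) v = v} ≤ Nat.card K ^ d)
    (hN : Nat.card {R : Subgroup (L ⧸ Subgroup.center L) // Nat.card R = r} ≤ N) :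
    Nat.card K ^ Module.finrank K V - 1 ≤ N * (Nat.card K ^ d - 1) := by
  have h1 := covL_sum H hr ha hna hz (fun _ => Nat.card K ^ d - 1) (fun x hx => by
    rw [natCard_ne_zero_and (fun v : V => (x : V ≃ₗ[ZMod p] V) v = v) (map_zero _)]
    exact Nat.sub_le_sub_right (hd x hx) 1)
  rw [← card_V H]
  refine h1.trans ?_
  rw [Finset.sum_const, smul_eq_mul, Finset.card_univ, ← Nat.card_eq_fintype_card]
  exact Nat.mul_le_mul_right _ hN

/-! ### Elements with fixed vectors -/

/-- the sum of the powers of `x` -/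
def sp (x : V ≃ₗ[ZMod p] V) (r : ℕ) (v : V) : V := ∑ i ∈ Finset.range r, (x ^ i) v

omit [Finite V] in
theorem sp_fixed {x : V ≃ₗ[ZMod p] V} {r : ℕ} (hx : x ^ r = 1) (v : V) : x (sp x r v) = sp x r v := by
  rcases Nat.eq_zero_or_pos r with rfl | hr
  · simp only [sp, _root_.Finset.range_zero, _root_.Finset.sum_empty, _root_.map_zero]
  obtain ⟨r, rfl⟩ : ∃ s, r = s + 1 := ⟨r - 1, by omega⟩
  unfold sp
  rw [map_sum]
  have h1 : ∀ i, x ((x ^ i) v) = (x ^ (i + 1)) v := by
    intro i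
    rw [pow_succ']; rfl
  rw [Finset.sum_congr rfl (fun i _ => h1 i), Finset.sum_range_succ, Finset.sum_range_succ']
  rw [hx, pow_zero]

/-- a non-identity element of order `r`, prime, of `G` without fixed vector sums up to zero -/
theorem sp_zero (H : QS p K V G L h) {r : ℕ} (hr : r.Prime) (hrh : ¬ r ∣ h) {x : V ≃ₗ[ZMod p] V} (hx : x ∈ G)
    (hxr : x ^ r = 1) (hx1 : x ≠ 1) (v : V) : sp x r v = 0 := by
  by_contra hc
  have : Fact r.Prime := ⟨hr⟩
  apply hrh
  refine dvd_h H.half (g := ⟨x, hx⟩) ?_ hc (sp_fixed hxr v)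
  refine orderOf_eq_prime (Subtype.ext hxr) ?_
  intro h1
  exact hx1 (congrArg Subtype.val h1)

theorem p_ne (H : QS p K V G L h) {r : ℕ} (hr : r.Prime) {x : V ≃ₗ[ZMod p] V} (hx : x ∈ G)
    (hxr : x ^ r = 1) (hx1 : x ≠ 1) : r ≠ p := by
  rintro rfl
  apply H.cop
  have : orderOf (⟨x, hx⟩ : G) = r := by
    refine orderOf_eq_prime (Subtype.ext hxr) ?_
    intro h1
    exact hx1 (congrArg Subtype.val h1)
  have h2 : orderOf (⟨x, hx⟩ : G) ∣ Nat.card G := orderOf_dvd_natCard _
  rwa [this] at h2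

omit [Finite V] in
theorem cast_smul_eq_zero {n : ℕ} (hn : ¬ p ∣ n) {v : V} (h : n • v = 0) : v = 0 := by
  have h1 : ((n : ZMod p)) • v = 0 := by rw [Nat.cast_smul_eq_nsmul, h]
  rcases smul_eq_zero.1 h1 with h2 | h2
  · exact absurd ((ZMod.natCast_eq_zero_iff _ _).1 h2) hn
  · exact h2

/-- **(R2)**, for two commuting elements of order `r`. -/
theorem rank_two' (H : QS p K V G L h) {r : ℕ} (hr : r.Prime) {a b : V ≃ₗ[ZMod p] V} (ha : a ∈ G) (hb : b ∈ G)
    (hab : a * b = b * a) (har : a ^ r = 1) (hbr : b ^ r = 1) (ha1 : a ≠ 1)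
    (hba : b ∉ Subgroup.zpowers a) : r ∣ h := by
  by_contra hrh
  obtain ⟨v, hv⟩ := exists_ne_zero H
  apply hv
  have hcomm : Commute a b := hab
  -- the elements `a ^ i * b`
  have h1 : ∀ i, sp (a ^ i * b) r v = 0 := by
    intro i
    refine sp_zero H hr hrh (G.mul_mem (G.pow_mem ha i) hb) ?_ ?_ v
    · rw [(hcomm.pow_left i).mul_pow, ← pow_mul, mul_comm i, pow_mul, har, one_pow, hbr, mul_one]
    · intro hc
      apply hba
      have : b = (a ^ i)⁻¹ := (inv_eq_of_mul_eq_one_right hc).symm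
      rw [this]
      exact Subgroup.inv_mem _ (Subgroup.pow_mem _ (Subgroup.mem_zpowers a) i)
  have h2 : ∑ i ∈ Finset.range r, sp (a ^ i * b) r v = 0 :=
    Finset.sum_eq_zero (fun i _ => h1 i)
  unfold sp at h2
  rw [Finset.sum_comm] at h2
  have h3 : ∀ j ∈ Finset.range r, j ≠ 0 → ∑ i ∈ Finset.range r, ((a ^ i * b) ^ j) v = 0 := by
    intro j hj hj0
    have hjr : j < r := Finset.mem_range.1 hj
    have h4 : ∀ i, ((a ^ i * b) ^ j) v = ((a ^ j) ^ i) ((b ^ j) v) := by
      intro i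
      rw [(hcomm.pow_left i).mul_pow, ← pow_mul, mul_comm i, pow_mul]; rfl
    rw [Finset.sum_congr rfl (fun i _ => h4 i)]
    refine sp_zero H hr hrh (G.pow_mem ha j) ?_ ?_ _
    · rw [← pow_mul, mul_comm, pow_mul, har, one_pow]
    · intro hc
      have h5 : orderOf a = r := by
        have : Fact r.Prime := ⟨hr⟩
        exact orderOf_eq_prime har ha1
      have h6 := orderOf_dvd_of_pow_eq_one hc
      rw [h5] at h6
      exact absurd (Nat.le_of_dvd (by omega) h6) (by omega)
  rw [Finset.sum_eq_single_of_mem 0 (Finset.mem_range.2 hr.pos) h3] at h2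
  simp only [pow_zero] at h2
  rw [Finset.sum_const, Finset.card_range] at h2
  refine cast_smul_eq_zero (p := p) ?_ h2
  intro hd
  exact p_ne H hr ha har ha1 ((Nat.prime_dvd_prime_iff_eq (Fact.out : p.Prime) hr).1 hd).symm

end Cfsg.Agent.H578.HT

private theorem dce_fdaf638ef3f3 : _root_.True := by
  try have : _root_.True := by simp only [_root_.Cfsg.Agent.H578.HT.sp.eq_1]
  exact _root_.True.intro
end

-- part: H337/HT/Cand
section
prune_inst 0x4f1100f0107401000001c0082410002b52500019000400000480407440a0002622001a80100000116022200800004003813000430420000000a0004000025060910aa100031550c08840006000000400000000000000000000000000000000000200400000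
set_option linter.all false
open scoped Cfsg.Agent.FastGrp

/-!
# S3540, quasisimple rows: from the setting `QS` to the numerical conditions `Cand`
-/

set_option autoImplicit false

universe u w

namespace Cfsg.Agent.H337.HT

open Cfsg.Agent.H828.HT

section half

variable {p : ℕ} [Fact p.Prime] {V : Type u} [AddCommGroup V] [Module (ZMod p) V] [Finite V]
  {G : Subgroup (V ≃ₗ[ZMod p] V)} {h : ℕ}

/-- the sharp form of `H828.HT.card_le` -/
theorem half_le (hG : ¬ p ∣ Nat.card G) (hh : Half G h) (h0 : 0 < h) {m : ℕ} (hm : m * h = Nat.card G) :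
    (h - 1) * Nat.card V ≤ h * m ^ 2 := by
  classical
  have h1 := sum_fx_half hh
  rw [← Finset.add_sum_erase _ _ (Finset.mem_univ (1 : G))] at h1
  have e1 : Nat.card (fx ((1 : G) : V ≃ₗ[ZMod p] V)) = Nat.card V := by
    rw [Subgroup.coe_one, fx_one]
    exact Nat.card_congr Submodule.topEquiv.toEquiv
  rw [e1] at h1
  have h2 : ∑ g ∈ Finset.univ.erase (1 : G), Nat.card (fx (g : V ≃ₗ[ZMod p] V)) ≤
      ∑ _g ∈ Finset.univ.erase (1 : G), (m - 1) := by
    refine Finset.sum_le_sum fun g hg => ?_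
    have := fx_lt hG hh h0 hm (Finset.ne_of_mem_erase hg)
    omega
  rw [Finset.sum_const, Finset.card_erase_of_mem (Finset.mem_univ _), Finset.card_univ,
    ← Nat.card_eq_fintype_card, smul_eq_mul, ← hm] at h2
  rw [← hm] at h1
  have hGpos : 0 < Nat.card G := Nat.card_pos
  rw [← hm] at hGpos
  obtain ⟨k, rfl⟩ : ∃ k, h = k + 1 := ⟨h - 1, by omega⟩
  obtain ⟨j, rfl⟩ : ∃ j, m = j + 1 := ⟨m - 1, by
    have : 0 < m := by
      rcases Nat.eq_zero_or_pos m with rfl | hm0
      · simp at hGpos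
      · exact hm0
    omega⟩
  simp only [Nat.add_sub_cancel] at h2 ⊢
  set N := Nat.card V
  set s := ∑ g ∈ Finset.univ.erase (1 : G), Nat.card (fx (g : V ≃ₗ[ZMod p] V))
  have h3 : (j + 1) * (k + 1) - 1 = j * k + j + k := by
    have : (j + 1) * (k + 1) = j * k + j + k + 1 := by ring
    omega
  rw [h3] at h2
  nlinarith only [h2, h1]

end half

variable {p : ℕ} [Fact p.Prime] {K : Type w} [Field K] {V : Type u} [AddCommGroup V] [Module (ZMod p) V] [Finite V]
    [Module K V] {G L : Subgroup (V ≃ₗ[ZMod p] V)} {h : ℕ}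

namespace QS

theorem exists_ne (H : QS p K V G L h) : ∃ v : V, v ≠ 0 := by
  obtain ⟨a, -, b, -, hab⟩ := H.nonab
  by_contra hcon
  push Not at hcon
  exact hab (LinearEquiv.ext fun v => by rw [hcon ((a * b) v), hcon ((b * a) v)])

theorem finiteK (H : QS p K V G L h) : Finite K := by
  obtain ⟨v, hv⟩ := H.exists_ne
  exact Finite.of_injective (fun c : K => c • v) fun a b hab => by
    by_contra hne
    have h1 : (a - b) • v = 0 := by rw [sub_smul, sub_eq_zero]; exact hab
    rcases smul_eq_zero.1 h1 with h2 | h2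
    · exact hne (sub_eq_zero.1 h2)
    · exact hv h2

theorem finiteDim (_ : QS p K V G L h) : Module.Finite K V := Module.Finite.of_finite

theorem card_V (_ : QS p K V G L h) : Nat.card V = Nat.card K ^ Module.finrank K V :=
  Module.natCard_eq_pow_finrank

theorem finrank_pos (H : QS p K V G L h) : 0 < Module.finrank K V := by
  have := H.finiteDim
  obtain ⟨v, hv⟩ := H.exists_ne
  have : Nontrivial V := ⟨v, 0, hv⟩
  exact Module.finrank_pos

theorem exists_card (H : QS p K V G L h) : ∃ k, Nat.card K = p ^ k ∧ 0 < k := by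
  have hK := H.finiteK
  have h1 : Nat.card K ∣ p ^ Module.finrank (ZMod p) V := by
    rw [← card_eq_pow (p := p) V, H.card_V]
    exact dvd_pow_self _ H.finrank_pos.ne'
  obtain ⟨k, -, hk⟩ := (Nat.dvd_prime_pow Fact.out).1 h1
  refine ⟨k, hk, Nat.pos_of_ne_zero ?_⟩
  rintro rfl
  have := Finite.one_lt_card (α := K)
  rw [hk, pow_zero] at this
  omega

theorem card_quot_dvd_L (_ : QS p K V G L h) : Nat.card (L ⧸ Subgroup.center L) ∣ Nat.card L :=
  Subgroup.card_quotient_dvd_card _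

theorem card_L_dvd (H : QS p K V G L h) : Nat.card L ∣ Nat.card G := Subgroup.card_dvd_of_le H.le

theorem coprime (H : QS p K V G L h) : (Nat.card K).Coprime (Nat.card (L ⧸ Subgroup.center L)) := by
  obtain ⟨k, hk, -⟩ := H.exists_card
  rw [hk]
  refine Nat.Coprime.pow_left k ((Nat.Prime.coprime_iff_not_dvd Fact.out).2 fun hd => H.cop ?_)
  exact hd.trans (H.card_quot_dvd_L.trans H.card_L_dvd)

theorem two_le_card (H : QS p K V G L h) : 2 ≤ Nat.card K := by
  have := H.finiteK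
  exact Finite.one_lt_card

/-! ### The action on `L / Z(L)` -/

/-- conjugation of `L` by an element of `G` -/
def cj (H : QS p K V G L h) : G →* MulAut L where
  toFun g :=
    { toFun := fun l => ⟨g * l * g⁻¹, H.nrm g g.2 l l.2⟩
      invFun := fun l => ⟨(g : V ≃ₗ[ZMod p] V)⁻¹ * l * g, by
        have := H.nrm _ (G.inv_mem g.2) l l.2
        rwa [inv_inv] at this⟩
      left_inv := fun l => Subtype.ext (by simp only [mul_assoc, _root_.InvMemClass.coe_inv, _root_.mul_assoc, _root_.inv_mul_cancel_left, _root_.inv_mul_cancel, _root_.mul_one])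
      right_inv := fun l => Subtype.ext (by simp only [mul_assoc, _root_.mul_assoc, _root_.mul_inv_cancel_left, _root_.InvMemClass.coe_inv, _root_.mul_inv_cancel, _root_.mul_one])
      map_mul' := fun a b => Subtype.ext (by simp only [mul_assoc, _root_.Subgroup.coe_mul, _root_.InvMemClass.coe_inv, _root_.mul_assoc, _root_.MulMemClass.mk_mul_mk, _root_.inv_mul_cancel_left]) }
  map_one' := by ext l : 2; simp only [_root_.OneMemClass.coe_one, _root_.one_mul, _root_.inv_one, _root_.mul_one, _root_.Subtype.coe_eta, _root_.MulEquiv.coe_mk, _root_.Equiv.coe_fn_mk, _root_.MulAut.one_apply]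
  map_mul' a b := by ext l : 2; simp only [mul_assoc, _root_.Subgroup.coe_mul, _root_.mul_assoc, _root_.mul_inv_rev, _root_.InvMemClass.coe_inv, _root_.MulEquiv.coe_mk, _root_.Equiv.coe_fn_mk, _root_.MulAut.mul_apply]

@[simp] theorem cj_apply (H : QS p K V G L h) (g : G) (l : L) :
    ((H.cj g l : L) : V ≃ₗ[ZMod p] V) = g * l * (g : V ≃ₗ[ZMod p] V)⁻¹ := rfl

/-- the induced action on `L / Z(L)` -/
def qt : MulAut L →* MulAut (L ⧸ Subgroup.center L) where
  toFun α := QuotientGroup.congr _ _ α (by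
    have : (Subgroup.center L).map (α : L →* L) = Subgroup.center L := by
      exact (Subgroup.characteristic_iff_map_eq.1 inferInstance) α
    exact this)
  map_one' := by
    ext x
    obtain ⟨l, rfl⟩ := QuotientGroup.mk_surjective x
    rfl
  map_mul' a b := by
    ext x
    obtain ⟨l, rfl⟩ := QuotientGroup.mk_surjective x
    rfl

@[simp] theorem qt_mk (α : MulAut L) (l : L) : qt α (l : L ⧸ Subgroup.center L) = (α l : L) := rfl

/-- an automorphism of a perfect group trivial modulo the centre is trivial -/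
theorem eq_one_of_qt (hP : commutator L = ⊤) {α : MulAut L} (hα : qt α = 1) : α = 1 := by
  have hz : ∀ l : L, α l * l⁻¹ ∈ Subgroup.center L := by
    intro l
    have h1 : qt α (l : L ⧸ Subgroup.center L) = l := by rw [hα]; rfl
    rw [qt_mk, QuotientGroup.eq] at h1
    have h2 := (Subgroup.center L).inv_mem h1
    rw [mul_inv_rev, inv_inv] at h2
    have h3 : α l * l⁻¹ = l * (l⁻¹ * α l) * l⁻¹ := by group
    rw [h3]
    exact (inferInstance : (Subgroup.center L).Normal).conj_mem _ h2 l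
  let z : L →* Subgroup.center L :=
    { toFun := fun l => ⟨α l * l⁻¹, hz l⟩
      map_one' := Subtype.ext (by simp only [_root_.map_one, _root_.inv_one, _root_.mul_one, _root_.OneMemClass.coe_one])
      map_mul' := fun a b => Subtype.ext (by
        change α (a * b) * (a * b)⁻¹ = α a * a⁻¹ * (α b * b⁻¹)
        have h1 := Subgroup.mem_center_iff.1 (hz b) a⁻¹
        calc α (a * b) * (a * b)⁻¹ = α a * (α b * b⁻¹ * a⁻¹) := by rw [map_mul]; group
          _ = α a * (a⁻¹ * (α b * b⁻¹)) := by rw [h1]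
          _ = _ := by group) }
  have hk : z.ker = ⊤ := by
    rw [eq_top_iff, ← hP]
    rw [commutator_def, Subgroup.commutator_le]
    intro a _ b _
    rw [MonoidHom.mem_ker, map_commutatorElement, commutatorElement_eq_one_iff_mul_comm]
    exact Subtype.ext (Subgroup.mem_center_iff.1 (z b).2 _)
  ext1 l
  have h1 : z l = 1 := by
    rw [← MonoidHom.mem_ker, hk]; trivial
  have h2 : α l * l⁻¹ = 1 := congrArg Subtype.val h1
  rw [MulAut.one_apply]
  exact mul_inv_eq_one.1 h2

/-- elements of `G` acting trivially on `L / Z(L)` are scalars -/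
theorem scalar_of_qt (H : QS p K V G L h) {g : G} (hg : qt (H.cj g) = 1) : ∃ c : K, ∀ v, (g : V ≃ₗ[ZMod p] V) v = c • v := by
  have h1 := eq_one_of_qt H.perf hg
  refine H.endo (g : V ≃ₗ[ZMod p] V) fun l hl v => ?_
  have h2 : H.cj g ⟨l, hl⟩ = ⟨l, hl⟩ := by rw [h1]; rfl
  have h3 : (g : V ≃ₗ[ZMod p] V) * l * (g : V ≃ₗ[ZMod p] V)⁻¹ = l := congrArg Subtype.val h2
  have h4 : (g : V ≃ₗ[ZMod p] V) * l = l * g := by rw [← mul_inv_eq_iff_eq_mul]; exact h3
  exact LinearEquiv.congr_fun h4 v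

/-- scalars as `𝔽_p`-linear automorphisms -/
def sc : Kˣ →* (V ≃ₗ[ZMod p] V) where
  toFun c :=
    { toFun := fun v => (c : K) • v
      map_add' := fun v w => smul_add _ _ _
      map_smul' := fun a v => by
        exact ZMod.map_smul (DistribMulAction.toAddMonoidHom V (c : K)) a v
      invFun := fun v => ((c⁻¹ : Kˣ) : K) • v
      left_inv := fun v => by simp [smul_smul]
      right_inv := fun v => by simp [smul_smul] }
  map_one' := by ext v; simp
  map_mul' a b := by
    ext v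
    change ((a * b : Kˣ) : K) • v = (a : K) • (b : K) • v
    rw [Units.val_mul, mul_smul]

@[simp] theorem sc_apply (c : Kˣ) (v : V) : (sc (p := p) c : V ≃ₗ[ZMod p] V) v = (c : K) • v := rfl

theorem card_G_dvd (H : QS p K V G L h) :
    Nat.card G ∣ (Nat.card K - 1) * Nat.card (MulAut (L ⧸ Subgroup.center L)) := by
  have hK := H.finiteK
  set f : G →* MulAut (L ⧸ Subgroup.center L) := qt.comp H.cj with hf
  have h1 : Nat.card G = Nat.card f.ker * Nat.card f.range := by
    rw [← Subgroup.index_ker f, mul_comm, Subgroup.index_mul_card]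
  rw [h1]
  refine Nat.mul_dvd_mul ?_ (Subgroup.card_subgroup_dvd_card _)
  have h2 : Nat.card f.ker = Nat.card (f.ker.map G.subtype) :=
    Nat.card_congr (f.ker.equivMapOfInjective _ G.subtype_injective).toEquiv
  have h3 : f.ker.map G.subtype ≤ (sc (p := p) (K := K) (V := V)).range := by
    rintro _ ⟨g, hg, rfl⟩
    obtain ⟨c, hc⟩ := H.scalar_of_qt (g := g) hg
    have hc0 : c ≠ 0 := by
      rintro rfl
      obtain ⟨v, hv⟩ := H.exists_ne
      apply hv
      have h4 := hc v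
      rw [zero_smul] at h4
      exact (g : V ≃ₗ[ZMod p] V).map_eq_zero_iff.1 h4
    exact ⟨Units.mk0 c hc0, LinearEquiv.ext fun v => by rw [sc_apply]; exact (hc v).symm⟩
  have h4 : Nat.card (sc (p := p) (K := K) (V := V)).range ∣ Nat.card Kˣ := Subgroup.card_range_dvd _
  rw [h2, ← Nat.card_units]
  exact (Subgroup.card_dvd_of_le h3).trans h4

/-- **The numerical conditions.** -/
theorem cand (H : QS p K V G L h) {R : ℕ} (hR : R ∣ h) :
    Cand R (Nat.card (L ⧸ Subgroup.center L)) (Nat.card (MulAut (L ⧸ Subgroup.center L)))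
      (Module.finrank K V) (Nat.card K) := by
  obtain ⟨m, hm, -⟩ := exists_m H.half H.exists_ne
  have h0 : 0 < h := by have := H.two_le; omega
  refine ⟨m, h, hR, H.two_le, ?_, ?_, ?_, ?_⟩
  · rw [← H.card_V]
    exact dvd_card_sub_one H.half h0 hm
  · rw [hm]
    exact H.card_quot_dvd_L.trans H.card_L_dvd
  · rw [hm]
    exact H.card_G_dvd
  · rw [← H.card_V]
    exact half_le H.cop H.half h0 hm

/-- a `Dead` simple quotient does not occur -/
theorem not_dead (H : QS p K V G L h) (hd : Dead (Module.finrank K V) (L ⧸ Subgroup.center L)) : False :=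
  hd _ H.two_le_card H.coprime (H.cand (one_dvd _))

end QS

end Cfsg.Agent.H337.HT
end

-- part: H199/HT/Plane
section
prune_inst 0x4d0106f05564010000004000260001eb7b300010000080000082404040d890e620040a820b83001060222888460340078130004204000000000000400013d07a990a852023351ad0c940007000000400000000000000000000000000000000000200400000
set_option linter.all false
open scoped Cfsg.Agent.FastGrp

/-!
# S3540, K6d: the plane `E = 5²` of `J₂` acting on a space of dimension 6 (helper199)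

* `kap`: the action of `L` by `K`-linear automorphisms; `kap_det`: determinant one;
* `lift_five`: the relations `Five` lift from `L / Z(L)` to `L`;
* `finrank_le_two`: elements of order 5 have fixed spaces of dimension at most 2 in dimension 6.
-/

set_option autoImplicit false
set_option linter.unusedSectionVars false

universe u w

namespace Cfsg.Agent.H199.HT

open Cfsg.Agent.H828.HT Cfsg.Agent.H337.HT Subgroup

section basic

variable {p : ℕ} [Fact p.Prime] {K : Type w} [Field K] {V : Type u} [AddCommGroup V] [Module (ZMod p) V] [Finite V]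
    [Module K V] {G L : Subgroup (V ≃ₗ[ZMod p] V)} {h : ℕ}

/-- the `K`-linear action of `L` -/
def kap (H : QS p K V G L h) : L →* (V ≃ₗ[K] V) where
  toFun l :=
    { toFun := fun v => (l : V ≃ₗ[ZMod p] V) v
      map_add' := fun v w => map_add _ v w
      map_smul' := fun c v => H.lin l l.2 c v
      invFun := fun v => ((l : V ≃ₗ[ZMod p] V)⁻¹ : V ≃ₗ[ZMod p] V) v
      left_inv := fun v => by
        change ((l : V ≃ₗ[ZMod p] V)⁻¹ * l) v = v
        rw [inv_mul_cancel]; rfl
      right_inv := fun v => by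
        change ((l : V ≃ₗ[ZMod p] V) * (l : V ≃ₗ[ZMod p] V)⁻¹) v = v
        rw [mul_inv_cancel]; rfl }
  map_one' := rfl
  map_mul' a b := rfl

@[simp] theorem kap_apply (H : QS p K V G L h) (l : L) (v : V) : kap H l v = (l : V ≃ₗ[ZMod p] V) v := rfl

theorem kap_injective (H : QS p K V G L h) : Function.Injective (kap H) := by
  intro a b hab
  apply Subtype.ext
  apply LinearEquiv.ext
  intro v
  exact LinearEquiv.congr_fun hab v

theorem kap_det (H : QS p K V G L h) (l : L) : LinearEquiv.det (kap H l) = 1 := by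
  have h1 : (LinearEquiv.det.comp (kap H)).ker = ⊤ := by
    rw [eq_top_iff, ← H.perf, commutator_def, Subgroup.commutator_le]
    intro a _ b _
    rw [MonoidHom.mem_ker, map_commutatorElement, commutatorElement_eq_one_iff_mul_comm]
    exact mul_comm _ _
  have h2 : l ∈ (LinearEquiv.det.comp (kap H)).ker := by rw [h1]; trivial
  exact h2

/-- central elements are scalars `c` with `c ^ n = 1` -/
theorem center_scalar (H : QS p K V G L h) {z : L} (hz : z ∈ center L) :
    ∃ c : K, c ^ Module.finrank K V = 1 ∧ ∀ v, (z : V ≃ₗ[ZMod p] V) v = c • v := by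
  obtain ⟨c, hc⟩ := H.endo ((z : V ≃ₗ[ZMod p] V) : V →ₗ[ZMod p] V) (by
    intro l hl v
    have h1 := Subgroup.mem_center_iff.1 hz ⟨l, hl⟩
    have h2 := congrArg (fun k : L => (k : V ≃ₗ[ZMod p] V) v) h1
    exact h2.symm)
  refine ⟨c, ?_, hc⟩
  have h1 := kap_det H z
  have h2 : ((kap H z : V ≃ₗ[K] V) : V →ₗ[K] V) = c • LinearMap.id := by
    ext v
    exact hc v
  have h3 : LinearMap.det ((kap H z : V ≃ₗ[K] V) : V →ₗ[K] V) = 1 := by
    rw [← LinearEquiv.coe_det, h1, Units.val_one]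
  rw [h2, LinearMap.det_smul, LinearMap.det_id, mul_one] at h3
  exact h3

theorem center_pow (H : QS p K V G L h) {z : L} (hz : z ∈ center L) : z ^ Module.finrank K V = 1 := by
  obtain ⟨c, hc, hzc⟩ := center_scalar H hz
  apply Subtype.ext
  apply LinearEquiv.ext
  intro v
  have h1 : ∀ n : ℕ, ((z ^ n : L) : V ≃ₗ[ZMod p] V) v = c ^ n • v := by
    intro n
    induction n with
    | zero => simp only [_root_.pow_zero, _root_.OneMemClass.coe_one, _root_.LinearEquiv.coe_one, _root_.id_eq, _root_.one_smul]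
    | succ n ih =>
      rw [pow_succ' z n]
      change (z : V ≃ₗ[ZMod p] V) (((z ^ n : L) : V ≃ₗ[ZMod p] V) v) = _
      rw [ih, hzc, smul_smul, ← pow_succ']
  rw [h1, hc, one_smul]
  rfl

end basic

/-! ### Lifting -/

section lift

variable {L : Type*} [Group L]

theorem central_one (hz : ∀ z ∈ center L, z ^ 6 = 1) {z : L} (hzc : z ∈ center L) (h5 : z ^ 5 = 1) : z = 1 := by
  have h6 := hz z hzc
  rw [pow_succ, h5, one_mul] at h6
  exact h6

/-- equality modulo the centre of elements of order dividing 5 -/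
theorem eq_of_mk (hz : ∀ z ∈ center L, z ^ 6 = 1) {a b : L} (ha : a ^ 5 = 1) (hb : b ^ 5 = 1)
    (hab : (a : L ⧸ center L) = b) : a = b := by
  have h1 : a⁻¹ * b ∈ center L := QuotientGroup.eq.1 hab
  have h2 : b = a * (a⁻¹ * b) := by group
  have hc : Commute a (a⁻¹ * b) := (Subgroup.mem_center_iff.1 h1 a)
  have h3 : (a⁻¹ * b) ^ 5 = 1 := by
    have h4 : b ^ 5 = a ^ 5 * (a⁻¹ * b) ^ 5 := by
      conv_lhs => rw [h2]
      rw [hc.mul_pow]
    rw [ha, hb, one_mul] at h4
    exact h4.symm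
  have h4 := central_one hz h1 h3
  rw [h2, h4, mul_one]

theorem lift_five (hz : ∀ z ∈ center L, z ^ 6 = 1) {x y d u : L ⧸ center L} (h : Five x y d u) :
    ∃ x' y' d' u' : L, Five x' y' d' u' := by
  obtain ⟨x0, rfl⟩ := QuotientGroup.mk_surjective x
  obtain ⟨y0, rfl⟩ := QuotientGroup.mk_surjective y
  obtain ⟨d, rfl⟩ := QuotientGroup.mk_surjective d
  obtain ⟨u, rfl⟩ := QuotientGroup.mk_surjective u
  have key : ∀ a : L, ((a : L ⧸ center L)) ^ 5 = 1 → (a ^ 6) ^ 5 = 1 ∧ ((a ^ 6 : L) : L ⧸ center L) = a := by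
    intro a ha
    have h1 : a ^ 5 ∈ center L := by
      rw [← QuotientGroup.eq_one_iff, QuotientGroup.mk_pow]; exact ha
    refine ⟨?_, ?_⟩
    · rw [← pow_mul, mul_comm, pow_mul]
      exact hz _ h1
    · rw [QuotientGroup.mk_pow, pow_succ, ha, one_mul]
  obtain ⟨hx, hx'⟩ := key x0 h.x5
  obtain ⟨hy, hy'⟩ := key y0 h.y5
  set x := x0 ^ 6
  set y := y0 ^ 6
  rw [← hx', ← hy'] at h
  have hc : ∀ (g a : L), a ^ 5 = 1 → (g * a * g⁻¹) ^ 5 = 1 := by
    intro g a ha
    rw [conj_pow, ha, mul_one, mul_inv_cancel]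
  have hxy : x * y = y * x := by
    have h1 := eq_of_mk hz (hc x y hy) hy (by
      rw [QuotientGroup.mk_mul, QuotientGroup.mk_mul, QuotientGroup.mk_inv, h.xy, mul_inv_cancel_right])
    rw [← mul_inv_eq_iff_eq_mul]; exact h1
  have hp : ∀ i j : ℕ, (x ^ i * y ^ j) ^ 5 = 1 := by
    intro i j
    have hq : ∀ a : L, a ^ 5 = 1 → ∀ i : ℕ, (a ^ i) ^ 5 = 1 := fun a ha i => by
      rw [← pow_mul, mul_comm, pow_mul, ha, one_pow]
    rw [((show Commute x y from hxy).pow_pow i j).mul_pow, hq x hx, hq y hy, mul_one]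
  refine ⟨x, y, d, u, hx, hy, hxy, ?_, ?_, ?_, ?_, ?_, ?_⟩
  · intro h1
    apply h.x1
    rw [h1]; rfl
  · intro k hk h1
    apply h.yx k hk
    rw [h1]; rfl
  · exact eq_of_mk hz (hc d x hx) hy h.dx
  · exact eq_of_mk hz (hc d y hy) (hp 4 4) h.dy
  · have := hp 4 0
    rw [pow_zero, mul_one] at this
    exact eq_of_mk hz (hc u x hx) this h.ux
  · have := hp 0 4
    rw [pow_zero, one_mul] at this
    exact eq_of_mk hz (hc u y hy) this h.uy

end lift

/-! ### Dimensions -/

section dim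

variable {K : Type*} [Field K] [Finite K] {V : Type*} [AddCommGroup V] [Module K V] [Finite V] {L : Type*} [Group L] [Finite L]

/-- fixed space of `l` -/
def F1 (κ : L →* (V ≃ₗ[K] V)) (l : L) : Submodule K V where
  carrier := {v | κ l v = v}
  zero_mem' := map_zero _
  add_mem' := by
    intro a b ha hb
    change κ l (a + b) = a + b
    rw [map_add]
    exact congrArg₂ (· + ·) ha hb
  smul_mem' := by
    intro c v hv
    change κ l (c • v) = c • v
    rw [map_smul]
    exact congrArg (c • ·) hv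

theorem kmul {κ : L →* (V ≃ₗ[K] V)} (a b : L) (v : V) : κ (a * b) v = κ a (κ b v) := by
  rw [map_mul]; rfl

theorem kinv {κ : L →* (V ≃ₗ[K] V)} (a : L) (v : V) : κ a (κ a⁻¹ v) = v := by
  rw [← kmul, mul_inv_cancel, map_one]; rfl

theorem kinv' {κ : L →* (V ≃ₗ[K] V)} (a : L) (v : V) : κ a⁻¹ (κ a v) = v := by
  rw [← kmul, inv_mul_cancel, map_one]; rfl

theorem fix_pow {κ : L →* (V ≃ₗ[K] V)} {a : L} {v : V} (h : κ a v = v) (n : ℕ) : κ (a ^ n) v = v := by
  induction n with
  | zero => rw [pow_zero, map_one]; rfl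
  | succ n ih => rw [pow_succ, kmul, h, ih]

theorem fix_zpow {κ : L →* (V ≃ₗ[K] V)} {a b : L} {v : V} (h : κ a v = v) (hb : b ∈ zpowers a) : κ b v = v := by
  have hfin : Finite L := inferInstance
  rw [← mem_powers_iff_mem_zpowers] at hb
  obtain ⟨n, rfl⟩ := hb
  exact fix_pow h n

/-- conjugate elements -/
theorem finrank_conj (κ : L →* (V ≃ₗ[K] V)) (g a : L) :
    Module.finrank K (F1 κ (g * a * g⁻¹)) = Module.finrank K (F1 κ a) := by
  have h1 : (F1 κ a).map (κ g : V →ₗ[K] V) = F1 κ (g * a * g⁻¹) := by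
    ext v
    constructor
    · rintro ⟨w, hw, rfl⟩
      have hw' : κ a w = w := hw
      change κ (g * a * g⁻¹) (κ g w) = κ g w
      rw [kmul, kmul, kinv', hw']
    · intro hv
      have hv' : κ (g * a * g⁻¹) v = v := hv
      refine ⟨κ g⁻¹ v, ?_, kinv g v⟩
      change κ a (κ g⁻¹ v) = κ g⁻¹ v
      rw [kmul, kmul] at hv'
      rw [← kinv' (κ := κ) g (κ a (κ g⁻¹ v)), hv']
  rw [← h1]
  exact (LinearEquiv.finrank_map_eq (κ g) (F1 κ a))

/-- generators of the same cyclic group -/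
theorem F1_eq {κ : L →* (V ≃ₗ[K] V)} {a b : L} (h1 : a ∈ zpowers b) (h2 : b ∈ zpowers a) : F1 κ a = F1 κ b := by
  ext v
  exact ⟨fun h => fix_zpow h h2, fun h => fix_zpow h h1⟩

variable {x y d u : L}

/-- the six fixed spaces -/
theorem finrank_orbits (κ : L →* (V ≃ₗ[K] V)) (h : Five x y d u) :
    Module.finrank K (F1 κ (pt x y 0)) = Module.finrank K (F1 κ (pt x y 5)) ∧
    Module.finrank K (F1 κ (pt x y 1)) = Module.finrank K (F1 κ (pt x y 5)) ∧
    Module.finrank K (F1 κ (pt x y 3)) = Module.finrank K (F1 κ (pt x y 2)) ∧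
    Module.finrank K (F1 κ (pt x y 4)) = Module.finrank K (F1 κ (pt x y 2)) := by
  have e0 : pt x y 0 = x := by simp [pt]
  have e1 : pt x y 1 = x * y := by simp [pt]
  have e2 : pt x y 2 = x * y ^ 2 := by simp [pt]
  have e3 : pt x y 3 = x * y ^ 3 := by simp [pt]
  have e4 : pt x y 4 = x * y ^ 4 := by simp [pt]
  have e5 : pt x y 5 = y := by simp [pt]
  -- conjugation by `d`
  have hd : ∀ i j : ℕ, d * (x ^ i * y ^ j) * d⁻¹ = x ^ (4 * j) * y ^ (i + 4 * j) := by
    intro i j
    have h1 : d * (x ^ i * y ^ j) * d⁻¹ = (d * x * d⁻¹) ^ i * (d * y * d⁻¹) ^ j := by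
      rw [conj_pow, conj_pow]; group
    rw [h1, h.dx, h.dy, (h.comm.pow_pow 4 4).mul_pow, ← pow_mul, ← pow_mul, pow_add]
    have hc : Commute (y ^ i) (x ^ (4 * j)) := (h.comm.pow_pow _ _).symm
    rw [← mul_assoc, hc.eq, mul_assoc]
  -- scalar multiples generate the same group
  have hg : ∀ i j k i' j' m : ℕ, (k * i) % 5 = i' % 5 → (k * j) % 5 = j' % 5 → (m * i') % 5 = i % 5 →
      (m * j') % 5 = j % 5 → F1 κ (x ^ i * y ^ j) = F1 κ (x ^ i' * y ^ j') := by
    intro i j k i' j' m h1 h2 h3 h4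
    have e : ∀ i j k i' j' : ℕ, (k * i) % 5 = i' % 5 → (k * j) % 5 = j' % 5 →
        x ^ i' * y ^ j' ∈ zpowers (x ^ i * y ^ j) := by
      intro i j k i' j' h1 h2
      have : x ^ i' * y ^ j' = (x ^ i * y ^ j) ^ k := by
        rw [(h.comm.pow_pow i j).mul_pow, ← pow_mul, ← pow_mul, h.pow_mod (i * k), h.pow_mod' (j * k),
          mul_comm i k, mul_comm j k, h1, h2, ← h.pow_mod, ← h.pow_mod']
      rw [this]
      exact npow_mem_zpowers _ _
    exact F1_eq (e i' j' m i j h3 h4) (e i j k i' j' h1 h2)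
  refine ⟨?_, ?_, ?_, ?_⟩
  · rw [e0, e5, ← h.dx, finrank_conj]
  · -- `d y d⁻¹ = x⁴ y⁴`
    rw [e1, e5, ← finrank_conj κ d y, h.dy]
    have := hg 1 1 4 4 4 4 (by norm_num) (by norm_num) (by norm_num) (by norm_num)
    rw [pow_one, pow_one] at this
    rw [this]
  · -- `d (x y²) d⁻¹ = x³ y⁴ ~ x y³`
    rw [e3, e2, ← finrank_conj κ d (x * y ^ 2)]
    have h1 := hd 1 2
    rw [pow_one] at h1
    rw [h1]
    have := hg 1 3 3 (4 * 2) (1 + 4 * 2) 2 (by norm_num) (by norm_num) (by norm_num) (by norm_num)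
    rw [pow_one] at this
    rw [this]
  · -- `d (x y⁴) d⁻¹ = x y²`
    rw [e4, e2, ← finrank_conj κ d (x * y ^ 4)]
    have h1 := hd 1 4
    rw [pow_one] at h1
    rw [h1]
    have := hg 1 2 1 (4 * 4) (1 + 4 * 4) 1 (by norm_num) (by norm_num) (by norm_num) (by norm_num)
    rw [pow_one] at this
    rw [this]

/-- an inverted element of order 5 has no fixed space of codimension one -/
theorem no_codim_one (κ : L →* (V ≃ₗ[K] V)) (h5 : (5 : K) ≠ 0) {g t u : L} (hgt : g * t = t * g) (ht : t ^ 5 = 1)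
    (hug : u * g * u⁻¹ = g⁻¹) (hut : u * t * u⁻¹ = t⁻¹)
    (hc : Module.finrank K (F1 κ g) = Module.finrank K ↥(F1 κ g ⊓ F1 κ t) + 1) : False := by
  set C := F1 κ g with hC
  -- `(t - 1)` on `C`
  let f : C →ₗ[K] V := ((κ t : V →ₗ[K] V) - LinearMap.id).domRestrict C
  have hf : ∀ c : C, f c = κ t c - c := fun c => rfl
  have hker : Module.finrank K (LinearMap.ker f) = Module.finrank K ↥(C ⊓ F1 κ t) := by
    have h1 : (LinearMap.ker f).map C.subtype = C ⊓ F1 κ t := by
      ext v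
      constructor
      · rintro ⟨c, hc, rfl⟩
        have h2 : f c = 0 := hc
        rw [hf, sub_eq_zero] at h2
        exact ⟨c.2, h2⟩
      · rintro ⟨hv1, hv2⟩
        refine ⟨⟨v, hv1⟩, ?_, rfl⟩
        change f ⟨v, hv1⟩ = 0
        rw [hf, sub_eq_zero]
        exact hv2
    rw [← h1]
    exact (Submodule.finrank_map_subtype_eq C _).symm
  have hrange : Module.finrank K (LinearMap.range f) = 1 := by
    have h1 := LinearMap.finrank_range_add_finrank_ker f
    rw [hker, hc] at h1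
    omega
  -- a generator `w = (t - 1) b`
  obtain ⟨⟨w, hw⟩, hw0, hwR⟩ := finrank_eq_one_iff'.1 hrange
  have hw0' : w ≠ 0 := fun e => hw0 (Subtype.ext e)
  obtain ⟨b, hb⟩ := hw
  rw [hf] at hb
  have hbC : κ g b = b := b.2
  have hin : ∀ c : V, κ g c = c → ∃ a : K, κ t c - c = a • w := by
    intro c hc
    obtain ⟨a, ha⟩ := hwR ⟨f ⟨c, hc⟩, ⟨_, rfl⟩⟩
    exact ⟨a, (congrArg Subtype.val ha).symm⟩
  -- `t w = λ w`
  have htC : ∀ c : V, κ g c = c → κ g (κ t c) = κ t c := by
    intro c hc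
    rw [← kmul, hgt, kmul, hc]
  have hwC : κ g w = w := by
    rw [← hb, map_sub, htC _ hbC, hbC]
  obtain ⟨l, hl⟩ := hin w hwC
  have hl' : κ t w = (l + 1) • w := by
    rw [add_smul, one_smul, ← hl]; abel
  -- `u` preserves `C`
  have huC : ∀ c : V, κ g c = c → κ g (κ u c) = κ u c := by
    intro c hc
    have h1 : u * g = g⁻¹ * u := by rw [← hug]; group
    have h2 : κ u c = κ g⁻¹ (κ u c) := by
      conv_lhs => rw [← hc]
      rw [← kmul, h1, kmul]
    conv_lhs => rw [h2]
    rw [kinv]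
  -- `u w ∈ K w`
  have htu : u * t = t⁻¹ * u := by rw [← hut]; group
  obtain ⟨m, hm⟩ : ∃ m : K, κ u w = m • w := by
    have h1 : κ u w = κ t (- κ t⁻¹ (κ u b)) - (- κ t⁻¹ (κ u b)) := by
      rw [← hb, map_sub, ← kmul, htu, kmul, map_neg, kinv]
      abel
    have h2 : κ g (- κ t⁻¹ (κ u b)) = - κ t⁻¹ (κ u b) := by
      have h3 : g * t⁻¹ = t⁻¹ * g := by
        rw [eq_inv_mul_iff_mul_eq, ← mul_assoc, ← hgt, mul_assoc, mul_inv_cancel, mul_one]
      rw [map_neg, ← kmul, h3, kmul, huC _ hbC]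
    obtain ⟨a, ha⟩ := hin _ h2
    exact ⟨a, by rw [h1, ha]⟩
  have hm0 : m ≠ 0 := by
    rintro rfl
    rw [zero_smul] at hm
    exact hw0' ((κ u).map_eq_zero_iff.1 hm)
  -- `λ² = 1`
  have h6 : (l + 1) * (l + 1) = 1 := by
    have h7 : κ t (κ u (κ t w)) = κ u w := by
      rw [← kmul, ← kmul, mul_assoc, htu, ← mul_assoc, mul_inv_cancel, one_mul]
    rw [hl', map_smul, hm, map_smul, map_smul, hl', smul_smul, smul_smul] at h7
    have h8 : ((l + 1) * m * (l + 1) - m) • w = 0 := by rw [sub_smul, h7, sub_self]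
    rcases smul_eq_zero.1 h8 with h9 | h9
    · have h10 : m * ((l + 1) * (l + 1) - 1) = 0 := by linear_combination h9
      rcases mul_eq_zero.1 h10 with h11 | h11
      · exact absurd h11 hm0
      · exact sub_eq_zero.1 h11
    · exact absurd h9 hw0'
  have hpow : ∀ n : ℕ, κ (t ^ n) w = (l + 1) ^ n • w := by
    intro n
    induction n with
    | zero => rw [pow_zero, map_one, pow_zero, one_smul]; rfl
    | succ n ih => rw [pow_succ', kmul, ih, map_smul, hl', smul_smul, ← pow_succ]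
  have h7 : (l + 1) ^ 5 = 1 := by
    have h8 := hpow 5
    rw [ht, map_one] at h8
    have h9 : ((l + 1) ^ 5 - 1) • w = 0 := by
      rw [sub_smul, ← h8, one_smul]
      exact sub_self w
    rcases smul_eq_zero.1 h9 with h10 | h10
    · exact sub_eq_zero.1 h10
    · exact absurd h10 hw0'
  have h8 : l + 1 = 1 := by
    have h9 : (l + 1) ^ 5 = ((l + 1) * (l + 1)) * ((l + 1) * (l + 1)) * (l + 1) := by ring
    rw [h9, h6, one_mul, one_mul] at h7
    exact h7
  -- `t w = w`, `t ^ n b = b + n w`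
  have htw : κ t w = w := by rw [hl', h8, one_smul]
  have htb : ∀ n : ℕ, κ (t ^ n) (b : V) = b + (n : K) • w := by
    intro n
    induction n with
    | zero => rw [pow_zero, map_one, Nat.cast_zero, zero_smul, add_zero]; rfl
    | succ n ih =>
      have h9 : κ t (b : V) = b + w := by rw [← hb]; abel
      rw [pow_succ', kmul, ih, map_add, map_smul, htw, h9, Nat.cast_succ, add_smul, one_smul]
      abel
  have h9 := htb 5
  rw [ht, map_one] at h9
  have h10 : ((5 : ℕ) : K) • w = 0 := by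
    have h11 : (b : V) = b + ((5 : ℕ) : K) • w := h9
    exact (left_eq_add.1 h11)
  rcases smul_eq_zero.1 h10 with h11 | h11
  · exact h5 (by exact_mod_cast h11)
  · exact hw0' h11

/-! ### The fixed point formula -/

/-- the six lines as functions of the coordinates: `x ^ i y ^ j` lies in line `k` -/
def onLine (i j : ℕ) (k : Fin 6) : Bool :=
  if (k : ℕ) = 5 then decide (i % 5 = 0) else decide ((j + 4 * (i * k)) % 5 = 0)

theorem mem_line (h : Five x y d u) (i j : ℕ) (k : Fin 6) :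
    x ^ i * y ^ j ∈ zpowers (pt x y k) ↔ onLine i j k = true := by
  have hfin : Finite L := inferInstance
  rw [← mem_powers_iff_mem_zpowers]
  unfold onLine
  by_cases hk : (k : ℕ) = 5
  · rw [if_pos hk, decide_eq_true_iff]
    have hpt : pt x y k = y := by rw [pt, if_pos hk]
    rw [hpt]
    constructor
    · rintro ⟨n, hn⟩
      have hn' : x ^ 0 * y ^ n = x ^ i * y ^ j := by rw [pow_zero, one_mul]; exact hn
      have := (h.inj' hn').1
      omega
    · intro hi
      refine ⟨j, ?_⟩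
      change y ^ j = x ^ i * y ^ j
      rw [h.pow_mod i, hi, pow_zero, one_mul]
  · rw [if_neg hk, decide_eq_true_iff]
    have hpt : pt x y k = x * y ^ (k : ℕ) := by rw [pt, if_neg hk]
    have hp : ∀ n : ℕ, (x * y ^ (k : ℕ)) ^ n = x ^ n * y ^ ((k : ℕ) * n) := by
      intro n
      rw [(h.comm.pow_right k).mul_pow, ← pow_mul]
    rw [hpt]
    constructor
    · rintro ⟨n, hn⟩
      have hn' : x ^ n * y ^ ((k : ℕ) * n) = x ^ i * y ^ j := by rw [← hp]; exact hn
      obtain ⟨h1, h2⟩ := h.inj' hn'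
      have h3 : (j + 4 * (i * k)) % 5 = ((k * n) + 4 * (n * k)) % 5 := by
        rw [Nat.add_mod, ← h2, Nat.mul_mod 4 (i * k), Nat.mul_mod i k, ← h1, ← Nat.mul_mod n k, ← Nat.mul_mod 4,
          ← Nat.add_mod]
      rw [h3]
      have : (k : ℕ) * n + 4 * (n * k) = 5 * (n * k) := by ring
      rw [this]
      exact Nat.mul_mod_right 5 _
    · intro hj
      refine ⟨i, ?_⟩
      change (x * y ^ (k : ℕ)) ^ i = x ^ i * y ^ j
      rw [hp, h.pow_mod' j, h.pow_mod' (k * i)]
      congr 2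
      have h2 : (k : ℕ) * i = i * k := mul_comm _ _
      rw [h2]
      omega

theorem card_onLine (i j : ℕ) (h0 : ¬ (i % 5 = 0 ∧ j % 5 = 0)) : Nat.card {k : Fin 6 // onLine i j k = true} = 1 := by
  have hmod : ∀ k, onLine i j k = onLine (i % 5) (j % 5) k := by
    intro k
    unfold onLine
    by_cases hk : (k : ℕ) = 5
    · rw [if_pos hk, if_pos hk, Nat.mod_mod]
    · rw [if_neg hk, if_neg hk]
      have h1 : (j + 4 * (i * k)) % 5 = (j % 5 + 4 * (i % 5 * k)) % 5 :=
        Nat.ModEq.add (Nat.mod_modEq j 5).symm (((Nat.mod_modEq i 5).symm.mul_right k).mul_left 4)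
      rw [h1]
  have hd : ∀ a b : Fin 5, ¬ ((a : ℕ) = 0 ∧ (b : ℕ) = 0) →
      Fintype.card {k : Fin 6 // onLine a b k = true} = 1 := by decide +kernel
  have h1 := hd ⟨i % 5, Nat.mod_lt _ (by norm_num)⟩ ⟨j % 5, Nat.mod_lt _ (by norm_num)⟩ h0
  rw [← Nat.card_eq_fintype_card] at h1
  rw [← h1]
  exact Nat.card_congr (Equiv.subtypeEquivRight fun k => by rw [hmod k])

/-- **the fixed point formula** in terms of dimensions -/
theorem dim_formula {p : ℕ} [Fact p.Prime] (κ : L →* (V ≃ₗ[K] V)) (h : Five x y d u) (hp : ∀ v : V, p • v = 0)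
    (hpL : ¬ p ∣ Nat.card L) :
    ∑ i : Fin 6, Module.finrank K (F1 κ (pt x y i)) = 5 * Module.finrank K ↥(F1 κ x ⊓ F1 κ y) + Module.finrank K V := by
  classical
  let ρ : L →* AddMonoid.End V :=
    { toFun := fun l => ((κ l : V →ₗ[K] V) : V →+ V)
      map_one' := by ext v; rw [map_one]; rfl
      map_mul' := fun a b => by ext v; rw [map_mul]; rfl }
  have hρ : ∀ l v, ρ l v = κ l v := fun l v => rfl
  have key := OddOrderCharacters.WielandtElem.prod_eq_prod (r := p) hp ρ hpL (I := Fin 6) (J := Option (Fin 5))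
    (fun i => zpowers (pt x y i)) (fun j => match j with | none => h.pl | some _ => ⊥) ?_
  · have hq : 1 < Nat.card K := Finite.one_lt_card
    -- the cardinals
    have e1 : ∀ i : Fin 6, Nat.card {v : V // ∀ l ∈ zpowers (pt x y i), ρ l v = v} =
        Nat.card K ^ Module.finrank K (F1 κ (pt x y i)) := by
      intro i
      rw [← Module.natCard_eq_pow_finrank (K := K) (V := F1 κ (pt x y i))]
      refine Nat.card_congr (Equiv.subtypeEquivRight fun v => ?_)
      constructor
      · intro hv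
        exact hv _ (mem_zpowers _)
      · intro hv l hl
        exact fix_zpow hv hl
    have e2 : Nat.card {v : V // ∀ l ∈ h.pl, ρ l v = v} = Nat.card K ^ Module.finrank K ↥(F1 κ x ⊓ F1 κ y) := by
      rw [← Module.natCard_eq_pow_finrank (K := K) (V := ↥(F1 κ x ⊓ F1 κ y))]
      refine Nat.card_congr (Equiv.subtypeEquivRight fun v => ?_)
      constructor
      · intro hv
        exact ⟨hv x ⟨1, 0, by simp⟩, hv y ⟨0, 1, by simp⟩⟩
      · rintro ⟨h1, h2⟩ l ⟨i, j, rfl⟩
        rw [hρ, kmul, fix_pow h2, fix_pow h1]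
    have e3 : Nat.card {v : V // ∀ l ∈ (⊥ : Subgroup L), ρ l v = v} = Nat.card K ^ Module.finrank K V := by
      rw [← Module.natCard_eq_pow_finrank (K := K) (V := V)]
      refine Nat.card_congr (Equiv.subtypeUnivEquiv fun v => ?_)
      intro l hl
      rw [Subgroup.mem_bot.1 hl, map_one]
      rfl
    have e4 : ∀ i : Fin 6, Nat.card (zpowers (pt x y i)) = 5 := by
      intro i
      have f5 : Fact (Nat.Prime 5) := ⟨by norm_num⟩
      rw [Nat.card_zpowers]
      apply orderOf_eq_prime (h.pow_five (h.pt_mem i))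
      intro h2
      by_cases h3 : (i : ℕ) = 5
      · rw [pt, if_pos h3] at h2
        exact h.y1 h2
      · rw [pt, if_neg h3] at h2
        have h4 := (h.inj (i := 1) (j := i) (by rw [pow_one]; exact h2)).1
        omega
    rw [Fintype.prod_option] at key
    simp only [e1, e2, e3, e4, h.card_pl, Subgroup.card_bot, pow_one, ← pow_mul] at key
    rw [Finset.prod_const, Finset.card_univ, Fintype.card_fin, ← pow_mul, ← pow_add, Finset.prod_pow_eq_pow_sum] at key
    have h3 := Nat.pow_right_injective hq key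
    have h4 : ∑ i : Fin 6, Module.finrank K (F1 κ (pt x y i)) * 5 =
        (∑ i : Fin 6, Module.finrank K (F1 κ (pt x y i))) * 5 := (Finset.sum_mul _ _ _).symm
    have h5 : (∑ i : Fin 6, Module.finrank K (F1 κ (pt x y i))) * 5 =
        Module.finrank K ↥(F1 κ x ⊓ F1 κ y) * 25 + Module.finrank K V * 5 := by rw [← h4]; exact h3
    omega
  · intro f
    by_cases hf : f ∈ h.pl
    · obtain ⟨i, j, hf'⟩ := hf
      by_cases h0 : i % 5 = 0 ∧ j % 5 = 0
      · have hf1 : f = 1 := by rw [hf', h.pow_mod, h.pow_mod' j, h0.1, h0.2]; simp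
        rw [Nat.card_congr (Equiv.subtypeUnivEquiv fun i => by rw [hf1]; exact one_mem _),
          Nat.card_congr (Equiv.subtypeUnivEquiv fun j => by rw [hf1]; exact one_mem _)]
        simp
      · have hf1 : f ≠ 1 := by
          intro e
          rw [hf'] at e
          exact h0 (h.inj e)
        have e1 : Nat.card {k : Fin 6 // f ∈ zpowers (pt x y k)} = 1 := by
          rw [← card_onLine i j h0]
          exact Nat.card_congr (Equiv.subtypeEquivRight fun k => by rw [hf']; exact mem_line h i j k)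
        rw [e1]
        symm
        rw [Nat.card_eq_one_iff_unique]
        refine ⟨⟨?_⟩, ⟨⟨none, ⟨i, j, hf'⟩⟩⟩⟩
        rintro ⟨a, ha⟩ ⟨b, hb⟩
        cases a with
        | none =>
          cases b with
          | none => rfl
          | some i' => exact absurd hb hf1
        | some i' => exact absurd ha hf1
    · have e1 : IsEmpty {k : Fin 6 // f ∈ zpowers (pt x y k)} := ⟨fun k => hf (by
        have h1 : zpowers (pt x y k.1) ≤ h.pl := zpowers_le.2 (h.pt_mem _)
        exact h1 k.2)⟩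
      have e2 : IsEmpty {j : Option (Fin 5) // f ∈ (match j with | none => h.pl | some _ => (⊥ : Subgroup L))} := by
        refine ⟨fun j => ?_⟩
        obtain ⟨j, hj⟩ := j
        cases j with
        | none => exact hf hj
        | some i =>
          apply hf
          have hj' : f = 1 := hj
          rw [hj']
          exact one_mem _
      rw [Nat.card_of_isEmpty, Nat.card_of_isEmpty]

/-- **dimension 6: every element of order 5 of the plane has fixed space of dimension at most 2** -/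
theorem finrank_le_two {p : ℕ} [Fact p.Prime] (κ : L →* (V ≃ₗ[K] V)) (hκ : Function.Injective κ) (h : Five x y d u)
    (hp : ∀ v : V, p • v = 0) (hpL : ¬ p ∣ Nat.card L) (h5 : (5 : K) ≠ 0) (h6 : Module.finrank K V = 6) (i : Fin 6) :
    Module.finrank K (F1 κ (pt x y i)) ≤ 2 := by
  have hsum := dim_formula κ h hp hpL
  obtain ⟨h0, h1, h3, h4⟩ := finrank_orbits κ h
  simp only [Fin.sum_univ_six] at hsum
  rw [h0, h1, h3, h4, h6] at hsum
  set a := Module.finrank K (F1 κ (pt x y 5)) with ha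
  set b := Module.finrank K (F1 κ (pt x y 2)) with hb
  set c := Module.finrank K ↥(F1 κ x ⊓ F1 κ y) with hc
  have e0 : pt x y 0 = x := by simp [pt]
  have e2 : pt x y 2 = x * y ^ 2 := by simp [pt]
  have e5 : pt x y 5 = y := by simp [pt]
  -- `C_V(E)` inside the fixed spaces
  have hinf : F1 κ (x * y ^ 2) ⊓ F1 κ y = F1 κ x ⊓ F1 κ y := by
    ext v
    constructor
    · rintro ⟨h5, h6⟩
      refine ⟨?_, h6⟩
      have h6' : κ y v = v := h6
      have h5' : κ (x * y ^ 2) v = v := h5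
      rw [kmul, fix_pow h6'] at h5'
      exact h5'
    · rintro ⟨h5, h6⟩
      refine ⟨?_, h6⟩
      have h6' : κ y v = v := h6
      have h5' : κ x v = v := h5
      change κ (x * y ^ 2) v = v
      rw [kmul, fix_pow h6', h5']
  have hca : c ≤ a := by
    rw [hc, ha, e5]
    exact Submodule.finrank_mono inf_le_right
  have hcb : c ≤ b := by
    rw [hc, hb, e2, ← hinf]
    exact Submodule.finrank_mono inf_le_left
  have ha6 : a ≤ 6 := by rw [← h6]; exact Submodule.finrank_le _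
  have hb6 : b ≤ 6 := by rw [← h6]; exact Submodule.finrank_le _
  have hc6 : c ≠ 6 := by
    intro e
    have h7 : F1 κ x ⊓ F1 κ y = ⊤ := Submodule.eq_top_of_finrank_eq (by rw [← hc, e, h6])
    apply h.x1
    apply hκ
    rw [map_one]
    apply LinearEquiv.ext
    intro v
    have h8 : v ∈ F1 κ x ⊓ F1 κ y := by rw [h7]; trivial
    exact h8.1
  -- `u` inverts the plane
  have hux : u * x * u⁻¹ = x⁻¹ := by
    rw [h.ux, eq_inv_iff_mul_eq_one, ← pow_succ, h.x5]
  have huy : u * y * u⁻¹ = y⁻¹ := by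
    rw [h.uy, eq_inv_iff_mul_eq_one, ← pow_succ, h.y5]
  have huxy : u * (x * y ^ 2) * u⁻¹ = (x * y ^ 2)⁻¹ := by
    have h7 : u * (x * y ^ 2) * u⁻¹ = (u * x * u⁻¹) * (u * y * u⁻¹) ^ 2 := by
      rw [conj_pow]; group
    rw [h7, hux, huy, mul_inv_rev, inv_pow]
    exact ((h.comm.pow_right 2).inv_inv).eq
  -- no codimension one
  have hac : a ≠ c + 1 := by
    intro e
    refine no_codim_one κ h5 (g := y) (t := x) (u := u) h.xy.symm h.x5 huy hux ?_
    rw [← e5, ← ha, e, hc, inf_comm, e5]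
  have hbc : b ≠ c + 1 := by
    intro e
    refine no_codim_one κ h5 (g := x * y ^ 2) (t := y) (u := u) ?_ h.y5 huxy huy ?_
    · exact (h.comm.mul_left ((Commute.refl y).pow_left 2)).eq
    · rw [← e2, ← hb, e, hc, e2, hinf]
  have hab : a ≤ 2 ∧ b ≤ 2 := by (clear * - h1 hsum hca hcb hc6 hac hbc; omega)
  have hi : i = 0 ∨ i = 1 ∨ i = 2 ∨ i = 3 ∨ i = 4 ∨ i = 5 := by (clear * -; omega)
  rcases hi with rfl | rfl | rfl | rfl | rfl | rfl
  · rw [h0]; exact hab.1
  · rw [h1]; exact hab.1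
  · exact hab.2
  · rw [h3]; exact hab.2
  · rw [h4]; exact hab.2
  · exact hab.1

end dim

end Cfsg.Agent.H199.HT
end

-- part: H138/HT/TT
section
set_option linter.all false

/-!
# S3540, section 4: two commuting quasisimple groups on `V = W ⊗ W'`, both factors of dimension `2` over `K`

`Cfsg.Agent.H138.HT.TT`: the setting.  `D : Dec (linSet K V A) (linSet K V B) W W'` is the tensor decomposition
(`Omega/NO1/Comp/Tens.lean`): `D.φ : W ⊗[K] W' ≃ₗ[K] V`, `A` acts on `W` through `D.ρ`, `B` on `W'` through `D.ρ'`.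
-/

set_option autoImplicit false

universe u

namespace Cfsg.Agent.H138.HT

open Cfsg.Agent.H828.HT Cfsg.Agent.Omega.NO1.Comp

/-- the case `k = 2`, `w = 2` of section 4 -/
structure TT (p : ℕ) [Fact p.Prime] (K : Type u) [Field K] (V : Type u) [AddCommGroup V] [Module (ZMod p) V]
    [Module K V] (W W' : Type u) [AddCommGroup W] [Module K W] [AddCommGroup W'] [Module K W']
    (G A B : Subgroup (V ≃ₗ[ZMod p] V)) (h : ℕ) where
  half : Half G h
  two_le : 2 ≤ h
  cop : ¬ p ∣ Nat.card G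
  leA : A ≤ G
  leB : B ≤ G
  qsA : Cfsg.IsQuasisimple A
  qsB : Cfsg.IsQuasisimple B
  comm : ∀ a ∈ A, ∀ b ∈ B, a * b = b * a
  perm : ∀ g ∈ G, ((∀ a ∈ A, g * a * g⁻¹ ∈ A) ∧ (∀ b ∈ B, g * b * g⁻¹ ∈ B)) ∨
    ((∀ a ∈ A, g * a * g⁻¹ ∈ B) ∧ (∀ b ∈ B, g * b * g⁻¹ ∈ A))
  linA : ∀ a ∈ A, ∀ (c : K) (v : V), a (c • v) = c • a v
  linB : ∀ b ∈ B, ∀ (c : K) (v : V), b (c • v) = c • b v
  sch : ∀ f : V →+ V, (∀ a ∈ A, ∀ v, f (a v) = a (f v)) → (∀ b ∈ B, ∀ v, f (b v) = b (f v)) →
    ∃ c : K, ∀ v, f v = c • v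
  D : Dec (linSet K V (A : Set (V ≃ₗ[ZMod p] V))) (linSet K V (B : Set (V ≃ₗ[ZMod p] V))) W W'
  rkW : Module.finrank K W = 2
  rkW' : Module.finrank K W' = 2

/-- the roles of `A` and `B` may be interchanged -/
noncomputable def TT.symm {p : ℕ} [Fact p.Prime] {K : Type u} [Field K] {V : Type u} [AddCommGroup V]
    [Module (ZMod p) V] [Module K V] {W W' : Type u} [AddCommGroup W] [Module K W] [AddCommGroup W'] [Module K W']
    {G A B : Subgroup (V ≃ₗ[ZMod p] V)} {h : ℕ} (T : TT p K V W W' G A B h) : TT p K V W' W G B A h where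
  half := T.half
  two_le := T.two_le
  cop := T.cop
  leA := T.leB
  leB := T.leA
  qsA := T.qsB
  qsB := T.qsA
  comm b hb a ha := (T.comm a ha b hb).symm
  perm g hg := (T.perm g hg).imp (fun h => ⟨h.2, h.1⟩) (fun h => ⟨h.2, h.1⟩)
  linA := T.linB
  linB := T.linA
  sch f h1 h2 := T.sch f h2 h1
  D := T.D.symm
  rkW := T.rkW'
  rkW' := T.rkW

end Cfsg.Agent.H138.HT
end

-- part: H138/HT/Comps
section
prune_inst 0x4f0000f017700000000040502000000b5310000000040000068040706020900628042a0000a0004160222900000040030020004304000000000000400002107299080520023400008840007000000400000000000000000000000000000000000200400000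
set_option linter.all false
open scoped Cfsg.Agent.FastGrp

-- part: H138/HT/Fam
section
/-!
# Commuting families of linear maps: dimension and the number of pure tensors (S3540, section 4)

`Fam S`: `S 0, …, S (k-1)` are pairwise commuting sets of `K`-linear maps of `V`, jointly irreducible, and only
scalars commute with all of them.  If all irreducible `S i`-submodules have dimension `w i`, then
`dim V = ∏ w i` and the set of the nonzero vectors that lie in an irreducible `S i`-submodule for every `i` has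
`(q - 1) ∏ (q ^ w i - 1) / (q - 1)` elements (`Fam.count`).
-/

set_option autoImplicit false

universe u

namespace Cfsg.Agent.H138.HT

open Cfsg.Agent.Omega.NO1.Comp Module TensorProduct

section Basic

variable {K V : Type u} [Field K] [AddCommGroup V] [Module K V]

/-- invariant submodule -/
def Inv (S : Set (Module.End K V)) (M : Submodule K V) : Prop := ∀ a ∈ S, ∀ v ∈ M, a v ∈ M

/-- irreducible submodule -/
def IrrS (S : Set (Module.End K V)) (M : Submodule K V) : Prop :=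
  M ≠ ⊥ ∧ Inv S M ∧ ∀ N : Submodule K V, N ≤ M → Inv S N → N = ⊥ ∨ N = M

variable {W W' : Type u} [AddCommGroup W] [Module K W] [AddCommGroup W'] [Module K W']
variable {L C : Set (Module.End K V)}

/-- `w ↦ φ (w ⊗ w')` -/
noncomputable def cmap (D : Dec L C W W') (w' : W') : W →ₗ[K] V :=
  (D.φ : W ⊗[K] W' →ₗ[K] V) ∘ₗ ((TensorProduct.mk K W W').flip w')

/-- `w' ↦ φ (w ⊗ w')` -/
noncomputable def rmap (D : Dec L C W W') (w : W) : W' →ₗ[K] V :=
  (D.φ : W ⊗[K] W' →ₗ[K] V) ∘ₗ (TensorProduct.mk K W W' w)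

@[simp] theorem cmap_apply (D : Dec L C W W') (w' : W') (w : W) : cmap D w' w = D.φ (w ⊗ₜ w') := rfl

@[simp] theorem rmap_apply (D : Dec L C W W') (w' : W') (w : W) : rmap D w w' = D.φ (w ⊗ₜ w') := rfl

theorem cmap_inj (D : Dec L C W W') {w' : W'} (hw' : w' ≠ 0) : Function.Injective (cmap D w') :=
  fun _ _ h => D.inj_left hw' h

theorem rmap_inj (D : Dec L C W W') {w : W} (hw : w ≠ 0) : Function.Injective (rmap D w) :=
  fun _ _ h => D.inj_right hw h

theorem inv_inf {S : Set (Module.End K V)} {M N : Submodule K V} (hM : Inv S M) (hN : Inv S N) : Inv S (M ⊓ N) :=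
  fun a ha v hv => ⟨hM a ha v hv.1, hN a ha v hv.2⟩

/-- the image of `W` under `w ↦ φ (w ⊗ w')` is irreducible -/
theorem range_cmap_irr (h : Two L C) (D : Dec L C W W') {w' : W'} (hw' : w' ≠ 0) :
    IrrS L (LinearMap.range (cmap D w')) := by
  have hinv : Inv L (LinearMap.range (cmap D w')) := by
    rintro a ha _ ⟨w, rfl⟩
    exact ⟨D.ρ a w, by rw [cmap_apply, cmap_apply, D.hl a ha]⟩
  refine ⟨?_, hinv, ?_⟩
  · intro h0
    obtain ⟨w, hw⟩ := @exists_ne W D.neL 0
    have h1 : cmap D w' w ∈ LinearMap.range (cmap D w') := ⟨w, rfl⟩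
    rw [h0, Submodule.mem_bot, cmap_apply] at h1
    exact D.ne_zero hw hw' h1
  · intro N hN hNi
    rcases D.irr h (N.comap (cmap D w')) (fun l hl w hw => by
      change cmap D w' (D.ρ l w) ∈ N
      rw [cmap_apply, ← D.hl l hl]
      exact hNi l hl _ hw) with h1 | h1
    · left
      rw [← Submodule.map_comap_eq_of_le hN, h1, Submodule.map_bot]
    · right
      rw [← Submodule.map_comap_eq_of_le hN, h1, Submodule.map_top]

theorem eq_of_le {S : Set (Module.End K V)} {M N : Submodule K V} (hM : IrrS S M) (hN : IrrS S N) {v : V}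
    (hv : v ≠ 0) (h1 : v ∈ M) (h2 : v ∈ N) : M = N := by
  have h3 : M ⊓ N ≠ ⊥ := by
    intro h
    have : v ∈ M ⊓ N := ⟨h1, h2⟩
    rw [h, Submodule.mem_bot] at this
    exact hv this
  have h4 := (hM.2.2 _ inf_le_left (inv_inf hM.2.1 hN.2.1)).resolve_left h3
  have h5 := (hN.2.2 _ inf_le_right (inv_inf hM.2.1 hN.2.1)).resolve_left h3
  exact h4.symm.trans h5

/-- a nonzero vector of an irreducible submodule is a pure tensor -/
theorem pure_of_irr (h : Two L C) (D : Dec L C W W') {M : Submodule K V} (hM : IrrS L M) :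
    ∃ w' : W', w' ≠ 0 ∧ M = LinearMap.range (cmap D w') := by
  classical
  have := D.finL
  have : Module.Finite K W := Module.Finite.of_finite
  obtain ⟨v, hvM, hv⟩ := Submodule.exists_mem_ne_zero_of_ne_bot hM.1
  let b := Module.finBasis K W
  obtain ⟨x, rfl⟩ := D.φ.surjective v
  obtain ⟨c, rfl⟩ := TensorProduct.eq_repr_basis_left b x
  have hc : c ≠ 0 := by
    rintro rfl
    exact hv (by rw [Finsupp.sum_zero_index, map_zero])
  obtain ⟨i, hi⟩ := Finsupp.ne_iff.1 hc
  rw [Finsupp.zero_apply] at hi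
  obtain ⟨a, ha, ha'⟩ := D.den h (b.constr K fun j => if j = i then b i else 0)
  have h2 : a (D.φ (c.sum fun j n => b j ⊗ₜ n)) = D.φ (b i ⊗ₜ c i) := by
    rw [Finsupp.sum, map_sum, map_sum]
    have h3 : ∀ j ∈ c.support, a (D.φ (b j ⊗ₜ c j)) = if j = i then D.φ (b i ⊗ₜ c i) else 0 := by
      intro j _
      rw [ha', Basis.constr_basis]
      by_cases hj : j = i
      · subst hj; rw [if_pos rfl, if_pos rfl]
      · simp only [if_neg hj, TensorProduct.zero_tmul, map_zero]
    rw [Finset.sum_congr rfl h3, Finset.sum_ite_eq' c.support i, if_pos (Finsupp.mem_support_iff.2 hi)]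
  have h4 : D.φ (b i ⊗ₜ c i) ∈ M := by
    rw [← h2]
    exact adjoin_inv hM.2.1 a ha _ hvM
  have h5 : D.φ (b i ⊗ₜ c i) ≠ 0 := D.ne_zero (b.ne_zero i) hi
  exact ⟨c i, hi, eq_of_le hM (range_cmap_irr h D hi) h5 h4 ⟨b i, rfl⟩⟩

theorem finrank_irr (h : Two L C) (D : Dec L C W W') {M : Submodule K V} (hM : IrrS L M) :
    Module.finrank K M = Module.finrank K W := by
  obtain ⟨w', hw', rfl⟩ := pure_of_irr h D hM
  exact LinearMap.finrank_range_of_inj (cmap_inj D hw')

theorem bot_of_map {X Y : Type*} [AddCommGroup X] [Module K X] [AddCommGroup Y] [Module K Y] {f : X →ₗ[K] Y}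
    (hf : Function.Injective f) {N : Submodule K X} (h : N.map f = ⊥) : N = ⊥ :=
  Submodule.map_injective_of_injective hf (by rw [h, Submodule.map_bot])

/-- irreducible submodules for a subset of `C` inside `w ⊗ W'` -/
theorem irr_map (D : Dec L C W W') {S : Set (Module.End K V)} (hS : S ⊆ C) {w : W} (hw : w ≠ 0)
    {N : Submodule K W'} (hN : IrrS (D.ρ' '' S) N) : IrrS S (N.map (rmap D w)) := by
  refine ⟨?_, ?_, ?_⟩
  · intro h
    exact hN.1 (bot_of_map (rmap_inj D hw) h)
  · rintro a ha _ ⟨w', hw', rfl⟩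
    refine ⟨D.ρ' a w', hN.2.1 _ ⟨a, ha, rfl⟩ w' hw', ?_⟩
    rw [rmap_apply, rmap_apply, D.hc a (hS ha)]
  · intro M' hM' hi
    have h1 : Inv (D.ρ' '' S) (M'.comap (rmap D w)) := by
      rintro _ ⟨a, ha, rfl⟩ w' hw'
      change rmap D w (D.ρ' a w') ∈ M'
      rw [rmap_apply, ← D.hc a (hS ha)]
      exact hi a ha _ hw'
    have h2 : M'.comap (rmap D w) ≤ N := by
      have := Submodule.comap_mono (f := rmap D w) hM'
      rwa [Submodule.comap_map_eq_of_injective (rmap_inj D hw)] at this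
    have h3 : M' ≤ LinearMap.range (rmap D w) := hM'.trans (LinearMap.map_le_range)
    rcases hN.2.2 _ h2 h1 with h4 | h4
    · left
      rw [← Submodule.map_comap_eq_of_le h3, h4, Submodule.map_bot]
    · right
      rw [← Submodule.map_comap_eq_of_le h3, h4]

theorem irr_comap (D : Dec L C W W') {S : Set (Module.End K V)} (hS : S ⊆ C) {w : W} (hw : w ≠ 0)
    {w' : W'} (hw' : w' ≠ 0) {M : Submodule K V} (hM : IrrS S M) (hv : D.φ (w ⊗ₜ w') ∈ M) :
    IrrS (D.ρ' '' S) (M.comap (rmap D w)) := by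
  refine ⟨?_, ?_, ?_⟩
  · intro h
    have : w' ∈ M.comap (rmap D w) := hv
    rw [h, Submodule.mem_bot] at this
    exact hw' this
  · rintro _ ⟨a, ha, rfl⟩ u hu
    change rmap D w (D.ρ' a u) ∈ M
    rw [rmap_apply, ← D.hc a (hS ha)]
    exact hM.2.1 a ha _ hu
  · intro N hN hi
    have h1 : Inv S (N.map (rmap D w)) := by
      rintro a ha _ ⟨u, hu, rfl⟩
      refine ⟨D.ρ' a u, hi _ ⟨a, ha, rfl⟩ u hu, ?_⟩
      rw [rmap_apply, rmap_apply, D.hc a (hS ha)]
    have h2 : N.map (rmap D w) ≤ M := by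
      rw [Submodule.map_le_iff_le_comap]
      exact hN
    rcases hM.2.2 _ h2 h1 with h3 | h3
    · exact Or.inl (bot_of_map (rmap_inj D hw) h3)
    · right
      rw [← h3, Submodule.comap_map_eq_of_injective (rmap_inj D hw)]

end Basic

section Pure

variable {K W W' : Type u} [Field K] [AddCommGroup W] [Module K W] [AddCommGroup W'] [Module K W']

/-- equal nonzero pure tensors -/
theorem tmul_eq {w₁ w₂ : W} {u₁ u₂ : W'} (hw : w₁ ≠ 0) (hu : u₁ ≠ 0) (h : w₁ ⊗ₜ[K] u₁ = w₂ ⊗ₜ[K] u₂) :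
    ∃ c : Kˣ, w₂ = c • w₁ ∧ u₂ = c⁻¹ • u₁ := by
  obtain ⟨f, hf⟩ := exists_dual (K := K) hw
  obtain ⟨g, hg⟩ := exists_dual (K := K) hu
  have h1 : g u₂ • w₂ = w₁ := by
    have := congrArg (TensorProduct.lift ((LinearMap.lsmul K W).flip.compl₂ g) : W ⊗[K] W' →ₗ[K] W) h
    simpa [hg] using this.symm
  have h2 : f w₂ • u₂ = u₁ := by
    have := congrArg (TensorProduct.lift ((LinearMap.lsmul K W').comp f) : W ⊗[K] W' →ₗ[K] W') h
    simpa only [hf, _root_.TensorProduct.lift.tmul, _root_.LinearMap.coe_comp, _root_.Function.comp_apply, _root_.LinearMap.lsmul_apply, _root_.one_smul] using this.symm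
  have h3 : f w₂ * g u₂ = 1 := by
    have := congrArg f h1
    rw [map_smul, hf, smul_eq_mul] at this
    rw [mul_comm]; exact this
  refine ⟨⟨f w₂, g u₂, h3, by rw [mul_comm]; exact h3⟩, ?_, ?_⟩
  · rw [Units.smul_def]
    change w₂ = f w₂ • w₁
    rw [← h1, smul_smul, h3, one_smul]
  · change u₂ = g u₂ • u₁
    rw [← h2, smul_smul, mul_comm, h3, one_smul]

end Pure

/-- a map all of whose fibres have `c` elements -/
theorem card_of_fib {α β : Type*} [Finite α] [Finite β] (f : α → β) {c : ℕ} (h : ∀ b, Nat.card {a // f a = b} = c) :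
    Nat.card α = Nat.card β * c := by
  classical
  have := Fintype.ofFinite β
  rw [Nat.card_congr (Equiv.sigmaFiberEquiv f).symm, Nat.card_sigma, Finset.sum_congr rfl (fun b _ => h b),
    Finset.sum_const, smul_eq_mul, Finset.card_univ, Nat.card_eq_fintype_card]

section Family

variable {K : Type u} [Field K] {V : Type u} [AddCommGroup V] [Module K V]

/-- a commuting family, jointly absolutely irreducible -/
structure Fam {k : ℕ} (S : Fin k → Set (Module.End K V)) : Prop where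
  comm : ∀ i j, i ≠ j → ∀ a ∈ S i, ∀ b ∈ S j, a * b = b * a
  irr : ∀ U : Submodule K V, (∀ i, Inv (S i) U) → U = ⊥ ∨ U = ⊤
  sch : ∀ f : Module.End K V, (∀ i, ∀ a ∈ S i, f * a = a * f) → ∃ c : K, ∀ v, f v = c • v

/-- the vectors that are pure with respect to every member of the family -/
def Pu {k : ℕ} (S : Fin k → Set (Module.End K V)) : Set V := {v | v ≠ 0 ∧ ∀ i, ∃ M, IrrS (S i) M ∧ v ∈ M}

theorem Pu.smul {k : ℕ} {S : Fin k → Set (Module.End K V)} {v : V} (hv : v ∈ Pu S) (c : Kˣ) : c • v ∈ Pu S := by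
  refine ⟨?_, fun i => ?_⟩
  · rw [Units.smul_def]
    exact smul_ne_zero c.ne_zero hv.1
  · obtain ⟨M, hM, h⟩ := hv.2 i
    exact ⟨M, hM, M.smul_mem (c : K) h⟩

variable {k : ℕ} {S : Fin (k + 1) → Set (Module.End K V)}

theorem Fam.two (F : Fam S) : Two (S 0) (⋃ i : Fin k, S i.succ) where
  comm l hl c hc := by
    obtain ⟨i, hi⟩ := Set.mem_iUnion.1 hc
    exact F.comm 0 i.succ (Fin.succ_ne_zero i).symm l hl c hi
  irr U h0 h1 := F.irr U (fun i => by
    refine Fin.cases ?_ (fun j => ?_) i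
    · exact h0
    · exact fun a ha v hv => h1 a (Set.mem_iUnion.2 ⟨j, ha⟩) v hv)
  sch f h0 h1 := F.sch f (fun i => by
    refine Fin.cases ?_ (fun j => ?_) i
    · exact h0
    · exact fun a ha => h1 a (Set.mem_iUnion.2 ⟨j, ha⟩))

variable {W W' : Type u} [AddCommGroup W] [Module K W] [AddCommGroup W'] [Module K W']

theorem Fam.tail (F : Fam S) (D : Dec (S 0) (⋃ i : Fin k, S i.succ) W W') :
    Fam (fun i : Fin k => D.ρ' '' S i.succ) where
  comm := by
    rintro i j hij _ ⟨a, ha, rfl⟩ _ ⟨b, hb, rfl⟩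
    obtain ⟨w, hw⟩ := @exists_ne W D.neL 0
    ext w'
    apply D.inj_right hw
    have ha' := Set.mem_iUnion.2 (⟨i, ha⟩ : ∃ i : Fin k, a ∈ S i.succ)
    have hb' := Set.mem_iUnion.2 (⟨j, hb⟩ : ∃ i : Fin k, b ∈ S i.succ)
    rw [Module.End.mul_apply, Module.End.mul_apply, ← D.hc a ha', ← D.hc b hb', ← D.hc b hb', ← D.hc a ha']
    exact LinearMap.congr_fun (F.comm i.succ j.succ (fun h => hij (Fin.succ_injective _ h)) a ha b hb) _
  irr U h := D.symm.irr F.two.symm U (fun l hl w hw => by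
    obtain ⟨i, hi⟩ := Set.mem_iUnion.1 hl
    exact h i _ ⟨l, hi, rfl⟩ w hw)
  sch f h := D.symm.sch F.two.symm f (fun l hl => by
    obtain ⟨i, hi⟩ := Set.mem_iUnion.1 hl
    exact h i _ ⟨l, hi, rfl⟩)

theorem mem_Pu (F : Fam S) (D : Dec (S 0) (⋃ i : Fin k, S i.succ) W W') {w : W} {w' : W'} (hw : w ≠ 0)
    (hw' : w' ∈ Pu (fun i : Fin k => D.ρ' '' S i.succ)) : D.φ (w ⊗ₜ w') ∈ Pu S := by
  refine ⟨D.ne_zero hw hw'.1, fun i => ?_⟩
  refine Fin.cases ?_ (fun j => ?_) i
  · exact ⟨_, range_cmap_irr F.two D hw'.1, ⟨w, rfl⟩⟩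
  · obtain ⟨N, hN, h⟩ := hw'.2 j
    exact ⟨_, irr_map D (fun a ha => Set.mem_iUnion.2 ⟨j, ha⟩) hw hN, ⟨w', h, rfl⟩⟩

theorem exists_of_mem_Pu (F : Fam S) (D : Dec (S 0) (⋃ i : Fin k, S i.succ) W W') {v : V} (hv : v ∈ Pu S) :
    ∃ (w : W) (w' : W'), w ≠ 0 ∧ w' ∈ Pu (fun i : Fin k => D.ρ' '' S i.succ) ∧ D.φ (w ⊗ₜ w') = v := by
  obtain ⟨M, hM, hvM⟩ := hv.2 0
  obtain ⟨w', hw', rfl⟩ := pure_of_irr F.two D hM
  obtain ⟨w, rfl⟩ := hvM
  rw [cmap_apply] at hv
  have hw : w ≠ 0 := by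
    rintro rfl
    exact hv.1 (by rw [TensorProduct.zero_tmul, map_zero])
  refine ⟨w, w', hw, ⟨hw', fun j => ?_⟩, rfl⟩
  obtain ⟨M, hM, hvM⟩ := hv.2 j.succ
  exact ⟨_, irr_comap D (fun a ha => Set.mem_iUnion.2 ⟨j, ha⟩) hw hw' hM hvM, hvM⟩

/-- the number of pairs over one pure tensor -/
theorem card_Pu_succ [Finite K] [Finite V] (F : Fam S) (D : Dec (S 0) (⋃ i : Fin k, S i.succ) W W') :
    Nat.card (Pu S) * (Nat.card K - 1) =
      (Nat.card W - 1) * Nat.card (Pu (fun i : Fin k => D.ρ' '' S i.succ)) := by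
  classical
  have := D.finL
  have := D.finR
  let f : {w : W // w ≠ 0} × Pu (fun i : Fin k => D.ρ' '' S i.succ) → Pu S := fun x =>
    ⟨D.φ (x.1.1 ⊗ₜ x.2.1), mem_Pu F D x.1.2 x.2.2⟩
  have hf : ∀ b, Nat.card {a // f a = b} = Nat.card K - 1 := by
    rintro ⟨v, hv⟩
    obtain ⟨w, w', hw, hw', rfl⟩ := exists_of_mem_Pu F D hv
    rw [← Nat.card_units]
    refine (Nat.card_congr (Equiv.ofBijective (fun c : Kˣ =>
      (⟨(⟨c • w, ?_⟩, ⟨c⁻¹ • w', Pu.smul hw' _⟩), ?_⟩ : {a // f a = ⟨D.φ (w ⊗ₜ w'), hv⟩})) ⟨?_, ?_⟩)).symm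
    · rw [Units.smul_def]
      exact smul_ne_zero c.ne_zero hw
    · apply Subtype.ext
      change D.φ ((c • w) ⊗ₜ (c⁻¹ • w')) = D.φ (w ⊗ₜ w')
      rw [Units.smul_def, Units.smul_def, TensorProduct.smul_tmul, smul_smul, Units.mul_inv, one_smul]
    · intro c d h
      have h1 : (c • w : W) = d • w := congrArg (fun x : {a // f a = ⟨D.φ (w ⊗ₜ w'), hv⟩} => x.1.1.1) h
      rw [Units.smul_def, Units.smul_def, ← sub_eq_zero, ← sub_smul, smul_eq_zero] at h1
      exact Units.ext (sub_eq_zero.1 (h1.resolve_right hw))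
    · rintro ⟨⟨⟨w₂, h2⟩, ⟨u₂, h3⟩⟩, h4⟩
      have h5 : D.φ (w₂ ⊗ₜ u₂) = D.φ (w ⊗ₜ w') := congrArg Subtype.val h4
      obtain ⟨c, hc, hc'⟩ := tmul_eq hw hw'.1 (D.φ.injective h5).symm
      refine ⟨c, Subtype.ext ?_⟩
      exact Prod.ext (Subtype.ext hc.symm) (Subtype.ext hc'.symm)
  have h1 := card_of_fib f hf
  rw [Nat.card_prod] at h1
  have h2 : Nat.card {w : W // w ≠ 0} = Nat.card W - 1 := by
    have := Fintype.ofFinite W
    rw [Nat.card_eq_fintype_card, Nat.card_eq_fintype_card, Fintype.card_subtype_compl, Fintype.card_subtype_eq]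
  rw [← h1, h2]

end Family

/-- **dimension and number of pure vectors** -/
theorem Fam.count {K : Type u} [Field K] [Finite K] : ∀ (k : ℕ) {V : Type u} [AddCommGroup V] [Module K V] [Finite V]
    [Nontrivial V] {S : Fin k → Set (Module.End K V)} (_ : Fam S) (w : Fin k → ℕ)
    (_ : ∀ i M, IrrS (S i) M → Module.finrank K M = w i), Module.finrank K V = ∏ i, w i ∧
      Nat.card (Pu S) * (Nat.card K - 1) ^ k = (Nat.card K - 1) * ∏ i, (Nat.card K ^ w i - 1)
  | 0, V, _, _, _, _, S, F, w, hw => by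
    classical
    obtain ⟨v, hv⟩ := exists_ne (0 : V)
    have h1 : K ∙ v = ⊤ := by
      refine (F.irr (K ∙ v) (fun i => i.elim0)).resolve_left ?_
      rw [Submodule.span_singleton_eq_bot]
      exact hv
    have h2 : Module.finrank K V = 1 := by
      rw [← finrank_top, ← h1, finrank_span_singleton hv]
    refine ⟨by rw [h2]; simp, ?_⟩
    have h3 : Pu S = {v | v ≠ 0} := by
      ext v
      exact ⟨fun h => h.1, fun h => ⟨h, fun i => i.elim0⟩⟩
    have h4 : Nat.card V = Nat.card K := by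
      rw [Module.natCard_eq_pow_finrank (K := K), h2, pow_one]
    have h5 : Nat.card {v : V | v ≠ 0} = Nat.card V - 1 := by
      have := Fintype.ofFinite V
      have : Nat.card {v : V // v ≠ 0} = Nat.card V - 1 := by
        rw [Nat.card_eq_fintype_card, Nat.card_eq_fintype_card, Fintype.card_subtype_compl, Fintype.card_subtype_eq]
      exact this
    rw [h3, h5, h4]
    simp only [_root_.Nat.card_eq_fintype_card, _root_.pow_zero, _root_.mul_one, _root_.Finset.univ_eq_empty, _root_.Finset.prod_empty]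
  | k + 1, V, _, _, _, _, S, F, w, hw => by
    classical
    obtain ⟨W, W', _, _, _, _, ⟨D⟩⟩ := exists_dec F.two
    have := D.finL
    have := D.finR
    have := D.neL
    have := D.neR
    have : Module.Finite K W := Module.Finite.of_finite
    have : Module.Finite K W' := Module.Finite.of_finite
    obtain ⟨w₀, hw₀⟩ := exists_ne (0 : W)
    obtain ⟨w₁, hw₁⟩ := exists_ne (0 : W')
    have hW : Module.finrank K W = w 0 := by
      rw [← hw 0 _ (range_cmap_irr F.two D hw₁)]
      exact (finrank_irr F.two D (range_cmap_irr F.two D hw₁)).symm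
    obtain ⟨h1, h2⟩ := Fam.count k (V := W') (F.tail D) (fun i => w i.succ) (by
      intro i M hM
      rw [← hw i.succ _ (irr_map D (fun a ha => Set.mem_iUnion.2 ⟨i, ha⟩) hw₀ hM)]
      exact (LinearEquiv.finrank_eq (Submodule.equivMapOfInjective _ (rmap_inj D hw₀) M)))
    constructor
    · rw [← D.φ.finrank_eq, Module.finrank_tensorProduct, hW, h1, Fin.prod_univ_succ]
    · have h3 := card_Pu_succ F D
      rw [pow_succ, mul_comm _ (Nat.card K - 1), ← mul_assoc, h3, mul_assoc, h2, Fin.prod_univ_succ,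
        Module.natCard_eq_pow_finrank (K := K) (V := W), hW]
      ring

end Cfsg.Agent.H138.HT
end

-- part: H138/HT/NumTT
section
/-!
# S3540, section 4: the numerical conditions of the pure tensors
-/

set_option autoImplicit false

namespace Cfsg.Agent.H138.HT

theorem two_pow_gt : ∀ k : ℕ, 5 ≤ k → 2 * k < 2 ^ (k - 1) := by
  intro k hk
  obtain ⟨j, rfl⟩ : ∃ j, k = j + 5 := ⟨k - 5, by omega⟩
  induction j with
  | zero => norm_num
  | succ j ih =>
    have h1 := ih (by omega)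
    have h2 : j + 1 + 5 - 1 = (j + 5 - 1) + 1 := by omega
    rw [h2, pow_succ]
    omega

theorem small_kw {k w : ℕ} (hk : 2 ≤ k) (hw : 2 ≤ w) (h : w ^ k ≤ 2 * k * w) :
    (k = 2 ∧ w ≤ 4) ∨ (k = 3 ∧ w = 2) ∨ (k = 4 ∧ w = 2) := by
  have h1 : w ^ (k - 1) ≤ 2 * k := by
    have h2 : w ^ k = w ^ (k - 1) * w := by rw [← pow_succ]; congr 1; omega
    rw [h2] at h
    exact Nat.le_of_mul_le_mul_right h (by omega)
  have h5 : k < 5 := by
    by_contra hc
    have h2 := two_pow_gt k (by omega)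
    have h3 : 2 ^ (k - 1) ≤ w ^ (k - 1) := Nat.pow_le_pow_left hw _
    omega
  interval_cases k
  · left
    refine ⟨rfl, ?_⟩
    norm_num at h1
    exact h1
  · right; left
    refine ⟨rfl, ?_⟩
    norm_num at h1
    nlinarith only [hw, h1]
  · right; right
    refine ⟨rfl, ?_⟩
    norm_num at h1
    by_contra hc
    have h3 : 3 ≤ w := by omega
    have h4 : 3 ^ 3 ≤ w ^ 3 := Nat.pow_le_pow_left h3 _
    omega

/-- divisor of both -/
theorem le_gcd {m a b : ℕ} (h1 : m ∣ a) (h2 : m ∣ b) (ha : 0 < a) : m ≤ Nat.gcd a b :=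
  Nat.le_of_dvd (Nat.gcd_pos_of_pos_left _ ha) (Nat.dvd_gcd h1 h2)

theorem num_pure {q k w m P : ℕ} (hq : 2 ≤ q) (hk : 2 ≤ k) (hw : 2 ≤ w)
    (hP : P * (q - 1) ^ k = (q - 1) * (q ^ w - 1) ^ k) (h1 : m ∣ P) (h2 : m ∣ q ^ (w ^ k) - 1)
    (h3 : q ^ (w ^ k) ≤ 2 * m ^ 2) : k = 2 ∧ w = 2 ∧ m ∣ 2 * (q ^ 2 - 1) := by
  obtain ⟨t, rfl⟩ : ∃ t, q = t + 1 := ⟨q - 1, by omega⟩
  have ht : 1 ≤ t := by omega
  rw [Nat.add_sub_cancel] at hP
  have hP1 : P * t ^ (k - 1) = ((t + 1) ^ w - 1) ^ k := by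
    have h4 : t ^ k = t ^ (k - 1) * t := by rw [← pow_succ]; congr 1; omega
    rw [h4] at hP
    have h5 : t * (P * t ^ (k - 1)) = t * ((t + 1) ^ w - 1) ^ k := by rw [← hP]; ring
    exact Nat.eq_of_mul_eq_mul_left (by omega) h5
  have hQ : 1 < (t + 1) ^ w := Nat.one_lt_pow (by omega) (by omega)
  have hPpos : 0 < P := by
    rcases Nat.eq_zero_or_pos P with h | h
    · rw [h, zero_mul] at hP1
      have : 0 < ((t + 1) ^ w - 1) ^ k := Nat.pow_pos (by omega)
      omega
    · exact h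
  have hmP : m ≤ P := Nat.le_of_dvd hPpos h1
  -- the size
  have hsize : (t + 1) ^ (w ^ k) * (t ^ (k - 1)) ^ 2 < 2 * ((t + 1) ^ w) ^ (2 * k) := by
    have h4 : (t + 1) ^ (w ^ k) * (t ^ (k - 1)) ^ 2 ≤ 2 * P ^ 2 * (t ^ (k - 1)) ^ 2 :=
      Nat.mul_le_mul_right _ (h3.trans (Nat.mul_le_mul_left _ (Nat.pow_le_pow_left hmP 2)))
    have h5 : 2 * P ^ 2 * (t ^ (k - 1)) ^ 2 = 2 * ((t + 1) ^ w - 1) ^ (2 * k) := by
      rw [mul_comm 2 k, pow_mul _ k 2, ← hP1]; ring
    have h6 : ((t + 1) ^ w - 1) ^ (2 * k) < ((t + 1) ^ w) ^ (2 * k) := Nat.pow_lt_pow_left (by omega) (by omega)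
    omega
  have hkw : w ^ k ≤ 2 * k * w := by
    by_contra hc
    have h4 : (t + 1) ^ (2 * k * w + 1) ≤ (t + 1) ^ (w ^ k) := Nat.pow_le_pow_right (by omega) (by omega)
    have h5 : 1 ≤ (t ^ (k - 1)) ^ 2 := Nat.pow_pos (Nat.pow_pos (by omega))
    have h6 : (t + 1) ^ (w ^ k) * 1 ≤ (t + 1) ^ (w ^ k) * (t ^ (k - 1)) ^ 2 := Nat.mul_le_mul_left _ h5
    have h7 : ((t + 1) ^ w) ^ (2 * k) = (t + 1) ^ (2 * k * w) := by rw [← pow_mul]; congr 1; ring
    rw [h7] at hsize
    rw [pow_succ] at h4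
    have h8 : 2 * (t + 1) ^ (2 * k * w) ≤ (t + 1) ^ (2 * k * w) * (t + 1) := by
      rw [mul_comm]; exact Nat.mul_le_mul_left _ (by omega)
    omega
  rcases small_kw hk hw hkw with ⟨rfl, hw4⟩ | ⟨rfl, rfl⟩ | ⟨rfl, rfl⟩
  · interval_cases w
    · -- k = 2, w = 2
      refine ⟨rfl, rfl, ?_⟩
      have e1 : (t + 1) ^ 2 - 1 = t * (t + 2) := by
        rw [Nat.sub_eq_iff_eq_add (by linarith only [hq, _root_.sq_nonneg (↑t : ℤ)])]; ring
      have e2 : (t + 1) ^ (2 ^ 2) - 1 = t * (t + 2) * ((t + 1) ^ 2 + 1) := by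
        have : (t + 1) ^ (2 ^ 2) = t * (t + 2) * ((t + 1) ^ 2 + 1) + 1 := by ring
        omega
      have hP2 : P = t * (t + 2) ^ 2 := by
        rw [e1] at hP1
        have h5 : t * P = t * (t * (t + 2) ^ 2) := by
          calc t * P = P * t ^ (2 - 1) := by norm_num; ring
            _ = _ := by rw [hP1]; ring
        exact Nat.eq_of_mul_eq_mul_left (by omega) h5
      rw [e1]
      rw [e2] at h2
      rw [hP2] at h1
      have h5 : m ∣ t * (t * (t + 2) ^ 2) := Dvd.dvd.mul_left h1 t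
      have h6 : 2 * (t * (t + 2)) + t * (t * (t + 2) ^ 2) = t * (t + 2) * ((t + 1) ^ 2 + 1) := by ring
      rw [← h6] at h2
      exact (Nat.dvd_add_left h5).1 h2
    · -- k = 2, w = 3
      exfalso
      have e1 : (t + 1) ^ 3 - 1 = t * (t ^ 2 + 3 * t + 3) := by
        have : (t + 1) ^ 3 = t * (t ^ 2 + 3 * t + 3) + 1 := by ring
        omega
      have hP2 : P = t * (t ^ 2 + 3 * t + 3) ^ 2 := by
        rw [e1] at hP1
        have h5 : t * P = t * (t * (t ^ 2 + 3 * t + 3) ^ 2) := by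
          calc t * P = P * t ^ (2 - 1) := by norm_num; ring
            _ = _ := by rw [hP1]; ring
        exact Nat.eq_of_mul_eq_mul_left (by omega) h5
      have e2 : (t + 1) ^ (3 ^ 2) - 1 = t * (t ^ 2 + 3 * t + 3) * ((t + 1) ^ 6 + (t + 1) ^ 3 + 1) := by
        have : (t + 1) ^ (3 ^ 2) = t * (t ^ 2 + 3 * t + 3) * ((t + 1) ^ 6 + (t + 1) ^ 3 + 1) + 1 := by ring
        omega
      have h7 : m ∣ 3 * (t * (t ^ 2 + 3 * t + 3)) := by
        rw [e2] at h2
        rw [hP2] at h1
        have h5 : m ∣ (t * ((t + 1) ^ 3 + 2)) * (t * (t ^ 2 + 3 * t + 3) ^ 2) := Dvd.dvd.mul_left h1 _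
        have h6 : 3 * (t * (t ^ 2 + 3 * t + 3)) + (t * ((t + 1) ^ 3 + 2)) * (t * (t ^ 2 + 3 * t + 3) ^ 2) =
            t * (t ^ 2 + 3 * t + 3) * ((t + 1) ^ 6 + (t + 1) ^ 3 + 1) := by ring
        rw [← h6] at h2
        exact (Nat.dvd_add_left h5).1 h2
      have h8 : m ≤ 3 * (t * (t ^ 2 + 3 * t + 3)) := Nat.le_of_dvd (by positivity) h7
      have h9 : m < 3 * (t + 1) ^ 3 := by
        have : (t + 1) ^ 3 = t * (t ^ 2 + 3 * t + 3) + 1 := by ring
        omega
      have h10 : (t + 1) ^ (3 ^ 2) < 18 * (t + 1) ^ 6 := by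
        calc (t + 1) ^ (3 ^ 2) ≤ 2 * m ^ 2 := h3
          _ < 2 * (3 * (t + 1) ^ 3) ^ 2 := by
            have := Nat.pow_lt_pow_left h9 (n := 2) (by norm_num)
            omega
          _ = 18 * (t + 1) ^ 6 := by ring
      have h11 : (t + 1) ^ 3 < 18 := by
        have h12 : (t + 1) ^ (3 ^ 2) = (t + 1) ^ 3 * (t + 1) ^ 6 := by ring
        rw [h12] at h10
        exact Nat.lt_of_mul_lt_mul_right h10
      have h12 : t = 1 := by
        by_contra hc
        have : 3 ^ 3 ≤ (t + 1) ^ 3 := Nat.pow_le_pow_left (by omega) 3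
        omega
      subst h12
      norm_num at hP2
      rw [hP2] at h1
      have h13 := le_gcd h1 h2 (by norm_num)
      have h14 : Nat.gcd 49 ((1 + 1) ^ 3 ^ 2 - 1) = 7 := by norm_num
      rw [h14] at h13
      have h15 : 2 * m ^ 2 ≤ 2 * 7 ^ 2 := Nat.mul_le_mul_left _ (Nat.pow_le_pow_left h13 2)
      norm_num at h3 h15
      omega
    · -- k = 2, w = 4
      exfalso
      have h4 : t = 1 := by
        by_contra hc
        have h5 : 2 ≤ t := by omega
        have h6 : ((t + 1) ^ 4) ^ (2 * 2) = (t + 1) ^ (4 ^ 2) := by rw [← pow_mul]; norm_num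
        rw [h6] at hsize
        have h7 : 2 * (t + 1) ^ (4 ^ 2) ≤ (t + 1) ^ (4 ^ 2) * (t ^ (2 - 1)) ^ 2 := by
          rw [mul_comm]
          refine Nat.mul_le_mul_left _ ?_
          norm_num
          nlinarith only [h5]
        omega
      subst h4
      norm_num at hP1
      rw [hP1] at h1
      have h13 := le_gcd h1 h2 (by norm_num)
      have h14 : Nat.gcd 225 ((1 + 1) ^ 4 ^ 2 - 1) = 15 := by norm_num
      rw [h14] at h13
      have h15 : 2 * m ^ 2 ≤ 2 * 15 ^ 2 := Nat.mul_le_mul_left _ (Nat.pow_le_pow_left h13 2)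
      norm_num at h3 h15
      omega
  · -- k = 3, w = 2
    exfalso
    have e1 : (t + 1) ^ 2 - 1 = t * (t + 2) := by
      have : (t + 1) ^ 2 = t * (t + 2) + 1 := by ring
      omega
    have hP2 : P = t * (t + 2) ^ 3 := by
      rw [e1] at hP1
      have h5 : t ^ 2 * P = t ^ 2 * (t * (t + 2) ^ 3) := by
        calc t ^ 2 * P = P * t ^ (3 - 1) := by norm_num; ring
          _ = _ := by rw [hP1]; ring
      exact Nat.eq_of_mul_eq_mul_left (by positivity) h5
    have h7 : m ∣ 16 * (t * (t + 2)) := by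
      have e2 : (t + 1) ^ (2 ^ 3) - 1 = t * (t + 2) * (((t + 1) ^ 2 + 1) * ((t + 1) ^ 4 + 1)) := by
        have : (t + 1) ^ (2 ^ 3) = t * (t + 2) * (((t + 1) ^ 2 + 1) * ((t + 1) ^ 4 + 1)) + 1 := by ring
        omega
      rw [e2] at h2
      rw [hP2] at h1
      have i1 : (m : ℤ) ∣ (t : ℤ) * (t + 2) ^ 3 := by exact_mod_cast h1
      have i2 : (m : ℤ) ∣ (t : ℤ) * (t + 2) * (((t + 1) ^ 2 + 1) * ((t + 1) ^ 4 + 1)) := by exact_mod_cast h2
      have i3 : (16 : ℤ) * (t * (t + 2)) =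
          ((t : ℤ) * (t + 2) ^ 3) * (t * ((t + 1) ^ 4 + 2 * (t + 1) ^ 2 + 3)) ^ 2 -
          ((t : ℤ) * (t + 2) * (((t + 1) ^ 2 + 1) * ((t + 1) ^ 4 + 1))) *
            (((t + 1) ^ 2 + 1) * ((t + 1) ^ 4 + 1) - 8) := by ring
      have i4 : (m : ℤ) ∣ (16 : ℤ) * (t * (t + 2)) := by
        rw [i3]
        exact dvd_sub (Dvd.dvd.mul_right i1 _) (Dvd.dvd.mul_right i2 _)
      exact_mod_cast i4
    have h8 : m ≤ 16 * (t * (t + 2)) := Nat.le_of_dvd (by positivity) h7
    have h9 : m < 16 * (t + 1) ^ 2 := by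
      have : (t + 1) ^ 2 = t * (t + 2) + 1 := by ring
      omega
    have h10 : (t + 1) ^ (2 ^ 3) < 512 * (t + 1) ^ 4 := by
      calc (t + 1) ^ (2 ^ 3) ≤ 2 * m ^ 2 := h3
        _ < 2 * (16 * (t + 1) ^ 2) ^ 2 := by
          have := Nat.pow_lt_pow_left h9 (n := 2) (by norm_num)
          omega
        _ = 512 * (t + 1) ^ 4 := by ring
    have h11 : (t + 1) ^ 4 < 512 := by
      have h12 : (t + 1) ^ (2 ^ 3) = (t + 1) ^ 4 * (t + 1) ^ 4 := by ring
      rw [h12] at h10
      exact Nat.lt_of_mul_lt_mul_right h10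
    have h12 : t < 4 := by
      by_contra hc
      have : 5 ^ 4 ≤ (t + 1) ^ 4 := Nat.pow_le_pow_left (by omega) 4
      omega
    interval_cases t
    · norm_num at hP2
      rw [hP2] at h1
      have h13 := le_gcd h1 h2 (by norm_num)
      have h14 : Nat.gcd 27 ((1 + 1) ^ 2 ^ 3 - 1) = 3 := by norm_num
      rw [h14] at h13
      have h15 : 2 * m ^ 2 ≤ 2 * 3 ^ 2 := Nat.mul_le_mul_left _ (Nat.pow_le_pow_left h13 2)
      norm_num only [] at h3 h15
      omega
    · norm_num at hP2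
      rw [hP2] at h1
      have h13 := le_gcd h1 h2 (by norm_num)
      have h14 : Nat.gcd 128 ((2 + 1) ^ 2 ^ 3 - 1) = 32 := by norm_num
      rw [h14] at h13
      have h15 : 2 * m ^ 2 ≤ 2 * 32 ^ 2 := Nat.mul_le_mul_left _ (Nat.pow_le_pow_left h13 2)
      norm_num only [] at h3 h15
      omega
    · norm_num at hP2
      rw [hP2] at h1
      have h13 := le_gcd h1 h2 (by norm_num)
      have h14 : Nat.gcd 375 ((3 + 1) ^ 2 ^ 3 - 1) = 15 := by norm_num
      rw [h14] at h13
      have h15 : 2 * m ^ 2 ≤ 2 * 15 ^ 2 := Nat.mul_le_mul_left _ (Nat.pow_le_pow_left h13 2)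
      norm_num only [] at h3 h15
      omega
  · -- k = 4, w = 2
    exfalso
    have e1 : (t + 1) ^ 2 - 1 = t * (t + 2) := by
      have : (t + 1) ^ 2 = t * (t + 2) + 1 := by ring
      omega
    have hP2 : P = t * (t + 2) ^ 4 := by
      rw [e1] at hP1
      have h5 : t ^ 3 * P = t ^ 3 * (t * (t + 2) ^ 4) := by
        calc t ^ 3 * P = P * t ^ (4 - 1) := by norm_num; ring
          _ = _ := by rw [hP1]; ring
      exact Nat.eq_of_mul_eq_mul_left (by positivity) h5
    have h4 : (t + 1) ^ (2 ^ 4) ≤ 2 * (t * (t + 2) ^ 4) ^ 2 := by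
      rw [← hP2]
      exact h3.trans (Nat.mul_le_mul_left _ (Nat.pow_le_pow_left hmP 2))
    -- `t (t + 2) ≤ (t + 1) ^ 2`, `2 (t + 2) ≤ 3 (t + 1)`
    have h5 : (t * (t + 2) ^ 4) ^ 2 ≤ ((t + 1) ^ 2) ^ 2 * ((t + 2) ^ 6) := by
      have : (t * (t + 2) ^ 4) ^ 2 = (t * (t + 2)) ^ 2 * (t + 2) ^ 6 := by ring
      rw [this]
      exact Nat.mul_le_mul_right _ (Nat.pow_le_pow_left (by linarith only []) 2)
    have h6 : 64 * (t + 2) ^ 6 ≤ 729 * (t + 1) ^ 6 := by
      have h7 : 64 * (t + 2) ^ 6 = (2 * (t + 2)) ^ 6 := by ring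
      have h8 : 729 * (t + 1) ^ 6 = (3 * (t + 1)) ^ 6 := by ring
      rw [h7, h8]
      exact Nat.pow_le_pow_left (by omega) 6
    have h7 : 64 * (t + 1) ^ 6 ≤ (t + 1) ^ 12 := by
      have h8 : (t + 1) ^ 12 = (t + 1) ^ 6 * (t + 1) ^ 6 := by ring
      rw [h8]
      refine Nat.mul_le_mul_right _ ?_
      calc 64 = 2 ^ 6 := by norm_num
        _ ≤ (t + 1) ^ 6 := Nat.pow_le_pow_left (by omega) 6
    have h8 : (t + 1) ^ (2 ^ 4) = (t + 1) ^ 4 * (t + 1) ^ 12 := by ring
    have h9 : ((t + 1) ^ 2) ^ 2 = (t + 1) ^ 4 := by ring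
    rw [h8] at h4
    rw [h9] at h5
    have h10 : (t + 1) ^ 4 * (t + 1) ^ 12 ≤ (t + 1) ^ 4 * (2 * (t + 2) ^ 6) := by
      calc _ ≤ _ := h4
        _ ≤ 2 * ((t + 1) ^ 4 * (t + 2) ^ 6) := Nat.mul_le_mul_left _ h5
        _ = _ := by ring
    have h11 := Nat.le_of_mul_le_mul_left h10 (by positivity)
    have h12 : 0 < (t + 1) ^ 6 := by positivity
    omega

end Cfsg.Agent.H138.HT
end

-- part: H138/HT/Comps
section
/-!
# S3540, section 4: at least two components, reduction to two components and dimension `2 × 2`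
-/

set_option autoImplicit false
set_option linter.unusedSectionVars false

universe u

namespace Cfsg.Agent.H138.HT

open Cfsg.Agent.H828.HT Cfsg.Agent.Omega.NO1.Comp Module TensorProduct

/-- a quasisimple group is not abelian -/
theorem qs_nonab {X : Type*} [Group X] (h : Cfsg.IsQuasisimple X) (hc : ∀ x y : X, x * y = y * x) : False := by
  obtain ⟨hp, hs⟩ := h
  have h1 : Subgroup.center X = ⊤ := by
    rw [eq_top_iff]
    intro x _
    rw [Subgroup.mem_center_iff]
    exact fun g => hc g x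
  have h2 := hs.toNontrivial
  obtain ⟨a, b, hab⟩ := h2
  obtain ⟨x, rfl⟩ := QuotientGroup.mk_surjective a
  obtain ⟨y, rfl⟩ := QuotientGroup.mk_surjective b
  apply hab
  rw [QuotientGroup.eq, h1]
  trivial

section Perm

variable {X : Type*} [Group X] {G : Subgroup X} {k : ℕ} {L : Fin k → Subgroup X}

/-- the action on the components -/
theorem perm_iff (hq : ∀ i, Cfsg.IsQuasisimple (L i))
    (hcomm : ∀ i j, i ≠ j → ∀ x ∈ L i, ∀ y ∈ L j, x * y = y * x)
    (hperm : ∀ g ∈ G, ∀ i, ∃ j, ∀ x ∈ L i, g * x * g⁻¹ ∈ L j) {g : X} (hg : g ∈ G) (i : Fin k) :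
    ∃ j, ∀ x, x ∈ L i ↔ g * x * g⁻¹ ∈ L j := by
  obtain ⟨j, hj⟩ := hperm g hg i
  obtain ⟨i', hi'⟩ := hperm g⁻¹ (G.inv_mem hg) j
  have h1 : ∀ x ∈ L i, x ∈ L i' := by
    intro x hx
    have := hi' _ (hj x hx)
    have e : g⁻¹ * (g * x * g⁻¹) * g⁻¹⁻¹ = x := by group
    rwa [e] at this
  have h2 : i = i' := by
    by_contra hne
    exact qs_nonab (hq i) (fun x y => Subtype.ext (hcomm i i' hne x x.2 y (h1 y y.2)))
  subst h2
  refine ⟨j, fun x => ⟨hj x, fun hx => ?_⟩⟩
  have := hi' _ hx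
  have e : g⁻¹ * (g * x * g⁻¹) * g⁻¹⁻¹ = x := by group
  rwa [e] at this

theorem comp_ne (hq : ∀ i, Cfsg.IsQuasisimple (L i))
    (hcomm : ∀ i j, i ≠ j → ∀ x ∈ L i, ∀ y ∈ L j, x * y = y * x) {i j : Fin k} (h : ∀ x ∈ L i, x ∈ L j) : i = j := by
  by_contra hne
  exact qs_nonab (hq i) (fun x y => Subtype.ext (hcomm i j hne x x.2 y (h y y.2)))

/-- conversely, if `g` maps `L i` into `L j`, it does so bijectively -/
theorem perm_iff_of (hq : ∀ i, Cfsg.IsQuasisimple (L i))
    (hcomm : ∀ i j, i ≠ j → ∀ x ∈ L i, ∀ y ∈ L j, x * y = y * x)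
    (hperm : ∀ g ∈ G, ∀ i, ∃ j, ∀ x ∈ L i, g * x * g⁻¹ ∈ L j) {g : X} (hg : g ∈ G) {i j : Fin k}
    (h : ∀ x ∈ L i, g * x * g⁻¹ ∈ L j) : ∀ x, x ∈ L i ↔ g * x * g⁻¹ ∈ L j := by
  obtain ⟨j', hj'⟩ := perm_iff hq hcomm hperm hg i
  obtain ⟨i', hi'⟩ := perm_iff hq hcomm hperm (G.inv_mem hg) j
  have h1 : i = i' := comp_ne hq hcomm (fun x hx => by
    have := (hi' _).1 (h x hx)
    have e : g⁻¹ * (g * x * g⁻¹) * g⁻¹⁻¹ = x := by group
    rwa [e] at this)
  subst h1
  intro x
  refine ⟨h x, fun hx => ?_⟩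
  have := (hi' _).1 hx
  have e : g⁻¹ * (g * x * g⁻¹) * g⁻¹⁻¹ = x := by group
  rwa [e] at this

end Perm

section Semi

variable {p : ℕ} [Fact p.Prime] {K V : Type u} [Field K] [AddCommGroup V] [Module (ZMod p) V] [Module K V]

/-- the image of a `K`-submodule under a `K`-semilinear map `g` -/
def gsub (g : V ≃ₗ[ZMod p] V) (h : ∃ σ : K ≃+* K, ∀ (c : K) (v : V), g⁻¹ (c • v) = σ c • g⁻¹ v)
    (M : Submodule K V) : Submodule K V where
  carrier := {v | g⁻¹ v ∈ M}
  add_mem' := by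
    intro a b ha hb
    change g⁻¹ (a + b) ∈ M
    rw [map_add]
    exact M.add_mem ha hb
  zero_mem' := by
    change g⁻¹ 0 ∈ M
    rw [map_zero]
    exact M.zero_mem
  smul_mem' := by
    intro c v hv
    obtain ⟨σ, hσ⟩ := h
    change g⁻¹ (c • v) ∈ M
    rw [hσ]
    exact M.smul_mem _ hv

theorem mem_gsub {g : V ≃ₗ[ZMod p] V} {h : ∃ σ : K ≃+* K, ∀ (c : K) (v : V), g⁻¹ (c • v) = σ c • g⁻¹ v}
    {M : Submodule K V} {v : V} : v ∈ gsub g h M ↔ g⁻¹ v ∈ M := Iff.rfl

theorem mul_app (a b : V ≃ₗ[ZMod p] V) (v : V) : (a * b) v = a (b v) := rfl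

theorem inv_app_self (g : V ≃ₗ[ZMod p] V) (v : V) : g⁻¹ (g v) = v := by
  rw [← mul_app, inv_mul_cancel]; rfl

theorem app_inv_self (g : V ≃ₗ[ZMod p] V) (v : V) : g (g⁻¹ v) = v := by
  rw [← mul_app, mul_inv_cancel]; rfl

theorem card_gsub {g : V ≃ₗ[ZMod p] V} {h : ∃ σ : K ≃+* K, ∀ (c : K) (v : V), g⁻¹ (c • v) = σ c • g⁻¹ v}
    {M : Submodule K V} : Nat.card (gsub g h M) = Nat.card M := by
  refine Nat.card_congr ⟨fun v => ⟨g⁻¹ v.1, v.2⟩, fun v => ⟨g v.1, ?_⟩, fun v => ?_, fun v => ?_⟩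
  · rw [mem_gsub, inv_app_self]; exact v.2
  · exact Subtype.ext (app_inv_self g v.1)
  · exact Subtype.ext (inv_app_self g v.1)

/-- `linSet` and invariance -/
theorem inv_iff {A : Subgroup (V ≃ₗ[ZMod p] V)} (hlin : ∀ a ∈ A, ∀ (c : K) (v : V), a (c • v) = c • a v)
    (M : Submodule K V) :
    Inv (linSet K V (A : Set (V ≃ₗ[ZMod p] V))) M ↔ ∀ a ∈ A, ∀ v ∈ M, a v ∈ M := by
  constructor
  · intro h a ha v hv
    exact h { toFun := fun v => a v, map_add' := map_add a, map_smul' := fun c v => hlin a ha c v }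
      ⟨a, ha, fun v => rfl⟩ v hv
  · rintro h f ⟨a, ha, hf⟩ v hv
    rw [hf]
    exact h a ha v hv

theorem irr_gsub {A B : Subgroup (V ≃ₗ[ZMod p] V)} (hA : ∀ a ∈ A, ∀ (c : K) (v : V), a (c • v) = c • a v)
    (hB : ∀ a ∈ B, ∀ (c : K) (v : V), a (c • v) = c • a v)
    {g : V ≃ₗ[ZMod p] V} (h : ∃ σ : K ≃+* K, ∀ (c : K) (v : V), g⁻¹ (c • v) = σ c • g⁻¹ v)
    (h' : ∃ σ : K ≃+* K, ∀ (c : K) (v : V), g⁻¹⁻¹ (c • v) = σ c • g⁻¹⁻¹ v)
    (hAB : ∀ x, x ∈ A ↔ g * x * g⁻¹ ∈ B) {M : Submodule K V}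
    (hM : IrrS (linSet K V (A : Set (V ≃ₗ[ZMod p] V))) M) :
    IrrS (linSet K V (B : Set (V ≃ₗ[ZMod p] V))) (gsub g h M) := by
  have hBA : ∀ y ∈ B, g⁻¹ * y * g ∈ A := by
    intro y hy
    rw [hAB]
    have e : g * (g⁻¹ * y * g) * g⁻¹ = y := by group
    rwa [e]
  refine ⟨?_, ?_, ?_⟩
  · obtain ⟨v, hv, hv0⟩ := Submodule.exists_mem_ne_zero_of_ne_bot hM.1
    intro hb
    have h1 : g v ∈ gsub g h M := by rw [mem_gsub, inv_app_self]; exact hv
    rw [hb, Submodule.mem_bot] at h1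
    apply hv0
    have := congrArg (fun v => g⁻¹ v) h1
    simpa only [inv_app_self, map_zero] using this
  · rw [inv_iff hB]
    intro b hb v hv
    rw [mem_gsub] at hv ⊢
    have h1 := (inv_iff hA M).1 hM.2.1 _ (hBA b hb) _ hv
    rwa [mul_app, mul_app, app_inv_self] at h1
  · intro N hN hi
    rw [inv_iff hB] at hi
    have h1 : Inv (linSet K V (A : Set (V ≃ₗ[ZMod p] V))) (gsub g⁻¹ h' N) := by
      rw [inv_iff hA]
      intro a ha v hv
      rw [mem_gsub, inv_inv] at hv ⊢
      have h2 := hi _ ((hAB a).1 ha) _ hv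
      rwa [mul_app, mul_app, inv_app_self] at h2
    have h3 : gsub g⁻¹ h' N ≤ M := by
      intro v hv
      rw [mem_gsub, inv_inv] at hv
      have := hN hv
      rwa [mem_gsub, inv_app_self] at this
    rcases hM.2.2 _ h3 h1 with h4 | h4
    · left
      rw [eq_bot_iff]
      intro v hv
      have h5 : g⁻¹ v ∈ gsub g⁻¹ h' N := by rw [mem_gsub, inv_inv, app_inv_self]; exact hv
      rw [h4, Submodule.mem_bot] at h5
      rw [Submodule.mem_bot, ← app_inv_self g v, h5, map_zero]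
    · right
      refine le_antisymm hN ?_
      intro v hv
      rw [mem_gsub, ← h4, mem_gsub, inv_inv, app_inv_self] at hv
      exact hv

end Semi

section Main

variable {p : ℕ} [Fact p.Prime] {V : Type u} [AddCommGroup V] [Module (ZMod p) V] [Finite V]
variable {G : Subgroup (V ≃ₗ[ZMod p] V)} {h : ℕ}

/-- the data of section 4 -/
structure Sec (K : Type u) [Field K] [Module K V] (G : Subgroup (V ≃ₗ[ZMod p] V)) {k : ℕ}
    (L : Fin k → Subgroup (V ≃ₗ[ZMod p] V)) : Prop where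
  qs : ∀ i, Cfsg.IsQuasisimple (L i)
  comm : ∀ i j, i ≠ j → ∀ x ∈ L i, ∀ y ∈ L j, x * y = y * x
  perm : ∀ g ∈ G, ∀ i, ∃ j, ∀ x ∈ L i, g * x * g⁻¹ ∈ L j
  trans : ∀ i j, ∃ g ∈ G, ∀ x ∈ L i, g * x * g⁻¹ ∈ L j
  lin : ∀ i, ∀ x ∈ L i, ∀ (c : K) (v : V), x (c • v) = c • x v
  irr : ∀ W : AddSubgroup V, (∀ i, ∀ x ∈ L i, ∀ w ∈ W, x w ∈ W) → W = ⊥ ∨ W = ⊤
  sch : ∀ f : V →+ V, (∀ i, ∀ x ∈ L i, ∀ v, f (x v) = x (f v)) → ∃ c : K, ∀ v, f v = c • v
  semi : ∀ g ∈ G, ∃ σ : K ≃+* K, ∀ (c : K) (v : V), g (c • v) = σ c • g v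

variable {K : Type u} [Field K] [Module K V] {k : ℕ} {L : Fin k → Subgroup (V ≃ₗ[ZMod p] V)}

theorem Sec.fam (H : Sec K G L) : Fam (fun i => linSet K V (L i : Set (V ≃ₗ[ZMod p] V))) where
  comm := by
    rintro i j hij f ⟨a, ha, hf⟩ g ⟨b, hb, hg⟩
    ext v
    rw [Module.End.mul_apply, Module.End.mul_apply, hf, hg, hg, hf]
    exact LinearEquiv.congr_fun (H.comm i j hij a ha b hb) v
  irr U hU := by
    rcases H.irr U.toAddSubgroup (fun i x hx w hw => (inv_iff (H.lin i) U).1 (hU i) x hx w hw) with h1 | h1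
    · left
      ext w
      rw [← Submodule.mem_toAddSubgroup, h1]; rfl
    · right
      ext w
      rw [← Submodule.mem_toAddSubgroup, h1]
      exact ⟨fun _ => trivial, fun _ => trivial⟩
  sch f hf := H.sch (f : V →+ V) (fun i x hx v => LinearMap.congr_fun (hf i
    { toFun := fun v => x v, map_add' := map_add x, map_smul' := fun c v => H.lin i x hx c v }
    ⟨x, hx, fun v => rfl⟩) v)

/-- the two-factor decomposition at an arbitrary index -/
theorem Fam.twoAt {S : Fin k → Set (Module.End K V)} (F : Fam S) (i : Fin k) :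
    Two (S i) (⋃ j : {j : Fin k // j ≠ i}, S j) where
  comm l hl c hc := by
    obtain ⟨j, hj⟩ := Set.mem_iUnion.1 hc
    exact F.comm i j.1 j.2.symm l hl c hj
  irr U h0 h1 := F.irr U (fun j => by
    by_cases hj : j = i
    · subst hj; exact h0
    · exact fun a ha v hv => h1 a (Set.mem_iUnion.2 ⟨⟨j, hj⟩, ha⟩) v hv)
  sch f h0 h1 := F.sch f (fun j => by
    by_cases hj : j = i
    · subst hj; exact h0
    · exact fun a ha => h1 a (Set.mem_iUnion.2 ⟨⟨j, hj⟩, ha⟩))

theorem Sec.semi' (H : Sec K G L) {g : V ≃ₗ[ZMod p] V} (hg : g ∈ G) :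
    ∃ σ : K ≃+* K, ∀ (c : K) (v : V), g⁻¹ (c • v) = σ c • g⁻¹ v := H.semi _ (G.inv_mem hg)

/-- all irreducible submodules of all components have the same dimension -/
theorem Sec.exists_w [Finite K] [Nontrivial V] (H : Sec K G L) (hk : 0 < k) : ∃ w : ℕ, 0 < w ∧
    (∀ i M, IrrS (linSet K V (L i : Set (V ≃ₗ[ZMod p] V))) M → Module.finrank K M = w) := by
  have F := H.fam
  have key : ∀ i, ∃ w : ℕ, 0 < w ∧ (∃ M, IrrS (linSet K V (L i : Set (V ≃ₗ[ZMod p] V))) M) ∧
      ∀ M, IrrS (linSet K V (L i : Set (V ≃ₗ[ZMod p] V))) M → Module.finrank K M = w := by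
    intro i
    obtain ⟨W, W', _, _, _, _, ⟨D⟩⟩ := exists_dec (F.twoAt i)
    have := D.finL
    have := D.neL
    have := D.neR
    have : Module.Finite K W := Module.Finite.of_finite
    obtain ⟨w₁, hw₁⟩ := exists_ne (0 : W')
    exact ⟨Module.finrank K W, Module.finrank_pos, ⟨_, range_cmap_irr (F.twoAt i) D hw₁⟩,
      fun M hM => finrank_irr (F.twoAt i) D hM⟩
  choose w hw0 hwM hw using key
  have hfin : Module.Finite K V := Module.Finite.of_finite
  have hall : ∀ i j, w i = w j := by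
    intro i j
    obtain ⟨g, hg, hgij⟩ := H.trans i j
    obtain ⟨M, hM⟩ := hwM i
    have h1 := irr_gsub (H.lin i) (H.lin j) (H.semi' hg) (by rw [inv_inv]; exact H.semi g hg)
      (perm_iff_of H.qs H.comm H.perm hg hgij) hM
    have h2 : Nat.card (gsub g (H.semi' hg) M) = Nat.card M := card_gsub
    rw [Module.natCard_eq_pow_finrank (K := K), Module.natCard_eq_pow_finrank (K := K) (V := M), hw j _ h1,
      hw i _ hM] at h2
    exact (Nat.pow_right_injective Finite.one_lt_card h2).symm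
  exact ⟨w ⟨0, hk⟩, hw0 _, fun i M hM => (hw i M hM).trans (hall _ _)⟩

theorem Sec.pu_inv (H : Sec K G L) {g : V ≃ₗ[ZMod p] V} (hg : g ∈ G) {v : V}
    (hv : v ∈ Pu (fun i => linSet K V (L i : Set (V ≃ₗ[ZMod p] V)))) :
    g v ∈ Pu (fun i => linSet K V (L i : Set (V ≃ₗ[ZMod p] V))) := by
  refine ⟨?_, fun j => ?_⟩
  · intro h0
    apply hv.1
    have := congrArg (fun v => g⁻¹ v) h0
    simpa only [inv_app_self, map_zero] using this
  · obtain ⟨i, hi⟩ := perm_iff H.qs H.comm H.perm (G.inv_mem hg) j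
    have hij : ∀ x, x ∈ L i ↔ g * x * g⁻¹ ∈ L j := by
      intro x
      rw [hi]
      have e : g⁻¹ * (g * x * g⁻¹) * g⁻¹⁻¹ = x := by group
      rw [e]
    obtain ⟨M, hM, hvM⟩ := hv.2 i
    exact ⟨_, irr_gsub (H.lin i) (H.lin j) (H.semi' hg) (by rw [inv_inv]; exact H.semi g hg) hij hM,
      by rw [mem_gsub, inv_app_self]; exact hvM⟩

/-- irreducible submodules are not one-dimensional -/
theorem Sec.two_le [Finite K] [Nontrivial V] (H : Sec K G L) (i : Fin k) {W W' : Type u} [AddCommGroup W] [Module K W]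
    [AddCommGroup W'] [Module K W'] {C : Set (Module.End K V)}
    (D : Dec (linSet K V (L i : Set (V ≃ₗ[ZMod p] V))) C W W') : 2 ≤ Module.finrank K W := by
  have := D.finL
  have := D.neL
  have : Module.Finite K W := Module.Finite.of_finite
  by_contra hc
  have h1 : Module.finrank K W = 1 := by
    have : 0 < Module.finrank K W := Module.finrank_pos
    omega
  have hsc : ∀ a ∈ linSet K V (L i : Set (V ≃ₗ[ZMod p] V)), ∃ c : K, ∀ v, a v = c • v := by
    intro a ha
    obtain ⟨w, hw, hs⟩ := finrank_eq_one_iff'.1 h1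
    obtain ⟨c, hc⟩ := hs (D.ρ a w)
    refine ⟨c, fun v => ?_⟩
    have h2 : a = (c • LinearMap.id : Module.End K V) := by
      apply D.ext
      intro x w'
      obtain ⟨d, rfl⟩ := hs x
      rw [D.hl a ha, map_smul, ← hc, LinearMap.smul_apply, LinearMap.id_apply, ← map_smul, smul_comm,
        TensorProduct.smul_tmul']
    rw [h2]; rfl
  refine qs_nonab (H.qs i) (fun x y => Subtype.ext (LinearEquiv.ext fun v => ?_))
  obtain ⟨c, hc⟩ := hsc { toFun := fun v => x.1 v, map_add' := map_add x.1, map_smul' := fun c v => H.lin i x x.2 c v }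
    ⟨x, x.2, fun v => rfl⟩
  have hc' : ∀ v, x.1 v = c • v := hc
  change x.1 (y.1 v) = y.1 (x.1 v)
  rw [hc', hc', H.lin i y y.2]

/-- **section 4, the reduction**: `k = 2`, both tensor factors have dimension `2`, and `m ∣ 2 (q ^ 2 - 1)` -/
theorem Sec.reduce [Finite K] [Nontrivial V] (H : Sec K G L) (hh : Half G h) (h2 : 2 ≤ h) (hG : ¬ p ∣ Nat.card G)
    (hk : 2 ≤ k) {m : ℕ} (hm : m * h = Nat.card G) :
    k = 2 ∧ m ∣ 2 * (Nat.card K ^ 2 - 1) ∧ ∀ (i : Fin k) (W W' : Type u) [AddCommGroup W] [Module K W]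
      [AddCommGroup W'] [Module K W'] (C : Set (Module.End K V)),
      Two (linSet K V (L i : Set (V ≃ₗ[ZMod p] V))) C →
      Dec (linSet K V (L i : Set (V ≃ₗ[ZMod p] V))) C W W' → Module.finrank K W = 2 ∧ Module.finrank K W' = 2 := by
  obtain ⟨w, hw0, hw⟩ := H.exists_w (by omega)
  obtain ⟨h3, h4⟩ := Fam.count k H.fam (fun _ => w) hw
  rw [Finset.prod_const, Finset.card_univ, Fintype.card_fin] at h3 h4
  have hrk : ∀ (i : Fin k) (W W' : Type u) [AddCommGroup W] [Module K W]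
      [AddCommGroup W'] [Module K W'] (C : Set (Module.End K V)),
      Two (linSet K V (L i : Set (V ≃ₗ[ZMod p] V))) C →
      Dec (linSet K V (L i : Set (V ≃ₗ[ZMod p] V))) C W W' →
      Module.finrank K W = w ∧ 2 ≤ w ∧ w * Module.finrank K W' = w ^ k := by
    intro i W W' _ _ _ _ C hT D
    have := D.finL
    have := D.finR
    have := D.neR
    have : Module.Finite K W := Module.Finite.of_finite
    have : Module.Finite K W' := Module.Finite.of_finite
    obtain ⟨w₁, hw₁⟩ := exists_ne (0 : W')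
    have h5 := finrank_irr hT D (range_cmap_irr hT D hw₁)
    rw [hw i _ (range_cmap_irr hT D hw₁)] at h5
    refine ⟨h5.symm, ?_, ?_⟩
    · rw [h5]; exact H.two_le i D
    · rw [← h3, ← D.φ.finrank_eq, Module.finrank_tensorProduct, h5]
  have hw2 : 2 ≤ w := by
    obtain ⟨W, W', _, _, _, _, ⟨D⟩⟩ := exists_dec (H.fam.twoAt (⟨0, by omega⟩ : Fin k))
    exact (hrk _ W W' _ (H.fam.twoAt (⟨0, by omega⟩ : Fin k)) D).2.1
  have hcard : Nat.card V = Nat.card K ^ (w ^ k) := by
    have : Module.Finite K V := Module.Finite.of_finite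
    rw [Module.natCard_eq_pow_finrank (K := K), h3]
  have hq : 2 ≤ Nat.card K := Finite.one_lt_card
  obtain ⟨e1, e2, e3⟩ := num_pure hq hk hw2 h4
    (dvd_invariant hh (by omega) hm _ (fun h => h.1 rfl) (fun g hg v hv => H.pu_inv hg hv))
    (by rw [← hcard]; exact dvd_card_sub_one hh (by omega) hm)
    (by rw [← hcard]; exact card_le hG hh h2 hm)
  refine ⟨e1, e3, ?_⟩
  intro i W W' _ _ _ _ C hT D
  obtain ⟨a1, a2, a3⟩ := hrk i W W' C hT D
  refine ⟨a1.trans e2, ?_⟩
  rw [e1, e2] at a3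
  omega

end Main

section Final

variable {p : ℕ} [Fact p.Prime] {V : Type u} [AddCommGroup V] [Module (ZMod p) V] [Finite V]
variable {G : Subgroup (V ≃ₗ[ZMod p] V)} {h : ℕ}

/-- the field of scalars -/
theorem exists_sec [Nontrivial V] {k : ℕ} (L : Fin k → Subgroup (V ≃ₗ[ZMod p] V))
    (hq : ∀ i, Cfsg.IsQuasisimple (L i))
    (hcomm : ∀ i j, i ≠ j → ∀ x ∈ L i, ∀ y ∈ L j, x * y = y * x)
    (hperm : ∀ g ∈ G, ∀ i, ∃ j, ∀ x ∈ L i, g * x * g⁻¹ ∈ L j)
    (htrans : ∀ i j, ∃ g ∈ G, ∀ x ∈ L i, g * x * g⁻¹ ∈ L j)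
    (hE : ∀ W : Submodule (ZMod p) V, (∀ g ∈ (⨆ i, L i : Subgroup (V ≃ₗ[ZMod p] V)), ∀ v ∈ W, g v ∈ W) →
      W = ⊥ ∨ W = ⊤) :
    ∃ (K : Type u) (_ : Field K) (_ : Finite K) (_ : Module K V), Sec K G L := by
  obtain ⟨K, i1, i2, i3, h1, h2, h3⟩ := exists_field_grp (V := V) (⨆ i, L i : Subgroup (V ≃ₗ[ZMod p] V)) (by
    intro W hW
    rcases hE (AddSubgroup.toZModSubmodule p W) (fun g hg v hv => hW g hg v hv) with h | h
    · left
      rw [eq_bot_iff]
      intro x hx
      have : x ∈ AddSubgroup.toZModSubmodule p W := hx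
      rw [h, Submodule.mem_bot] at this
      exact this
    · right
      rw [eq_top_iff]
      intro x _
      have : x ∈ AddSubgroup.toZModSubmodule p W := by rw [h]; trivial
      exact this)
  have hle : ∀ i, L i ≤ (⨆ i, L i : Subgroup (V ≃ₗ[ZMod p] V)) := fun i => le_iSup L i
  refine ⟨K, i1, i2, i3, hq, hcomm, hperm, htrans, ?_, ?_, ?_, ?_⟩
  · intro i x hx c v
    exact h1 x (hle i hx) c v
  · intro W hW
    have hst : (⨆ i, L i : Subgroup (V ≃ₗ[ZMod p] V)) ≤ stabSub W := by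
      refine iSup_le (fun i x hx => ⟨fun w hw => hW i x hx w hw, fun w hw => hW i x⁻¹ ((L i).inv_mem hx) w hw⟩)
    rcases hE (AddSubgroup.toZModSubmodule p W) (fun g hg v hv => (hst hg).1 v hv) with h | h
    · left
      rw [eq_bot_iff]
      intro x hx
      have : x ∈ AddSubgroup.toZModSubmodule p W := hx
      rw [h, Submodule.mem_bot] at this
      exact this
    · right
      rw [eq_top_iff]
      intro x _
      have : x ∈ AddSubgroup.toZModSubmodule p W := by rw [h]; trivial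
      exact this
  · intro f hf
    have hst : (⨆ i, L i : Subgroup (V ≃ₗ[ZMod p] V)) ≤ commSub f := iSup_le (fun i x hx v => hf i x hx v)
    exact h2 f (fun y hy v => hst hy v)
  · intro g hg
    apply h3
    have hmap : ∀ g ∈ G, ∀ x ∈ (⨆ i, L i : Subgroup (V ≃ₗ[ZMod p] V)), g * x * g⁻¹ ∈ (⨆ i, L i : Subgroup (V ≃ₗ[ZMod p] V)) := by
      intro g hg
      have : (⨆ i, L i : Subgroup (V ≃ₗ[ZMod p] V)) ≤ (⨆ i, L i : Subgroup (V ≃ₗ[ZMod p] V)).comap (MulAut.conj g).toMonoidHom := by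
        refine iSup_le (fun i x hx => ?_)
        obtain ⟨j, hj⟩ := hperm g hg i
        exact hle j (hj x hx)
      exact fun x hx => this hx
    rw [Subgroup.mem_normalizer_iff]
    intro x
    refine ⟨hmap g hg x, fun hx => ?_⟩
    have := hmap g⁻¹ (G.inv_mem hg) _ hx
    have e : g⁻¹ * (g * x * g⁻¹) * g⁻¹⁻¹ = x := by group
    rwa [e] at this

/-- the setting `TT` -/
theorem Sec.exists_TT {K : Type u} [Field K] [Finite K] [Module K V] [Nontrivial V]
    {L : Fin 2 → Subgroup (V ≃ₗ[ZMod p] V)} (H : Sec K G L) (hLG : ∀ i, L i ≤ G) (hh : Half G h) (h2 : 2 ≤ h)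
    (hG : ¬ p ∣ Nat.card G) {m : ℕ} (hm : m * h = Nat.card G) :
    ∃ (W W' : Type u) (_ : AddCommGroup W) (_ : Module K W) (_ : AddCommGroup W') (_ : Module K W'),
      Nonempty (TT p K V W W' G (L 0) (L 1) h) := by
  have hT : Two (linSet K V (L 0 : Set (V ≃ₗ[ZMod p] V))) (linSet K V (L 1 : Set (V ≃ₗ[ZMod p] V))) :=
    { comm := fun l hl c hc => H.fam.comm 0 1 (by decide) l hl c hc
      irr := fun U h0 h1 => H.fam.irr U (fun i => by
        fin_cases i
        · exact h0
        · exact h1)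
      sch := fun f h0 h1 => H.fam.sch f (fun i => by
        fin_cases i
        · exact h0
        · exact h1) }
  obtain ⟨W, W', i1, i2, i3, i4, ⟨D⟩⟩ := exists_dec hT
  obtain ⟨-, -, e⟩ := H.reduce hh h2 hG le_rfl hm
  obtain ⟨e1, e2⟩ := e 0 W W' _ hT D
  refine ⟨W, W', i1, i2, i3, i4, ⟨?_⟩⟩
  refine
    { half := hh
      two_le := h2
      cop := hG
      leA := hLG 0
      leB := hLG 1
      qsA := H.qs 0
      qsB := H.qs 1
      comm := H.comm 0 1 (by decide)
      perm := ?_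
      linA := H.lin 0
      linB := H.lin 1
      sch := fun f h0 h1 => H.sch f (fun i => by
        fin_cases i
        · exact h0
        · exact h1)
      D := D
      rkW := e1
      rkW' := e2 }
  intro g hg
  obtain ⟨j, hj⟩ := perm_iff H.qs H.comm H.perm hg 0
  obtain ⟨j', hj'⟩ := perm_iff H.qs H.comm H.perm hg 1
  have hne : j ≠ j' := by
    rintro rfl
    have := comp_ne H.qs H.comm (i := 0) (j := 1) (fun x hx => (hj' x).2 ((hj x).1 hx))
    exact absurd this (by decide)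
  fin_cases j <;> fin_cases j'
  · exact absurd rfl hne
  · exact Or.inl ⟨fun a ha => (hj a).1 ha, fun a ha => (hj' a).1 ha⟩
  · exact Or.inr ⟨fun a ha => (hj a).1 ha, fun a ha => (hj' a).1 ha⟩
  · exact absurd rfl hne

/-- the final contradiction -/
theorem num_end {q m : ℕ} (hq : 2 ≤ q) (h1 : m ∣ 2 * (q ^ 2 - 1)) (h2 : 14400 ≤ m * (q - 1)) (h3 : q ^ 2 + 1 ≤ 312) :
    False := by
  have h4 : q ≤ 17 := by nlinarith only [h3]
  have h5 : 0 < 2 * (q ^ 2 - 1) := by
    have : 2 ^ 2 ≤ q ^ 2 := Nat.pow_le_pow_left hq 2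
    omega
  have h6 : m ≤ 2 * (q ^ 2 - 1) := Nat.le_of_dvd h5 h1
  have h7 : q ^ 2 ≤ 17 ^ 2 := Nat.pow_le_pow_left h4 2
  have h8 : m ≤ 576 := by omega
  have h9 : m * (q - 1) ≤ 576 * 16 := Nat.mul_le_mul h8 (by omega)
  omega

end Final

end Cfsg.Agent.H138.HT
end
end

-- part: H926/HT/Tens
section
prune_inst 0x4f1106f0567001000081c000240001ef7b3000102004b0000082406040f890e622001ae21ba30051602b284c4603c007813000430420000000a000400013d0789108112023151ac08900006000004400000000000000000000000000000000000200400002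
set_option linter.all false
open scoped Cfsg.Agent.FastGrp

/-!
# S3540, section 4: two commuting quasisimple groups on a tensor product of two planes: a lower bound for the orbits

* `RA T` : the representation of `A` on `W`;
* `fpf` : an element of `A` fixing a non-zero vector of `W` is trivial;
* `tt_low'` : `|A| |B| ≤ m (|K| - 1)` for the orbit length `m`.
-/

set_option autoImplicit false
set_option linter.unusedSectionVars false

universe u

namespace Cfsg.Agent.H926.HT

open Cfsg.Agent.H828.HT Cfsg.Agent.H138.HT Cfsg.Agent.Omega.NO1.Comp Module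
open scoped TensorProduct

variable {p : ℕ} [hp : Fact p.Prime] {K : Type u} [Field K] {V : Type u} [AddCommGroup V] [Module (ZMod p) V]
    [Module K V] {W W' : Type u} [AddCommGroup W] [Module K W] [AddCommGroup W'] [Module K W']
    {G A B : Subgroup (V ≃ₗ[ZMod p] V)} {h : ℕ}

/-- the `K`-linear map of an element of `A` -/
def la (T : TT p K V W W' G A B h) (a : A) : Module.End K V where
  toFun v := (a : V ≃ₗ[ZMod p] V) v
  map_add' v w := map_add _ v w
  map_smul' c v := T.linA a a.2 c v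

theorem la_mem (T : TT p K V W W' G A B h) (a : A) : la T a ∈ linSet K V (A : Set (V ≃ₗ[ZMod p] V)) :=
  ⟨a, a.2, fun _ => rfl⟩

theorem la_phi (T : TT p K V W W' G A B h) (a : A) (w : W) (w' : W') :
    (a : V ≃ₗ[ZMod p] V) (T.D.φ (w ⊗ₜ w')) = T.D.φ (T.D.ρ (la T a) w ⊗ₜ w') :=
  T.D.hl _ (la_mem T a) w w'

/-- the representation of `A` on `W` -/
noncomputable def RA (T : TT p K V W W' G A B h) : A →* Module.End K W where
  toFun a := T.D.ρ (la T a)
  map_one' := by
    obtain ⟨w', hw'⟩ := exists_ne' T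
    ext w
    apply T.D.inj_left hw'
    rw [← la_phi]
    rfl
  map_mul' a b := by
    obtain ⟨w', hw'⟩ := exists_ne' T
    ext w
    apply T.D.inj_left hw'
    rw [← la_phi]
    change (a : V ≃ₗ[ZMod p] V) ((b : V ≃ₗ[ZMod p] V) (T.D.φ (w ⊗ₜ w'))) = _
    rw [la_phi, la_phi]
    rfl
where
  exists_ne' (T : TT p K V W W' G A B h) : ∃ w' : W', w' ≠ 0 := by
    have := T.D.neR
    exact exists_ne 0

theorem RA_phi (T : TT p K V W W' G A B h) (a : A) (w : W) (w' : W') :
    (a : V ≃ₗ[ZMod p] V) (T.D.φ (w ⊗ₜ w')) = T.D.φ (RA T a w ⊗ₜ w') := la_phi T a w w'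

theorem RB_phi (T : TT p K V W W' G A B h) (b : B) (w : W) (w' : W') :
    (b : V ≃ₗ[ZMod p] V) (T.D.φ (w ⊗ₜ w')) = T.D.φ (w ⊗ₜ RA T.symm b w') := by
  have h1 := RA_phi T.symm b w' w
  have h2 : T.symm.D = T.D.symm := rfl
  rw [h2, Dec.symm_φ, Dec.symm_φ] at h1
  exact h1

theorem RA_inj (T : TT p K V W W' G A B h) {a : A} (ha : RA T a = 1) : a = 1 := by
  have h1 : la T a = LinearMap.id := by
    apply T.D.ext
    intro w w'
    change (a : V ≃ₗ[ZMod p] V) (T.D.φ (w ⊗ₜ w')) = T.D.φ (w ⊗ₜ w')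
    rw [RA_phi, ha]
    rfl
  apply Subtype.ext
  apply LinearEquiv.ext
  intro v
  exact LinearMap.congr_fun h1 v

theorem det_one (T : TT p K V W W' G A B h) (a : A) : LinearMap.det (RA T a) = 1 := by
  let δ : A →* Kˣ := ((LinearMap.det : Module.End K W →* K).comp (RA T)).toHomUnits
  have h1 : δ.ker = ⊤ := by
    have h2 : commutator A = ⊤ := T.qsA.1.commutator_eq_top
    rw [eq_top_iff, ← h2]
    exact Abelianization.commutator_subset_ker δ
  have h3 : δ a = 1 := by rw [← MonoidHom.mem_ker, h1]; trivial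
  have h4 := congrArg (fun u : Kˣ => (u : K)) h3
  exact h4

theorem charP_of (T : TT p K V W W' G A B h) : (p : K) = 0 := by
  have := T.D.neL
  have := T.D.neR
  obtain ⟨w, hw⟩ := exists_ne (0 : W)
  obtain ⟨w', hw'⟩ := exists_ne (0 : W')
  have hv := T.D.ne_zero hw hw'
  have h2 : (p : ℕ) • T.D.φ (w ⊗ₜ w') = 0 := by
    rw [← Nat.cast_smul_eq_nsmul (ZMod p), ZMod.natCast_self, zero_smul]
  rw [← Nat.cast_smul_eq_nsmul K] at h2
  exact (smul_eq_zero.1 h2).resolve_right hv

/-- a linear map of determinant one of a plane with a fixed vector -/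
theorem unip {f : Module.End K W} (h2 : finrank K W = 2) (hdet : LinearMap.det f = 1) {w : W} (hw : w ≠ 0)
    (hf : f w = w) (hp : (p : K) = 0) : f ^ p = 1 := by
  have hfd : FiniteDimensional K W := Module.finite_of_finrank_pos (by omega)
  obtain ⟨u, hu⟩ : ∃ u, LinearIndependent K ![w, u] := by
    by_contra hcon
    push Not at hcon
    have h3 : finrank K W ≤ 1 := by
      refine finrank_le_one w fun v => ?_
      have h4 := hcon v
      rw [LinearIndependent.pair_iff] at h4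
      push Not at h4
      obtain ⟨s, t, hst, hne⟩ := h4
      have ht : t ≠ 0 := by
        rintro rfl
        rw [zero_smul, add_zero] at hst
        rcases smul_eq_zero.1 hst with h5 | h5
        · exact hne h5 rfl
        · exact hw h5
      refine ⟨-(t⁻¹ * s), ?_⟩
      have h5 : v = t⁻¹ • (t • v) := by rw [smul_smul, inv_mul_cancel₀ ht, one_smul]
      rw [h5, eq_neg_of_add_eq_zero_right hst, smul_neg, neg_smul, smul_smul]
    omega
  let b := basisOfLinearIndependentOfCardEqFinrank hu (by rw [h2]; rfl)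
  have hb0 : b 0 = w := by simp [b]
  have hb1 : b 1 = u := by simp [b]
  have h3 : LinearMap.det f = (LinearMap.toMatrix b b f).det := (LinearMap.det_toMatrix b f).symm
  rw [Matrix.det_fin_two, LinearMap.toMatrix_apply, LinearMap.toMatrix_apply, LinearMap.toMatrix_apply,
    LinearMap.toMatrix_apply, hb0, hf, ← hb0, b.repr_self] at h3
  simp only [Finsupp.single_eq_same, one_mul] at h3
  rw [Finsupp.single_eq_of_ne (by decide), mul_zero, sub_zero, hdet] at h3
  have h4 : f u = u + (b.repr (f (b 1)) 0) • w := by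
    have h5 := b.sum_repr (f (b 1))
    rw [Fin.sum_univ_two, hb0, ← h3, one_smul, hb1] at h5
    rw [← h5, hb1, add_comm]
  set α := b.repr (f (b 1)) 0
  have h5 : ∀ n : ℕ, (f ^ n) w = w := by
    intro n
    induction n with
    | zero => rfl
    | succ n ih => rw [pow_succ]; change (f ^ n) (f w) = w; rw [hf, ih]
  have h6 : ∀ n : ℕ, (f ^ n) u = u + ((n : K) * α) • w := by
    intro n
    induction n with
    | zero => simp
    | succ n ih =>
      rw [pow_succ]
      change (f ^ n) (f u) = _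
      rw [h4, map_add, map_smul, ih, h5, add_assoc, ← add_smul]
      congr 2
      push_cast
      ring
  refine b.ext fun i => ?_
  fin_cases i
  · change (f ^ p) (b 0) = b 0
    rw [hb0, h5]
  · change (f ^ p) (b 1) = b 1
    rw [hb1, h6, hp, zero_mul, zero_smul, add_zero]

/-- an element of `A` with a non-zero fixed vector in `W` is trivial -/
theorem fpf [Finite V] (T : TT p K V W W' G A B h) {a : A} {w : W} (hw : w ≠ 0) (ha : RA T a w = w) : a = 1 := by
  have h1 := unip (p := p) T.rkW (det_one T a) hw ha (charP_of T)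
  rw [← map_pow] at h1
  have h2 : a ^ p = 1 := RA_inj T h1
  have h3 : orderOf a ∣ p := orderOf_dvd_of_pow_eq_one h2
  rcases (Nat.dvd_prime hp.out).1 h3 with h4 | h4
  · exact orderOf_eq_one_iff.1 h4
  · exfalso
    apply T.cop
    have h5 : orderOf a ∣ Nat.card A := orderOf_dvd_natCard a
    rw [h4] at h5
    exact h5.trans (Subgroup.card_dvd_of_le T.leA)

/-- proportional first factors of equal pure tensors -/
theorem exists_prop {L C : Set (Module.End K V)} (D : Dec L C W W') {w₁ w₂ : W} {w'₁ w'₂ : W'} (hw₁ : w₁ ≠ 0)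
    (hw'₁ : w'₁ ≠ 0) (h : D.φ (w₁ ⊗ₜ w'₁) = D.φ (w₂ ⊗ₜ w'₂)) : ∃ c : Kˣ, w₁ = (c : K) • w₂ := by
  obtain ⟨q, hq⟩ := exists_dual (K := K) hw'₁
  have h2 := D.φ.injective h
  have h3 := congrArg (TensorProduct.lift ((LinearMap.lsmul K W).flip.compl₂ q) : W ⊗[K] W' →ₗ[K] W) h2
  have h4 : w₁ = q w'₂ • w₂ := by simpa [hq] using h3
  have h5 : q w'₂ ≠ 0 := by
    intro h0
    rw [h0, zero_smul] at h4
    exact hw₁ h4
  exact ⟨Units.mk0 _ h5, h4⟩

theorem RA_ne (T : TT p K V W W' G A B h) (a : A) {w : W} (hw : w ≠ 0) : RA T a w ≠ 0 := by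
  intro h0
  apply hw
  have h1 : RA T a⁻¹ (RA T a w) = w := by
    have h2 : (RA T a⁻¹ * RA T a) w = w := by rw [← map_mul, inv_mul_cancel, map_one]; rfl
    exact h2
  rw [← h1, h0, map_zero]

/-- **the lower bound for the orbit length** -/
theorem tt_low' [Finite V] [Finite K] (T : TT p K V W W' G A B h) {m : ℕ} (hm : m * h = Nat.card G) :
    Nat.card A * Nat.card B ≤ m * (Nat.card K - 1) := by
  classical
  have := T.D.neL
  have := T.D.neR
  obtain ⟨w, hw⟩ := exists_ne (0 : W)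
  obtain ⟨w', hw'⟩ := exists_ne (0 : W')
  have hv := T.D.ne_zero hw hw'
  set v := T.D.φ (w ⊗ₜ w') with hvd
  have : Fintype A := Fintype.ofFinite A
  have : Fintype B := Fintype.ofFinite B
  have : Fintype Kˣ := Fintype.ofFinite Kˣ
  let F : A × B → V := fun x => (x.1 : V ≃ₗ[ZMod p] V) ((x.2 : V ≃ₗ[ZMod p] V) v)
  have hF : ∀ x : A × B, F x = T.D.φ (RA T x.1 w ⊗ₜ RA T.symm x.2 w') := by
    intro x
    change (x.1 : V ≃ₗ[ZMod p] V) ((x.2 : V ≃ₗ[ZMod p] V) (T.D.φ (w ⊗ₜ w'))) = _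
    rw [RB_phi, RA_phi]
  have hq : Fintype.card Kˣ = Nat.card K - 1 := by rw [← Nat.card_eq_fintype_card, Nat.card_units]
  have h1 : (Finset.univ : Finset (A × B)).card ≤ (Nat.card K - 1) * (Finset.univ.image F).card := by
    refine Finset.card_le_mul_card_image _ _ fun y hy => ?_
    obtain ⟨x0, -, rfl⟩ := Finset.mem_image.1 hy
    have hex : ∀ x : A × B, F x = F x0 → ∃ c : Kˣ, RA T x.1 w = (c : K) • RA T x0.1 w := by
      intro x hx
      rw [hF, hF] at hx
      exact exists_prop T.D (RA_ne T _ hw) (RA_ne T.symm _ hw') hx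
    rw [← hq, ← Finset.card_univ]
    refine Finset.card_le_card_of_injOn (fun x => if hx : F x = F x0 then (hex x hx).choose else 1)
      (fun _ _ => Finset.mem_univ _) ?_
    intro x hx x' hx' he
    have hx1 : F x = F x0 := (Finset.mem_filter.1 hx).2
    have hx1' : F x' = F x0 := (Finset.mem_filter.1 hx').2
    dsimp only at he
    rw [dif_pos hx1, dif_pos hx1'] at he
    have e1 := (hex x hx1).choose_spec
    have e2 := (hex x' hx1').choose_spec
    rw [he, ← e2] at e1
    have h2 : x.1 = x'.1 := by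
      have h3 : RA T (x'.1⁻¹ * x.1) w = w := by
        rw [map_mul]
        change RA T x'.1⁻¹ (RA T x.1 w) = w
        rw [e1]
        have h4 : (RA T x'.1⁻¹ * RA T x'.1) w = w := by rw [← map_mul, inv_mul_cancel, map_one]; rfl
        exact h4
      have h4 := fpf T hw h3
      exact (inv_mul_eq_one.1 h4).symm
    have h3 : x.2 = x'.2 := by
      have h4 : F x = F x' := hx1.trans hx1'.symm
      rw [hF, hF, h2] at h4
      have h5 := T.D.inj_right (RA_ne T _ hw) h4
      have h6 : RA T.symm (x'.2⁻¹ * x.2) w' = w' := by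
        rw [map_mul]
        change RA T.symm x'.2⁻¹ (RA T.symm x.2 w') = w'
        rw [h5]
        have h4 : (RA T.symm x'.2⁻¹ * RA T.symm x'.2) w' = w' := by rw [← map_mul, inv_mul_cancel, map_one]; rfl
        exact h4
      have h7 := fpf T.symm hw' h6
      exact (inv_mul_eq_one.1 h7).symm
    exact Prod.ext h2 h3
  have h2 : (Finset.univ.image F).card ≤ m := by
    have h0 : 0 < h := by have := T.two_le; omega
    rw [← orbit_card T.half h0 hm hv]
    rw [← Set.ncard_coe_finset]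
    refine Set.ncard_le_ncard ?_ (Set.toFinite _)
    intro y hy
    obtain ⟨x, -, rfl⟩ := Finset.mem_image.1 (Finset.mem_coe.1 hy)
    exact ⟨⟨(x.1 : V ≃ₗ[ZMod p] V) * x.2, G.mul_mem (T.leA x.1.2) (T.leB x.2.2)⟩, rfl⟩
  rw [Finset.card_univ, Fintype.card_prod, ← Nat.card_eq_fintype_card, ← Nat.card_eq_fintype_card] at h1
  calc Nat.card A * Nat.card B ≤ (Nat.card K - 1) * (Finset.univ.image F).card := h1
    _ ≤ (Nat.card K - 1) * m := Nat.mul_le_mul_left _ h2
    _ = m * (Nat.card K - 1) := mul_comm _ _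

theorem tt_low [Finite V] [Finite K] (T : TT p K V W W' G A B h) (hA : Nat.card A = 120) (hB : Nat.card B = 120) {m : ℕ}
    (hm : m * h = Nat.card G) : 14400 ≤ m * (Nat.card K - 1) := by
  have := tt_low' T hm
  rw [hA, hB] at this
  exact this

end Cfsg.Agent.H926.HT
end

-- part: H30/HTS/Tool
section
set_option linter.all false
open scoped Cfsg.Agent.FastGrp

/-!
# S3540, quasisimple rows, degree at most 12 (helper30): tools

`dead_at` : the kernel search for given degrees; `|Aut T|` may be replaced by a multiple.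
-/

set_option autoImplicit false

universe u v

namespace Cfsg.Agent.H30.HTS

open Cfsg.Agent.H337.HT

theorem cand_mono {R o A A' n q : ℕ} (hA : A ∣ A') (h : Cand R o A n q) : Cand R o A' n q := by
  obtain ⟨m, k, h1, h2, h3, h4, h5, h6⟩ := h
  exact ⟨m, k, h1, h2, h3, h4, h5.trans (Nat.mul_dvd_mul_left _ hA), h6⟩

/-- **The search for the degrees `ns`.** -/
theorem dead_at {T : Type u} [Group T] {o A n : ℕ} (ns : List ℕ) (q₀ fq : ℕ) (ho : Nat.card T = o)
    (hA : Nat.card (MulAut T) ∣ A) (hA0 : 0 < A) (h2 : 2 ≤ q₀) (hns : ns.all (fun n => Nat.ble 2 n) = true)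
    (h1 : (List.range q₀).all (fun q => Nat.ble q 1 || Nat.ble 2 (Nat.gcd q o)) = true)
    (h : ns.all (fun n => loopQ o A n fq q₀) = true) (hn : n ∈ ns) : Dead n T := by
  intro q hq hc
  rw [ho] at hc ⊢
  rw [List.all_eq_true] at h hns
  have hn2 : 2 ≤ n := Nat.le_of_ble_eq_true (hns n hn)
  intro hcand
  exact loopQ_spec hn2 hA0 fq q₀ h2 (h n hn) q (le_of_coprime h1 hq hc) hc (cand_mono hA hcand)

end Cfsg.Agent.H30.HTS
end

-- part: H1/HT/Beta
section
prune_inst 0x4e1006e05736210000004058271003ef787000190002b0001f92407460f8fdf628002af20ca201c06122aa28400340078021000f0401000000a000400011901a090ab52023351ad0cb40007803087580c00000000000000000000000000041004000000002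
set_option linter.all false
open scoped Cfsg.Agent.FastGrp

/-!
# S3540 / S3577, HT-E D2: the combinatorial part (helper1)

A finite group `G` acts on an elementary abelian group `U` of order 16 with a system of subgroups `P t` of index two
(`t ≠ 1`, `t ∈ P t`).  `Cfg.false`: the numerical conditions of D2 are contradictory.
-/

set_option autoImplicit false

namespace Cfsg.Agent.H1.HT

open MulAction

universe u v

/-- counting modulo 3 -/
theorem mod3 {X : Type*} [Finite X] (f : X → X) (S : Set X) (hS : ∀ x ∈ S, f x ∈ S) {n : ℕ}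
    (hf : ∀ x ∈ S, f^[3 ^ n] x = x) : S.ncard ≡ {x | x ∈ S ∧ f x = x}.ncard [MOD 3] := by
  classical
  have : Fintype S := Fintype.ofFinite S
  let F : Function.End S := fun x => ⟨f x, hS x x.2⟩
  have hF : ∀ (k : ℕ) (x : S), ((F^[k] x : S) : X) = f^[k] x := by
    intro k
    induction k with
    | zero => intro x; rfl
    | succ k ih =>
      intro x
      rw [Function.iterate_succ_apply, Function.iterate_succ_apply, ih]
  have h1 : F ^ 3 ^ n = 1 := by
    funext x
    change F^[3 ^ n] x = x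
    exact Subtype.ext ((hF _ x).trans (hf x x.2))
  have : Fact (Nat.Prime 3) := ⟨Nat.prime_three⟩
  have h2 := Equiv.Perm.card_fixedPoints_modEq h1
  rw [← Nat.card_eq_fintype_card, ← Nat.card_eq_fintype_card] at h2
  have h3 : Nat.card S = S.ncard := rfl
  have h4 : Nat.card (Function.fixedPoints F) = {x | x ∈ S ∧ f x = x}.ncard := by
    refine Nat.card_congr ?_
    exact
      { toFun := fun x => ⟨x.1.1, x.1.2, congrArg Subtype.val x.2⟩
        invFun := fun x => ⟨⟨x.1, x.2.1⟩, Subtype.ext x.2.2⟩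
        left_inv := fun x => rfl
        right_inv := fun x => rfl }
  rwa [h3, h4] at h2

variable {G : Type u} {U : Type v} [Group G] [Group U] [MulDistribMulAction G U]

/-- the elements fixing `t` and acting trivially on `P t / t` -/
def Kt (P : U → Subgroup U) (t : U) (ht : t * t = 1) : Subgroup G where
  carrier := {g | g • t = t ∧ ∀ x ∈ P t, g • x = x ∨ g • x = x * t}
  one_mem' := ⟨one_smul G t, fun x _ => Or.inl (one_smul G x)⟩
  mul_mem' := by
    rintro a b ⟨ha, ha'⟩ ⟨hb, hb'⟩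
    refine ⟨by rw [mul_smul, hb, ha], fun x hx => ?_⟩
    rw [mul_smul]
    rcases hb' x hx with h | h
    · rw [h]; exact ha' x hx
    · rw [h, smul_mul', ha]
      rcases ha' x hx with h' | h'
      · rw [h']; exact Or.inr rfl
      · rw [h', mul_assoc, ht, mul_one]; exact Or.inl rfl
  inv_mem' := by
    rintro a ⟨ha, ha'⟩
    refine ⟨by rw [inv_smul_eq_iff, ha], fun x hx => ?_⟩
    rcases ha' x hx with h | h
    · left; rw [inv_smul_eq_iff, h]
    · right; rw [inv_smul_eq_iff, smul_mul', ha, h, mul_assoc, ht, mul_one]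

/-- the data -/
structure Cfg (P : U → Subgroup U) (N : Subgroup G) (M : U → Subgroup G) : Prop where
  cardU : Nat.card U = 16
  sq : ∀ x : U, x * x = 1
  memP : ∀ t : U, t ≠ 1 → t ∈ P t
  idx : ∀ t : U, t ≠ 1 → (P t).index = 2
  mapP : ∀ (g : G) (t x : U), t ≠ 1 → x ∈ P t → g • x ∈ P (g • t)
  le : ∀ t : U, t ≠ 1 → N ≤ M t
  ker : ∀ t : U, t ≠ 1 → ∀ g ∈ M t, (∀ x : U, g • x = x) → g ∈ N
  act : ∀ t : U, t ≠ 1 → ∀ g ∈ M t, g • t = t ∧ ∀ x ∈ P t, g • x = x ∨ g • x = x * t
  card : (∀ t : U, t ≠ 1 → Nat.card G = 20 * Nat.card (M t)) ∨ (∀ t : U, t ≠ 1 → Nat.card G = 60 * Nat.card (M t))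
  three : ¬ 3 ∣ Nat.card N
  norm : ∀ t : U, t ≠ 1 → ∀ g : G, g • t = t → (∃ n, g ^ 3 ^ n = 1) → ∀ x ∈ M t, g * x * g⁻¹ ∈ M t
  six : ∀ t : U, t ≠ 1 → Nat.card {g : G // g • t = t} =
    6 * Nat.card {g : G // g • t = t ∧ ∀ x ∈ P t, g • x = x ∨ g • x = x * t}

namespace Cfg

set_option linter.unusedSectionVars false
set_option linter.unusedVariables false

variable {P : U → Subgroup U} {N : Subgroup G} {M : U → Subgroup G}

theorem comm (H : Cfg P N M) (x y : U) : x * y = y * x := by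
  have h1 : (x * y) * (x * y) = 1 := H.sq _
  have hx : x⁻¹ = x := inv_eq_of_mul_eq_one_right (H.sq x)
  have hy : y⁻¹ = y := inv_eq_of_mul_eq_one_right (H.sq y)
  have h2 : x * y = (x * y)⁻¹ := (inv_eq_of_mul_eq_one_right h1).symm
  rw [h2, mul_inv_rev, hx, hy]

theorem finU (H : Cfg P N M) : Finite U := Nat.finite_of_card_ne_zero (by rw [H.cardU]; norm_num)

theorem cardP (H : Cfg P N M) {t : U} (ht : t ≠ 1) : Nat.card (P t) = 8 := by
  have h1 := Subgroup.card_mul_index (P t)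
  rw [H.idx t ht, H.cardU] at h1
  omega

theorem smul_mem (H : Cfg P N M) {t : U} (ht : t ≠ 1) {g : G} (hg : g • t = t) {x : U} (hx : x ∈ P t) :
    g • x ∈ P t := by
  have := H.mapP g t x ht hx
  rwa [hg] at this

theorem smul_mem_iff (H : Cfg P N M) {t : U} (ht : t ≠ 1) {g : G} (hg : g • t = t) {x : U} :
    g • x ∈ P t ↔ x ∈ P t := by
  refine ⟨fun h => ?_, H.smul_mem ht hg⟩
  have := H.smul_mem ht (g := g⁻¹) (by rw [inv_smul_eq_iff, hg]) h
  rwa [inv_smul_smul] at this

theorem smul_ne_one {g : G} {x : U} (hx : x ≠ 1) : g • x ≠ 1 := by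
  intro h
  apply hx
  rw [← inv_smul_smul g x, h, smul_one]

theorem iter (g : G) (k : ℕ) (x : U) : (fun y => g • y)^[k] x = g ^ k • x := by
  induction k generalizing x with
  | zero => rw [pow_zero, one_smul]; rfl
  | succ k ih => rw [Function.iterate_succ_apply, ih, pow_succ, mul_smul]

/-- counting modulo 3 for an element of 3-power order -/
theorem mod3' [Finite U] {g : G} (hg : ∃ n, g ^ 3 ^ n = 1) (S : Set U) (hS : ∀ x ∈ S, g • x ∈ S) :
    S.ncard ≡ {x | x ∈ S ∧ g • x = x}.ncard [MOD 3] := by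
  obtain ⟨n, hn⟩ := hg
  exact mod3 (fun y => g • y) S hS (n := n) fun x _ => by rw [iter, hn, one_smul]

/-- `Y`: the elements of `P t` fixed by `g` modulo `t` -/
def Y (P : U → Subgroup U) (t : U) (ht : t * t = 1) (hc : ∀ x y : U, x * y = y * x) (g : G) (hg : g • t = t) :
    Subgroup U where
  carrier := {x | x ∈ P t ∧ (g • x = x ∨ g • x = x * t)}
  one_mem' := ⟨(P t).one_mem, Or.inl (smul_one g)⟩
  mul_mem' := by
    rintro a b ⟨ha, ha'⟩ ⟨hb, hb'⟩
    refine ⟨(P t).mul_mem ha hb, ?_⟩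
    rw [smul_mul']
    rcases ha' with h | h <;> rcases hb' with h' | h' <;> rw [h, h']
    · exact Or.inl rfl
    · exact Or.inr (mul_assoc _ _ _).symm
    · right
      rw [mul_assoc, hc t b, ← mul_assoc]
    · left
      rw [mul_assoc, ← mul_assoc t b t, hc t b, mul_assoc b, ht, mul_one]
  inv_mem' := by
    rintro a ⟨ha, ha'⟩
    refine ⟨(P t).inv_mem ha, ?_⟩
    rw [smul_inv']
    rcases ha' with h | h <;> rw [h]
    · exact Or.inl rfl
    · right
      rw [mul_inv_rev, inv_eq_of_mul_eq_one_right ht, hc]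

variable [Finite G]

/-- the element of order a power of 3 -/
theorem exists_three (H : Cfg P N M) {t : U} (ht : t ≠ 1) :
    ∃ g : G, g • t = t ∧ (∃ n, g ^ 3 ^ n = 1) ∧ ∀ x ∈ P t, (g • x = x ∨ g • x = x * t) → x = 1 ∨ x = t := by
  classical
  have := H.finU
  have : Fact (Nat.Prime 3) := ⟨Nat.prime_three⟩
  set K : Subgroup G := Kt P t (H.sq t) with hK
  have hL : Nat.card (stabilizer G t) = 6 * Nat.card K := H.six t ht
  have hKL : K ≤ stabilizer G t := fun g hg => hg.1
  -- a 3-element outside `K`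
  obtain ⟨g, hgL, hgK, hg3⟩ : ∃ g : G, g • t = t ∧ g ∉ K ∧ ∃ n, g ^ 3 ^ n = 1 := by
    obtain ⟨S⟩ : Nonempty (Sylow 3 (stabilizer G t)) := inferInstance
    by_contra hcon
    push Not at hcon
    have h1 : ∀ x : (S : Subgroup (stabilizer G t)), ((x : stabilizer G t) : G) ∈ K := by
      intro x
      by_contra hx
      obtain ⟨n, hn⟩ := S.isPGroup' x
      refine hcon ((x : stabilizer G t) : G) (x : stabilizer G t).2 hx n ?_
      have h2 := congrArg (fun y : (S : Subgroup (stabilizer G t)) => ((y : stabilizer G t) : G)) hn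
      simpa using h2
    have h2 : Nat.card (S : Subgroup (stabilizer G t)) ∣ Nat.card K := by
      have h3 : (S : Subgroup (stabilizer G t)).map (stabilizer G t).subtype ≤ K := by
        rintro _ ⟨x, hx, rfl⟩
        exact h1 ⟨x, hx⟩
      have h4 := Subgroup.card_dvd_of_le h3
      rwa [Nat.card_congr ((S : Subgroup (stabilizer G t)).equivMapOfInjective _
        (stabilizer G t).subtype_injective).symm.toEquiv] at h4
    rw [Sylow.card_eq_multiplicity, hL, Nat.factorization_mul (by norm_num) Nat.card_pos.ne', Finsupp.add_apply,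
      pow_add] at h2
    have h5 : (6 : ℕ).factorization 3 = 1 := by
      rw [show (6 : ℕ) = 2 * 3 by norm_num, Nat.factorization_mul (by norm_num) (by norm_num),
        Finsupp.add_apply, Nat.Prime.factorization_self Nat.prime_three,
        Nat.factorization_eq_zero_of_not_dvd (by norm_num)]
    rw [h5, pow_one] at h2
    have h6 : 3 ^ ((Nat.card K).factorization 3 + 1) ∣ Nat.card K := by
      rw [pow_succ, mul_comm]; exact h2
    exact Nat.pow_succ_factorization_not_dvd Nat.card_pos.ne' Nat.prime_three h6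
  refine ⟨g, hgL, hg3, ?_⟩
  set Z := Y P t (H.sq t) H.comm g hgL with hZ
  have hZP : Z ≤ P t := fun x hx => hx.1
  have hcP := H.cardP ht
  have hdvd : Nat.card Z ∣ 8 := hcP ▸ Subgroup.card_dvd_of_le hZP
  -- `P t ∖ Y`
  have h1 := mod3' hg3 ((P t : Set U) \ (Z : Set U)) (by
    rintro x ⟨hx, hx'⟩
    refine ⟨H.smul_mem ht hgL hx, fun h => hx' ⟨hx, ?_⟩⟩
    rcases h.2 with h2 | h2
    · left
      exact smul_left_cancel g h2
    · right
      apply smul_left_cancel g
      rw [h2, smul_mul', hgL])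
  have h2 : {x | x ∈ (P t : Set U) \ (Z : Set U) ∧ g • x = x} = ∅ := by
    ext x
    simp only [Set.mem_ofPred_eq, Set.mem_empty_iff_false, iff_false, not_and]
    rintro ⟨hx, hx'⟩ h
    exact hx' ⟨hx, Or.inl h⟩
  have h3 : ((P t : Set U) \ (Z : Set U)).ncard + Nat.card Z = 8 := by
    have h4 := Set.ncard_sdiff_add_ncard_of_subset (s := (Z : Set U)) (t := (P t : Set U)) hZP
    have h5 : (Z : Set U).ncard = Nat.card Z := rfl
    have h6 : (P t : Set U).ncard = Nat.card (P t) := rfl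
    omega
  rw [h2, Set.ncard_empty] at h1
  have h4 : ((P t : Set U) \ (Z : Set U)).ncard % 3 = 0 := h1
  -- `Y = {1, t}`
  have h5 : Nat.card Z ∈ Nat.divisors 8 := Nat.mem_divisors.2 ⟨hdvd, by norm_num⟩
  have h6 : Nat.divisors 8 = {1, 2, 4, 8} := by decide
  rw [h6] at h5
  simp only [Finset.mem_insert, Finset.mem_singleton] at h5
  have htZ : t ∈ Z := ⟨H.memP t ht, Or.inl hgL⟩
  have h7 : ({1, t} : Set U) ⊆ (Z : Set U) := by
    rintro x (rfl | rfl)
    · exact Z.one_mem
    · exact htZ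
  have h8 : ({1, t} : Set U).ncard = 2 := Set.ncard_pair ht.symm
  have h9 : Nat.card Z ≠ 8 := by
    intro h9
    have h10 : Z = P t := by
      apply SetLike.coe_injective
      exact Set.eq_of_subset_of_ncard_le hZP (by
        change Nat.card (P t) ≤ Nat.card Z
        omega)
    apply hgK
    refine ⟨hgL, fun x hx => ?_⟩
    rw [← h10] at hx
    exact hx.2
  have h10 : Nat.card Z = 2 := by
    have h11 : 2 ≤ Nat.card Z := by
      rw [← h8]
      exact Set.ncard_le_ncard h7 (Set.toFinite _)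
    omega
  have h11 : ({1, t} : Set U) = (Z : Set U) := by
    apply Set.eq_of_subset_of_ncard_le h7
    rw [h8]
    exact h10.le
  intro x hx hx'
  have h12 : x ∈ (Z : Set U) := ⟨hx, hx'⟩
  rw [← h11] at h12
  exact h12

/-- the fixed points of `g` outside `P t` -/
theorem fix_out (H : Cfg P N M) {t : U} (ht : t ≠ 1) {g : G}
    (hg : ∀ x ∈ P t, (g • x = x ∨ g • x = x * t) → x = 1 ∨ x = t) {x y : U} (hx : x ∉ P t) (hy : y ∉ P t)
    (hgx : g • x = x) (hgy : g • y = y) : y = x ∨ y = x * t := by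
  have h1 : x * y ∈ P t := (Subgroup.mul_mem_iff_of_index_two (H.idx t ht)).2 ⟨fun h => absurd h hx, fun h => absurd h hy⟩
  rcases hg _ h1 (Or.inl (by rw [smul_mul', hgx, hgy])) with h | h
  · left
    have := congrArg (x * ·) h
    simp only [← mul_assoc, H.sq, one_mul, mul_one] at this
    exact this
  · right
    have := congrArg (x * ·) h
    simp only [← mul_assoc, H.sq, one_mul] at this
    exact this

/-- at most three fixed points -/
theorem fix_le (H : Cfg P N M) {t : U} (ht : t ≠ 1) {g : G}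
    (hg : ∀ x ∈ P t, (g • x = x ∨ g • x = x * t) → x = 1 ∨ x = t) :
    {x : U | x ≠ 1 ∧ g • x = x}.ncard ≤ 3 := by
  classical
  have := H.finU
  by_cases hex : ∃ x : U, x ∉ P t ∧ g • x = x
  · obtain ⟨x, hx, hgx⟩ := hex
    have h1 : {x : U | x ≠ 1 ∧ g • x = x} ⊆ {t, x, x * t} := by
      rintro y ⟨hy1, hy⟩
      by_cases hyP : y ∈ P t
      · rcases hg y hyP (Or.inl hy) with h | h
        · exact absurd h hy1
        · exact Or.inl h
      · rcases H.fix_out ht hg hx hyP hgx hy with h | h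
        · exact Or.inr (Or.inl h)
        · exact Or.inr (Or.inr h)
    refine (Set.ncard_le_ncard h1 (Set.toFinite _)).trans ?_
    refine (Set.ncard_insert_le _ _).trans ?_
    have := Set.ncard_insert_le x ({x * t} : Set U)
    rw [Set.ncard_singleton] at this
    omega
  · push Not at hex
    have h1 : {x : U | x ≠ 1 ∧ g • x = x} ⊆ {t} := by
      rintro y ⟨hy1, hy⟩
      by_cases hyP : y ∈ P t
      · rcases hg y hyP (Or.inl hy) with h | h
        · exact absurd h hy1
        · exact h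
      · exact absurd hy (hex y hyP)
    refine (Set.ncard_le_ncard h1 (Set.toFinite _)).trans ?_
    rw [Set.ncard_singleton]
    norm_num

/-- orbit lengths -/
theorem orb (H : Cfg P N M) {t : U} (ht : t ≠ 1) :
    ∃ c : ℕ, (orbit G t).ncard * c = 10 ∧ Nat.card (Kt (G := G) P t (H.sq t)) = c * Nat.card (M t) := by
  have h1 := Subgroup.index_mul_card (stabilizer G t)
  rw [index_stabilizer] at h1
  have hL : Nat.card (stabilizer G t) = 6 * Nat.card (Kt (G := G) P t (H.sq t)) := H.six t ht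
  have hMK : M t ≤ Kt P t (H.sq t) := fun g hg => H.act t ht g hg
  obtain ⟨c, hc⟩ := Subgroup.card_dvd_of_le hMK
  have hM : 0 < Nat.card (M t) := Nat.card_pos
  refine ⟨c, ?_, by rw [hc, mul_comm]⟩
  rw [hL, hc] at h1
  rcases H.card with h2 | h2
  · rw [h2 t ht] at h1
    have h3 : ((orbit G t).ncard * c * 6) * Nat.card (M t) = 20 * Nat.card (M t) := by rw [← h1]; ring
    have := Nat.eq_of_mul_eq_mul_right hM h3
    omega
  · rw [h2 t ht] at h1
    have h3 : ((orbit G t).ncard * c * 6) * Nat.card (M t) = 60 * Nat.card (M t) := by rw [← h1]; ring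
    have := Nat.eq_of_mul_eq_mul_right hM h3
    omega

/-- the fixed points in an orbit -/
theorem orb_mod (H : Cfg P N M) {g : G} (hg : ∃ n, g ^ 3 ^ n = 1) (x : U) :
    (orbit G x).ncard ≡ {y | y ∈ orbit G x ∧ g • y = y}.ncard [MOD 3] := by
  have := H.finU
  exact mod3' hg (orbit G x) fun y hy => mem_orbit_of_mem_orbit g hy

theorem orb_ne_one {x y : U} (hx : x ≠ 1) (hy : y ∈ orbit G x) : y ≠ 1 := by
  obtain ⟨g, rfl⟩ := hy
  exact smul_ne_one hx

/-- an orbit containing a moved point -/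
theorem orb_moved (H : Cfg P N M) {g : G} (hg3 : ∃ n, g ^ 3 ^ n = 1) {x : U} (hx : x ≠ 1) (hgx : g • x ≠ x) :
    (orbit G x).ncard = 5 ∨ (orbit G x).ncard = 10 := by
  have := H.finU
  obtain ⟨c, hc, -⟩ := H.orb hx
  have h1 := H.orb_mod hg3 x
  have h2 : {y | y ∈ orbit G x ∧ g • y = y}.ncard < (orbit G x).ncard := by
    apply Set.ncard_lt_ncard _ (Set.toFinite _)
    refine ⟨fun y hy => hy.1, fun h => hgx (h (mem_orbit_self x)).2⟩
  have h3 : (orbit G x).ncard ∈ Nat.divisors 10 := Nat.mem_divisors.2 ⟨⟨c, hc.symm⟩, by norm_num⟩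
  have h4 : Nat.divisors 10 = {1, 2, 5, 10} := by decide
  rw [h4] at h3
  simp only [Finset.mem_insert, Finset.mem_singleton] at h3
  rcases h3 with h | h | h | h
  · rw [h] at h1 h2
    have h5 : 1 % 3 = {y | y ∈ orbit G x ∧ g • y = y}.ncard % 3 := h1
    omega
  · rw [h] at h1 h2
    have h5 : 2 % 3 = {y | y ∈ orbit G x ∧ g • y = y}.ncard % 3 := h1
    omega
  · exact Or.inl h
  · exact Or.inr h

/-- choosing a moved point -/
theorem exists_moved (H : Cfg P N M) {g : G} (S : Set U) (hS : S.ncard < 15)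
    (hF : ({x : U | x ≠ 1 ∧ g • x = x} \ S).ncard + S.ncard < 15) :
    ∃ x : U, x ≠ 1 ∧ x ∉ S ∧ g • x ≠ x := by
  have := H.finU
  by_contra hcon
  push Not at hcon
  have h1 : (Set.univ : Set U) ⊆ {1} ∪ (({x : U | x ≠ 1 ∧ g • x = x} \ S) ∪ S) := by
    intro x _
    by_cases hx : x = 1
    · exact Or.inl hx
    · by_cases hxS : x ∈ S
      · exact Or.inr (Or.inr hxS)
      · exact Or.inr (Or.inl ⟨⟨hx, hcon x hx hxS⟩, hxS⟩)
  have h2 := Set.ncard_le_ncard h1 (Set.toFinite _)
  rw [Set.ncard_univ, H.cardU] at h2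
  have h3 := Set.ncard_union_le ({1} : Set U) (({x : U | x ≠ 1 ∧ g • x = x} \ S) ∪ S)
  have h4 := Set.ncard_union_le ({x : U | x ≠ 1 ∧ g • x = x} \ S) S
  rw [Set.ncard_singleton] at h3
  omega

/-- the fixed points split -/
theorem fix_split (H : Cfg P N M) (g : G) {x : U} (hx : x ≠ 1) :
    ({y : U | y ≠ 1 ∧ g • y = y} \ orbit G x).ncard + {y | y ∈ orbit G x ∧ g • y = y}.ncard =
      {y : U | y ≠ 1 ∧ g • y = y}.ncard := by
  have := H.finU
  have h1 : {y | y ∈ orbit G x ∧ g • y = y} = {y : U | y ≠ 1 ∧ g • y = y} ∩ orbit G x := by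
    ext y
    constructor
    · rintro ⟨h1, h2⟩
      exact ⟨⟨orb_ne_one hx h1, h2⟩, h1⟩
    · rintro ⟨⟨_, h2⟩, h1⟩
      exact ⟨h1, h2⟩
  rw [h1, add_comm]
  exact Set.ncard_inter_add_ncard_sdiff_eq_ncard _ _ (Set.toFinite _)

/-- there are orbits of lengths 5 and 10 -/
theorem orbits (H : Cfg P N M) : (∃ t : U, t ≠ 1 ∧ (orbit G t).ncard = 5) ∧ ∃ t : U, t ≠ 1 ∧ (orbit G t).ncard = 10 := by
  classical
  have := H.finU
  obtain ⟨t, ht⟩ : ∃ t : U, t ≠ 1 := by
    have : Nontrivial U := Finite.one_lt_card_iff_nontrivial.1 (by rw [H.cardU]; norm_num)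
    exact exists_ne 1
  obtain ⟨g, -, hg3, hg⟩ := H.exists_three ht
  have hF := H.fix_le ht hg
  obtain ⟨x, hx, -, hgx⟩ := H.exists_moved (g := g) ∅ (by simp) (by
    rw [Set.sdiff_empty, Set.ncard_empty]; omega)
  have hdisj : ∀ y : U, y ∉ orbit G x → Disjoint (orbit G x) (orbit G y) := by
    intro y hy
    rcases orbit.eq_or_disjoint (G := G) x y with h | h
    · exact absurd (h ▸ mem_orbit_self y) hy
    · exact h
  have hm := H.orb_mod hg3 x
  have hs := H.fix_split g hx
  have hfin : ∀ y : U, y ≠ 1 → y ∉ orbit G x → (orbit G x).ncard + (orbit G y).ncard ≤ 15 := by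
    intro y hy1 hy
    rw [← Set.ncard_union_eq (hdisj y hy) (Set.toFinite _) (Set.toFinite _)]
    have h1 : orbit G x ∪ orbit G y ⊆ (Set.univ : Set U) \ {1} := by
      rintro z (hz | hz)
      · exact ⟨trivial, orb_ne_one hx hz⟩
      · exact ⟨trivial, orb_ne_one hy1 hz⟩
    refine (Set.ncard_le_ncard h1 (Set.toFinite _)).trans ?_
    rw [Set.ncard_sdiff_singleton_of_mem (Set.mem_univ _), Set.ncard_univ, H.cardU]
  rcases H.orb_moved hg3 hx hgx with h5 | h10
  · refine ⟨⟨x, hx, h5⟩, ?_⟩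
    rw [h5] at hm
    have hm' : 5 % 3 = {y | y ∈ orbit G x ∧ g • y = y}.ncard % 3 := hm
    obtain ⟨y, hy, hyx, hgy⟩ := H.exists_moved (g := g) (orbit G x) (by omega) (by omega)
    rcases H.orb_moved hg3 hy hgy with h5' | h10'
    · exfalso
      have hm2 := H.orb_mod hg3 y
      rw [h5'] at hm2
      have hm2' : 5 % 3 = {z | z ∈ orbit G y ∧ g • z = z}.ncard % 3 := hm2
      have h1 : {z | z ∈ orbit G y ∧ g • z = z} ⊆ {z : U | z ≠ 1 ∧ g • z = z} \ orbit G x := by
        rintro z ⟨hz, hgz⟩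
        exact ⟨⟨orb_ne_one hy hz, hgz⟩, fun h => Set.disjoint_left.1 (hdisj y hyx) h hz⟩
      have h2 := Set.ncard_le_ncard h1 (Set.toFinite _)
      omega
    · exact ⟨y, hy, h10'⟩
  · refine ⟨?_, ⟨x, hx, h10⟩⟩
    rw [h10] at hm
    have hm' : 10 % 3 = {y | y ∈ orbit G x ∧ g • y = y}.ncard % 3 := hm
    obtain ⟨y, hy, hyx, hgy⟩ := H.exists_moved (g := g) (orbit G x) (by omega) (by omega)
    rcases H.orb_moved hg3 hy hgy with h5' | h10'
    · exact ⟨y, hy, h5'⟩
    · have := hfin y hy hyx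
      omega

/-- the kernel of the action is `N` -/
theorem ker' (H : Cfg P N M) (g : G) (hg : ∀ x : U, g • x = x) : g ∈ N := by
  obtain ⟨-, t, ht, h10⟩ := H.orbits
  obtain ⟨c, hc, hK⟩ := H.orb ht
  rw [h10] at hc
  have hc1 : c = 1 := by omega
  rw [hc1, one_mul] at hK
  have hMK : M t ≤ Kt P t (H.sq t) := fun g hg => H.act t ht g hg
  have h1 : M t = Kt P t (H.sq t) := Subgroup.eq_of_le_of_card_ge hMK hK.le
  refine H.ker t ht g ?_ hg
  rw [h1]
  exact ⟨hg t, fun x _ => Or.inl (hg x)⟩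

/-- elements of order 3 in `Kt` act trivially -/
theorem three_triv (H : Cfg P N M) {t : U} (ht : t ≠ 1) {k : G} (hk : k ∈ Kt P t (H.sq t)) (h3 : k ^ 3 = 1) (x : U) :
    k • x = x := by
  have hP : ∀ x ∈ P t, k • x = x := by
    intro x hx
    rcases hk.2 x hx with h | h
    · exact h
    · have h1 : k • k • k • x = x := by
        rw [← mul_smul, ← mul_smul, ← pow_two, ← pow_succ, h3, one_smul]
      rw [h, smul_mul', hk.1, h, mul_assoc, H.sq, mul_one] at h1
      exact h1
  by_cases hx : x ∈ P t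
  · exact hP x hx
  · have hkx : k • x ∉ P t := fun h => hx ((H.smul_mem_iff ht hk.1).1 h)
    have h1 : x * k • x ∈ P t :=
      (Subgroup.mul_mem_iff_of_index_two (H.idx t ht)).2 ⟨fun h => absurd h hx, fun h => absurd h hkx⟩
    have h2 : k • x = x * (x * k • x) := by rw [← mul_assoc, H.sq, one_mul]
    have h3' : k • (x * k • x) = x * k • x := hP _ h1
    have h4 : k • k • x = x := by
      rw [h2, smul_mul', h3', h2, mul_assoc, ← h2, H.sq, mul_one]
    have h5 : k • k • k • x = x := by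
      rw [← mul_smul, ← mul_smul, ← pow_two, ← pow_succ, h3, one_smul]
    rw [h4] at h5
    exact h5

theorem not_three (H : Cfg P N M) {t : U} (ht : t ≠ 1) : ¬ 3 ∣ Nat.card (M t) := by
  intro h
  have : Fact (Nat.Prime 3) := ⟨Nat.prime_three⟩
  obtain ⟨r, hr⟩ := exists_prime_orderOf_dvd_card' 3 h
  have hr3 : (r : G) ^ 3 = 1 := by
    rw [← hr, ← Subgroup.orderOf_coe]
    exact pow_orderOf_eq_one _
  have h1 : (r : G) ∈ N := H.ker t ht r r.2 (H.three_triv ht (H.act t ht r r.2) hr3)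
  apply H.three
  have h2 : orderOf (⟨(r : G), h1⟩ : N) = 3 := by
    rw [← Subgroup.orderOf_coe]
    exact (Subgroup.orderOf_coe r).trans hr
  rw [← h2]
  exact orderOf_dvd_natCard _

theorem false (H : Cfg P N M) : False := by
  classical
  have := H.finU
  obtain ⟨⟨t, ht, h5⟩, -⟩ := H.orbits
  obtain ⟨c, hc, hK⟩ := H.orb ht
  rw [h5] at hc
  have hc2 : c = 2 := by omega
  rw [hc2] at hK
  obtain ⟨g, hgt, hg3, hg⟩ := H.exists_three ht
  have hMK : M t ≤ Kt P t (H.sq t) := fun g hg => H.act t ht g hg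
  have htt := H.sq t
  -- an element of `Kt ∖ M` commuting with `g`
  obtain ⟨k, hkK, hkM, hkg⟩ : ∃ k, k ∈ Kt P t (H.sq t) ∧ k ∉ M t ∧ g * k * g⁻¹ = k := by
    obtain ⟨n, hn⟩ := hg3
    have hgK : ∀ x ∈ Kt P t (H.sq t), g * x * g⁻¹ ∈ Kt P t (H.sq t) := by
      rintro x ⟨hx1, hx2⟩
      have hgt' : g⁻¹ • t = t := by rw [inv_smul_eq_iff, hgt]
      refine ⟨by rw [mul_smul, mul_smul, hgt', hx1, hgt], fun y hy => ?_⟩
      rw [mul_smul, mul_smul]
      rcases hx2 (g⁻¹ • y) (H.smul_mem ht hgt' hy) with h | h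
      · left; rw [h, smul_inv_smul]
      · right; rw [h, smul_mul', smul_inv_smul, hgt]
    have hginvM : ∀ x, g * x * g⁻¹ ∈ M t → x ∈ M t := by
      -- iterate
      have hpow : ∀ (j : ℕ) (x : G), x ∈ M t → g ^ j * x * (g ^ j)⁻¹ ∈ M t := by
        intro j
        induction j with
        | zero => intro x hx; simpa using hx
        | succ j ih =>
          intro x hx
          have := H.norm t ht g hgt ⟨n, hn⟩ _ (ih x hx)
          rw [pow_succ']
          simpa [mul_assoc] using this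
      intro x hx
      have h1 := hpow (3 ^ n - 1) _ hx
      have h2 : g ^ (3 ^ n - 1) * g = 1 := by
        rw [← pow_succ, Nat.sub_add_cancel (Nat.one_le_pow _ _ (by norm_num)), hn]
      have h3 : g ^ (3 ^ n - 1) * (g * x * g⁻¹) * (g ^ (3 ^ n - 1))⁻¹ = x := by
        have h4 : g ^ (3 ^ n - 1) * (g * x * g⁻¹) * (g ^ (3 ^ n - 1))⁻¹ =
          (g ^ (3 ^ n - 1) * g) * x * (g ^ (3 ^ n - 1) * g)⁻¹ := by group
        rw [h4, h2, one_mul, inv_one, mul_one]
      rwa [h3] at h1
    have hit : ∀ (j : ℕ) (x : G), (fun y => g * y * g⁻¹)^[j] x = g ^ j * x * (g ^ j)⁻¹ := by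
      intro j
      induction j with
      | zero => intro x; simp
      | succ j ih =>
        intro x
        rw [Function.iterate_succ_apply, ih, pow_succ]
        simp only [mul_inv_rev, mul_assoc]
    have h1 := mod3 (fun y => g * y * g⁻¹) (((Kt P t (H.sq t) : Subgroup G) : Set G) \ (M t : Set G)) (by
      rintro x ⟨hx, hx'⟩
      exact ⟨hgK x hx, fun h => hx' (hginvM x h)⟩) (n := n) (by
      intro x _
      rw [hit, hn]
      simp)
    have h2 : (((Kt P t (H.sq t) : Subgroup G) : Set G) \ (M t : Set G)).ncard = Nat.card (M t) := by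
      have h3 := Set.ncard_sdiff_add_ncard_of_subset (s := (M t : Set G)) (t := ((Kt P t (H.sq t) : Subgroup G) : Set G)) hMK
      have h4 : (M t : Set G).ncard = Nat.card (M t) := rfl
      have h5 : ((Kt P t (H.sq t) : Subgroup G) : Set G).ncard = Nat.card (Kt (G := G) P t (H.sq t)) := rfl
      omega
    rw [h2] at h1
    have h3 : {x | x ∈ ((Kt P t (H.sq t) : Subgroup G) : Set G) \ (M t : Set G) ∧ g * x * g⁻¹ = x}.ncard ≠ 0 := by
      intro h0
      rw [h0] at h1
      exact H.not_three ht (Nat.dvd_of_mod_eq_zero h1)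
    obtain ⟨k, ⟨hk, hk'⟩, hk2⟩ := Set.nonempty_of_ncard_ne_zero h3
    exact ⟨k, hk, hk', hk2⟩
  have hkg' : ∀ x : U, g • k • x = k • g • x := by
    intro x
    rw [← mul_smul, ← mul_smul]
    congr 1
    calc g * k = g * k * g⁻¹ * g := by group
      _ = k * g := by rw [hkg]
  -- `k` acts trivially on `P t`
  have hkP : ∀ x ∈ P t, k • x = x := by
    by_contra hcon
    push Not at hcon
    obtain ⟨x0, hx0, hkx0⟩ := hcon
    have hkx0' : k • x0 = x0 * t := (hkK.2 x0 hx0).resolve_left hkx0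
    set A : Set U := {x | x ∈ P t ∧ k • x = x} with hA
    set B : Set U := {x | x ∈ P t ∧ k • x ≠ x} with hB
    have h1 : A.ncard = B.ncard := by
      refine Set.ncard_congr (fun x _ => x0 * x) ?_ ?_ ?_
      · rintro x ⟨hx, hkx⟩
        refine ⟨(P t).mul_mem hx0 hx, ?_⟩
        rw [smul_mul', hkx0', hkx]
        intro h
        have h2 := mul_right_cancel h
        exact ht (mul_left_cancel (h2.trans (mul_one x0).symm))
      · intro x y _ _ h
        exact mul_left_cancel h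
      · rintro y ⟨hy, hky⟩
        refine ⟨x0 * y, ⟨(P t).mul_mem hx0 hy, ?_⟩, ?_⟩
        · rw [smul_mul', hkx0', (hkK.2 y hy).resolve_left hky, H.comm y t, mul_assoc x0 t, ← mul_assoc t t y, htt,
            one_mul]
        · rw [← mul_assoc, H.sq, one_mul]
    have h2 : A.ncard + B.ncard = 8 := by
      have h3 : (P t : Set U) = A ∪ B := by
        ext x
        constructor
        · intro hx
          by_cases h : k • x = x
          · exact Or.inl ⟨hx, h⟩
          · exact Or.inr ⟨hx, h⟩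
        · rintro (h | h)
          · exact h.1
          · exact h.1
      have h4 : Disjoint A B := Set.disjoint_left.2 fun x h1 h2 => h2.2 h1.2
      have h5 := Set.ncard_union_eq h4 (Set.toFinite _) (Set.toFinite _)
      rw [← h3] at h5
      have h6 : (P t : Set U).ncard = Nat.card (P t) := rfl
      have h7 := H.cardP ht
      omega
    have h3 := mod3' hg3 B (by
      rintro x ⟨hx, hkx⟩
      refine ⟨H.smul_mem ht hgt hx, fun h => hkx ?_⟩
      rw [← hkg'] at h
      exact smul_left_cancel g h)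
    have h4 : B.ncard = 4 := by omega
    rw [h4] at h3
    have h5 : 4 % 3 = {x | x ∈ B ∧ g • x = x}.ncard % 3 := h3
    obtain ⟨x, ⟨hx, hkx⟩, hgx⟩ := Set.nonempty_of_ncard_ne_zero (s := {x | x ∈ B ∧ g • x = x}) (by omega)
    rcases hg x hx (Or.inl hgx) with h | h
    · exact hkx (by rw [h, smul_one])
    · exact hkx (by rw [h, hkK.1])
  -- the second fixed point
  have hmod := H.orb_mod hg3 t
  rw [h5] at hmod
  have hmod' : 5 % 3 = {y | y ∈ orbit G t ∧ g • y = y}.ncard % 3 := hmod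
  have hF := H.fix_le ht hg
  have hs := H.fix_split g ht
  have htF : t ∈ {y | y ∈ orbit G t ∧ g • y = y} := ⟨mem_orbit_self t, hgt⟩
  obtain ⟨t', ⟨ht'O, ht'g⟩, ht'⟩ : ∃ t', t' ∈ {y | y ∈ orbit G t ∧ g • y = y} ∧ t' ≠ t := by
    by_contra hcon
    push Not at hcon
    have h1 : {y | y ∈ orbit G t ∧ g • y = y} ⊆ {t} := fun y hy => hcon y hy
    have h2 := Set.ncard_le_ncard h1 (Set.toFinite _)
    rw [Set.ncard_singleton] at h2
    omega
  have ht'1 : t' ≠ 1 := orb_ne_one ht ht'O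
  have ht'P : t' ∉ P t := by
    intro h
    rcases hg t' h (Or.inl ht'g) with h | h
    · exact ht'1 h
    · exact ht' h
  have hkt'P : k • t' ∉ P t := fun h => ht'P ((H.smul_mem_iff ht hkK.1).1 h)
  have hkt'g : g • k • t' = k • t' := by rw [hkg', ht'g]
  rcases H.fix_out ht hg ht'P hkt'P ht'g hkt'g with h | h
  · -- `k` acts trivially
    apply hkM
    apply H.le t ht
    apply H.ker'
    intro x
    by_cases hx : x ∈ P t
    · exact hkP x hx
    · have h1 : t' * x ∈ P t :=
        (Subgroup.mul_mem_iff_of_index_two (H.idx t ht)).2 ⟨fun h => absurd h ht'P, fun h => absurd h hx⟩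
      have h2 : x = t' * (t' * x) := by rw [← mul_assoc, H.sq, one_mul]
      rw [h2, smul_mul', h, hkP _ h1]
  · -- three fixed points
    have h1 : ({t, t', t' * t} : Set U) ⊆ {y | y ∈ orbit G t ∧ g • y = y} := by
      rintro y (rfl | rfl | rfl)
      · exact htF
      · exact ⟨ht'O, ht'g⟩
      · rw [← h]
        exact ⟨mem_orbit_of_mem_orbit k ht'O, hkt'g⟩
    have h2 := Set.ncard_le_ncard h1 (Set.toFinite _)
    have h3 : ({t, t', t' * t} : Set U).ncard = 3 := by
      refine Set.ncard_eq_three.2 ⟨t, t', t' * t, ht'.symm, ?_, ?_, rfl⟩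
      · intro h
        apply ht'1
        have h4 : (1 : U) * t = t' * t := by rw [one_mul]; exact h
        exact (mul_right_cancel h4).symm
      · intro h
        apply ht
        have h4 : t' * 1 = t' * t := by rw [mul_one]; exact h
        exact (mul_left_cancel h4).symm
    omega

end Cfg

end Cfsg.Agent.H1.HT
end

-- part: H183/HT/Arith
section
prune_inst 0x4f1104f017762100000040582530022f53500019000200001f96407460b0fd3628042a1004a001c06126ab28018040070021004f0400000000a0034000027072990aa5200b37d0f0c8c0007803087580c00000000000000000000000000041004200400002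
set_option linter.all false
open scoped Cfsg.Agent.FastGrp

/-! # S3540 / S3577 (TEAM HT-E), A8: arithmetic (helper183) -/

set_option autoImplicit false

namespace Cfsg.Agent.H183.HT

open Finset

/-- `Q ≡ 1 mod 4`: the 2-part of `Q ^ (2 ^ b) - 1` -/
theorem exists_odd {Q : ℕ} (hQ : 4 ∣ Q - 1) (hQ1 : 1 < Q) (b : ℕ) :
    ∃ o, Odd o ∧ Q ^ (2 ^ b) - 1 = (Q - 1) * 2 ^ b * o := by
  induction b with
  | zero => exact ⟨1, odd_one, by simp⟩
  | succ b ih =>
    obtain ⟨o, ho, h⟩ := ih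
    obtain ⟨j, hj⟩ := hQ
    have h4 : 4 ∣ Q ^ (2 ^ b) - 1 := by
      rw [h, hj]
      exact ⟨j * 2 ^ b * o, by ring⟩
    obtain ⟨i, hi⟩ := h4
    have hpos : 1 ≤ Q ^ (2 ^ b) := Nat.one_le_pow _ _ (by omega)
    have hq : Q ^ (2 ^ b) = 4 * i + 1 := by omega
    refine ⟨o * (2 * i + 1), ho.mul ⟨i, rfl⟩, ?_⟩
    have h1 : Q ^ (2 ^ (b + 1)) = Q ^ (2 ^ b) * Q ^ (2 ^ b) := by rw [← pow_add, pow_succ, mul_two]
    have h2 : Q ^ (2 ^ (b + 1)) - 1 = (Q ^ (2 ^ b) - 1) * (Q ^ (2 ^ b) + 1) := by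
      rw [h1]
      obtain ⟨c, hc⟩ : ∃ c, Q ^ (2 ^ b) = c + 1 := ⟨Q ^ (2 ^ b) - 1, by omega⟩
      rw [hc, Nat.add_sub_cancel]
      apply Nat.sub_eq_of_eq_add
      ring
    rw [h2, h, hq, pow_succ]
    ring

/-- odd factors can be removed -/
theorem dvd_of_odd {k o x : ℕ} (ho : Odd o) (h : 2 ^ k ∣ o * x) : 2 ^ k ∣ x :=
  (Nat.Coprime.pow_left k (Nat.coprime_two_left.2 ho)).dvd_of_dvd_mul_left h

theorem odd_prod {s : Finset ℕ} (f : ℕ → ℕ) (h : ∀ i ∈ s, Odd (f i)) : Odd (∏ i ∈ s, f i) := by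
  induction s using Finset.cons_induction with
  | empty => simp
  | cons a s ha ih =>
    rw [Finset.prod_cons]
    exact (h a (Finset.mem_cons_self a s)).mul (ih fun i hi => h i (Finset.mem_cons_of_mem hi))

theorem odd_two_pow {i : ℕ} (hi : i ≠ 0) : Odd (2 ^ i + 1) :=
  ((Nat.even_pow.2 ⟨even_two, hi⟩).add_one)

theorem le_prod (a : ℕ) : (∏ i ∈ range a, (2 ^ i + 1)) ^ 2 ≤ 2 ^ (a * (a + 1)) := by
  induction a with
  | zero => simp
  | succ a ih =>
    rw [prod_range_succ, mul_pow]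
    have h1 : 2 ^ a + 1 ≤ 2 ^ (a + 1) := by
      have : 1 ≤ 2 ^ a := Nat.one_le_two_pow
      rw [pow_succ]
      omega
    have h2 : (2 ^ a + 1) ^ 2 ≤ (2 ^ (a + 1)) ^ 2 := Nat.pow_le_pow_left h1 2
    refine (Nat.mul_le_mul ih h2).trans ?_
    rw [← pow_mul, ← pow_add]
    apply le_of_eq
    congr 1
    ring

theorem le_prod' (a : ℕ) (ha : 1 ≤ a) : (∏ i ∈ Icc 2 a, (2 ^ i + 1)) ^ 2 * 2 ^ 6 ≤ 2 ^ ((a + 1) * (a + 2)) := by
  induction a, ha using Nat.le_induction with
  | base => simp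
  | succ a ha ih =>
    rw [prod_Icc_succ_top (by omega), mul_pow]
    have h1 : 2 ^ (a + 1) + 1 ≤ 2 ^ (a + 2) := by
      have : 1 ≤ 2 ^ (a + 1) := Nat.one_le_two_pow
      rw [pow_succ 2 (a + 1)]
      omega
    have h2 : (2 ^ (a + 1) + 1) ^ 2 ≤ (2 ^ (a + 2)) ^ 2 := Nat.pow_le_pow_left h1 2
    calc (∏ i ∈ Icc 2 a, (2 ^ i + 1)) ^ 2 * (2 ^ (a + 1) + 1) ^ 2 * 2 ^ 6
        = ((∏ i ∈ Icc 2 a, (2 ^ i + 1)) ^ 2 * 2 ^ 6) * (2 ^ (a + 1) + 1) ^ 2 := by ring
      _ ≤ 2 ^ ((a + 1) * (a + 2)) * (2 ^ (a + 2)) ^ 2 := Nat.mul_le_mul ih h2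
      _ = 2 ^ ((a + 1 + 1) * (a + 1 + 2)) := by
        rw [← pow_mul, ← pow_add]
        congr 1
        ring

theorem plus_two : ∀ Q < 34, ∀ k < 25, ¬ (1 < Q ∧ 32 * k ∣ 24 * (Q - 1) ∧ 32 * k ∣ Q ^ 4 - 1 ∧
    Q ^ 4 ≤ 2 * (32 * k) ^ 2) := by decide +kernel

theorem minus_three : ∀ j < 8, ∀ k < 316, ¬ (0 < j ∧ 128 * k ∣ 180 * (32 * j) ∧
    128 * k ∣ (32 * j + 1) ^ 4 - 1 ∧ (32 * j + 1) ^ 4 ≤ 2 * (128 * k) ^ 2) := by decide +kernel

/-- A8 -/
theorem plus_arith {a Q m : ℕ} (ha : 2 ≤ a) (hQ : 1 < Q)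
    (h1 : m ∣ 2 ^ a * (∏ i ∈ range a, (2 ^ i + 1)) * (Q - 1)) (h2 : 2 ^ (2 * a + 1) ∣ m)
    (h4 : m ∣ Q ^ (2 ^ a) - 1) (h5 : Q ^ (2 ^ a) ≤ 2 * m ^ 2) : False := by
  have hPpos : 0 < ∏ i ∈ range a, (2 ^ i + 1) := prod_pos fun i _ => Nat.succ_pos _
  have hm : m ≤ 2 ^ a * (∏ i ∈ range a, (2 ^ i + 1)) * (Q - 1) :=
    Nat.le_of_dvd (by
      have : 0 < Q - 1 := by omega
      positivity) h1
  rcases Nat.lt_or_ge a 3 with ha3 | ha3
  · obtain rfl : a = 2 := by omega
    have hP : ∏ i ∈ range 2, (2 ^ i + 1) = 6 := by decide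
    rw [hP] at h1 hm
    have h1' : m ∣ 24 * (Q - 1) := h1
    have hm' : m ≤ 24 * (Q - 1) := hm
    have h5' : Q ^ 4 ≤ 2 * m ^ 2 := h5
    have hQ34 : Q < 34 := by
      by_contra hge
      have h6 : m ^ 2 ≤ (24 * Q) ^ 2 := Nat.pow_le_pow_left (hm'.trans (Nat.mul_le_mul_left _ (Nat.sub_le _ _))) 2
      have h7 : 34 * 34 ≤ Q * Q := Nat.mul_le_mul (by omega) (by omega)
      linarith only [h5', h6, h7, Nat.mul_le_mul_right (Q * Q) h7]
    obtain ⟨k, rfl⟩ := h2
    have hk : k < 25 := by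
      norm_num only [] at hm'
      omega
    exact plus_two Q hQ34 k hk ⟨hQ, h1', h4, h5'⟩
  · -- `2 ^ (a + 1) ∣ Q - 1`
    have h6 : 2 ^ (2 * a + 1) ∣ 2 ^ a * (∏ i ∈ range a, (2 ^ i + 1)) * (Q - 1) := h2.trans h1
    obtain ⟨b, rfl⟩ : ∃ b, a = b + 1 := ⟨a - 1, by omega⟩
    have hP : ∏ i ∈ range (b + 1), (2 ^ i + 1) = (∏ i ∈ range b, (2 ^ (i + 1) + 1)) * 2 := by
      rw [prod_range_succ']
      norm_num
    have hodd : Odd (∏ i ∈ range b, (2 ^ (i + 1) + 1)) := odd_prod _ fun i _ => odd_two_pow (Nat.succ_ne_zero i)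
    have h7 : 2 ^ (b + 1) ∣ Q - 1 := by
      apply dvd_of_odd hodd
      rw [hP] at h6
      have h8 : 2 ^ (2 * (b + 1) + 1) = 2 ^ (b + 2) * 2 ^ (b + 1) := by rw [← pow_add]; congr 1; ring
      have h9 : 2 ^ (b + 1) * ((∏ i ∈ range b, (2 ^ (i + 1) + 1)) * 2) * (Q - 1) =
          2 ^ (b + 2) * ((∏ i ∈ range b, (2 ^ (i + 1) + 1)) * (Q - 1)) := by
        rw [pow_succ 2 (b + 1)]
        ring
      rw [h8, h9] at h6
      exact Nat.dvd_of_mul_dvd_mul_left (by positivity) h6
    have h4Q : 4 ∣ Q - 1 := (pow_dvd_pow 2 (show 2 ≤ b + 1 by omega)).trans h7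
    obtain ⟨o, ho, hoe⟩ := exists_odd h4Q hQ (b + 1)
    have h8 : 2 ^ (b + 2) ∣ Q - 1 := by
      apply dvd_of_odd ho
      have h9 := h2.trans h4
      rw [hoe] at h9
      have h10 : 2 ^ (2 * (b + 1) + 1) = 2 ^ (b + 1) * 2 ^ (b + 2) := by rw [← pow_add]; congr 1; ring
      have h11 : (Q - 1) * 2 ^ (b + 1) * o = 2 ^ (b + 1) * (o * (Q - 1)) := by ring
      rw [h10, h11] at h9
      exact Nat.dvd_of_mul_dvd_mul_left (by positivity) h9
    have hQge : 2 ^ (b + 2) ≤ Q := (Nat.le_of_dvd (by omega) h8).trans (Nat.sub_le _ _)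
    -- the estimate
    have hle := le_prod (b + 1)
    have h9 : Q ^ (2 ^ (b + 1)) ≤ 2 ^ ((b + 1) * (b + 1) + 3 * (b + 1) + 1) * Q ^ 2 := by
      calc Q ^ (2 ^ (b + 1)) ≤ 2 * m ^ 2 := h5
        _ ≤ 2 * (2 ^ (b + 1) * (∏ i ∈ range (b + 1), (2 ^ i + 1)) * (Q - 1)) ^ 2 :=
            Nat.mul_le_mul_left _ (Nat.pow_le_pow_left hm 2)
        _ = 2 * (2 ^ (b + 1)) ^ 2 * (∏ i ∈ range (b + 1), (2 ^ i + 1)) ^ 2 * (Q - 1) ^ 2 := by ring
        _ ≤ 2 * (2 ^ (b + 1)) ^ 2 * 2 ^ ((b + 1) * (b + 1 + 1)) * Q ^ 2 :=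
            Nat.mul_le_mul (Nat.mul_le_mul_left _ hle) (Nat.pow_le_pow_left (Nat.sub_le _ _) 2)
        _ = 2 ^ ((b + 1) * (b + 1) + 3 * (b + 1) + 1) * Q ^ 2 := by
            rw [← pow_mul, ← pow_succ', ← pow_add]
            congr 2
            ring
    have h10 : 2 * (b + 1) + 2 ≤ 2 ^ (b + 1) := by
      clear h9 hle hQge h8 hoe h4Q h7 hodd hP h6 hPpos hm h1 h2 h4 h5
      have hb : 2 ≤ b := by omega
      clear ha ha3
      induction b, hb using Nat.le_induction with
      | base => norm_num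
      | succ b hb ih => rw [pow_succ]; omega
    have h11 : Q ^ (2 ^ (b + 1) - 2) ≤ 2 ^ ((b + 1) * (b + 1) + 3 * (b + 1) + 1) := by
      have h12 : Q ^ (2 ^ (b + 1)) = Q ^ (2 ^ (b + 1) - 2) * Q ^ 2 := by
        rw [← pow_add]
        congr 1
        omega
      rw [h12] at h9
      exact Nat.le_of_mul_le_mul_right h9 (by positivity)
    have h12 : (2 ^ (b + 2)) ^ (2 ^ (b + 1) - 2) ≤ Q ^ (2 ^ (b + 1) - 2) := Nat.pow_le_pow_left hQge _
    have h13 := h12.trans h11
    rw [← pow_mul] at h13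
    have h14 := (Nat.pow_le_pow_iff_right (by norm_num : 1 < 2)).1 h13
    have h15 : (b + 2) * (2 * (b + 1)) ≤ (b + 2) * (2 ^ (b + 1) - 2) := Nat.mul_le_mul_left _ (by omega)
    have h16 : 2 ≤ b := by omega
    nlinarith only [ha3, h14, h15]

/-- A8 -/
theorem minus_arith {a Q m : ℕ} (ha : 3 ≤ a) (hQ : 1 < Q) (h8 : 8 ∣ Q - 1)
    (h1 : m ∣ 2 ^ (a - 1) * (∏ i ∈ Icc 2 a, (2 ^ i + 1)) * (Q - 1)) (h2 : 2 ^ (2 * a + 1) ∣ m)
    (h4 : m ∣ Q ^ (2 ^ (a - 1)) - 1) (h5 : Q ^ (2 ^ (a - 1)) ≤ 2 * m ^ 2) : False := by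
  have hPpos : 0 < ∏ i ∈ Icc 2 a, (2 ^ i + 1) := prod_pos fun i _ => Nat.succ_pos _
  have hm : m ≤ 2 ^ (a - 1) * (∏ i ∈ Icc 2 a, (2 ^ i + 1)) * (Q - 1) :=
    Nat.le_of_dvd (by
      have : 0 < Q - 1 := by omega
      positivity) h1
  obtain ⟨b, rfl⟩ : ∃ b, a = b + 1 := ⟨a - 1, by omega⟩
  rw [Nat.add_sub_cancel] at h1 h4 h5 hm
  have hodd : Odd (∏ i ∈ Icc 2 (b + 1), (2 ^ i + 1)) := odd_prod _ fun i hi => odd_two_pow (by
    have := (mem_Icc.1 hi).1
    omega)
  have h7 : 2 ^ (b + 3) ∣ Q - 1 := by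
    apply dvd_of_odd hodd
    have h6 := h2.trans h1
    have h8 : 2 ^ (2 * (b + 1) + 1) = 2 ^ b * 2 ^ (b + 3) := by rw [← pow_add]; congr 1; ring
    rw [h8, mul_assoc] at h6
    exact Nat.dvd_of_mul_dvd_mul_left (by positivity) h6
  rcases Nat.lt_or_ge b 3 with hb | hb
  · obtain rfl : b = 2 := by omega
    have hP : ∏ i ∈ Icc 2 (2 + 1), (2 ^ i + 1) = 45 := by decide
    rw [hP] at h1 hm
    have h1' : m ∣ 180 * (Q - 1) := h1
    have hm' : m ≤ 180 * (Q - 1) := hm
    have h5' : Q ^ 4 ≤ 2 * m ^ 2 := h5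
    have hQ34 : Q < 255 := by
      by_contra hge
      have h6 : m ^ 2 ≤ (180 * Q) ^ 2 := Nat.pow_le_pow_left (hm'.trans (Nat.mul_le_mul_left _ (Nat.sub_le _ _))) 2
      have h7 : 255 * 255 ≤ Q * Q := Nat.mul_le_mul (by omega) (by omega)
      linarith only [h5', h6, h7, Nat.mul_le_mul_right (Q * Q) h7]
    obtain ⟨k, rfl⟩ := h2
    obtain ⟨j, hj⟩ := h7
    have hj' : Q - 1 = 32 * j := hj
    have hQj : Q = 32 * j + 1 := by omega
    have hj8 : j < 8 := by omega
    have hk : k < 316 := by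
      norm_num only [] at hm'
      omega
    subst hQj
    exact minus_three j hj8 k hk ⟨by omega, by rw [← hj']; exact h1', h4, h5'⟩
  · have hQge : 2 ^ (b + 3) ≤ Q := (Nat.le_of_dvd (by omega) h7).trans (Nat.sub_le _ _)
    have hle := le_prod' (b + 1) (by omega)
    have h9 : Q ^ (2 ^ b) * 2 ^ 6 ≤ 2 ^ ((b + 1) * (b + 1) + 5 * (b + 1) + 1) * Q ^ 2 := by
      calc Q ^ (2 ^ b) * 2 ^ 6 ≤ 2 * m ^ 2 * 2 ^ 6 := Nat.mul_le_mul_right _ h5
        _ ≤ 2 * (2 ^ b * (∏ i ∈ Icc 2 (b + 1), (2 ^ i + 1)) * (Q - 1)) ^ 2 * 2 ^ 6 :=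
            Nat.mul_le_mul_right _ (Nat.mul_le_mul_left _ (Nat.pow_le_pow_left hm 2))
        _ = 2 * (2 ^ b) ^ 2 * ((∏ i ∈ Icc 2 (b + 1), (2 ^ i + 1)) ^ 2 * 2 ^ 6) * (Q - 1) ^ 2 := by ring
        _ ≤ 2 * (2 ^ b) ^ 2 * 2 ^ ((b + 1 + 1) * (b + 1 + 2)) * Q ^ 2 :=
            Nat.mul_le_mul (Nat.mul_le_mul_left _ hle) (Nat.pow_le_pow_left (Nat.sub_le _ _) 2)
        _ = 2 ^ ((b + 1) * (b + 1) + 5 * (b + 1) + 1) * Q ^ 2 := by
            rw [← pow_mul, ← pow_succ', ← pow_add]
            congr 2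
            ring
    have h10 : 2 * b + 2 ≤ 2 ^ b := by
      clear h9 hle hQge h8 h7 hodd hPpos hm h1 h2 h4 h5 ha
      induction b, hb using Nat.le_induction with
      | base => norm_num
      | succ b hb ih => rw [pow_succ]; omega
    have h11 : Q ^ (2 ^ b - 2) * 2 ^ 6 ≤ 2 ^ ((b + 1) * (b + 1) + 5 * (b + 1) + 1) := by
      have h12 : Q ^ (2 ^ b) = Q ^ (2 ^ b - 2) * Q ^ 2 := by
        rw [← pow_add]
        congr 1
        omega
      rw [h12, mul_right_comm] at h9
      exact Nat.le_of_mul_le_mul_right h9 (by positivity)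
    have h12 : (2 ^ (b + 3)) ^ (2 ^ b - 2) ≤ Q ^ (2 ^ b - 2) := Nat.pow_le_pow_left hQge _
    have h13 := (Nat.mul_le_mul_right (2 ^ 6) h12).trans h11
    rw [← pow_mul, ← pow_add] at h13
    have h14 := (Nat.pow_le_pow_iff_right (by norm_num : 1 < 2)).1 h13
    have h15 : (b + 3) * (2 * b) ≤ (b + 3) * (2 ^ b - 2) := Nat.mul_le_mul_left _ (by omega)
    nlinarith only [hb, h14, h15]

end Cfsg.Agent.H183.HT
end

-- part: H662/HT/Sym
section
set_option linter.all false
open scoped Cfsg.Agent.FastGrp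

/-!
# Normal subgroups of symplectic type of half-transitive linear groups: definitions (S3540, S3577; helper662)

`Sym s a N V`: `N` is a finite group acting on the finite abelian group `V`, with cyclic centre acting
semiregularly on the non-zero vectors, `N / Z(N)` elementary abelian of order `s ^ (2 a)`.
`Full s N`: every coset of the centre contains an element `x` with `x ^ s = 1`.
`fixp V S`: the fixed points of the subgroup `S`.
`sol s S`: the elements `n` of the centraliser of `S` with `n ^ s = 1`.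
-/

set_option autoImplicit false

open scoped commutatorElement

namespace Cfsg.Agent.H662.HT

universe u v

/-- A group of symplectic type acting on `V`. -/
structure Sym (s a : ℕ) (N : Type u) (V : Type v) [Group N] [AddCommGroup V] [DistribMulAction N V] : Prop where
  fin : Finite N
  finV : Finite V
  hs : s.Prime
  ha : 1 ≤ a
  nt : Nontrivial V
  cop : ¬ s ∣ Nat.card V
  cyc : IsCyclic (Subgroup.center N)
  semi : ∀ x ∈ Subgroup.center N, x ≠ 1 → ∀ v : V, x • v = v → v = 0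
  comm : ∀ x y : N, ⁅x, y⁆ ∈ Subgroup.center N
  exp : ∀ x : N, x ^ s ∈ Subgroup.center N
  card : Nat.card N = Nat.card (Subgroup.center N) * s ^ (2 * a)

/-- every coset of the centre contains an element of order dividing `s` -/
def Full (s : ℕ) (N : Type u) [Group N] : Prop :=
  ∀ x : N, ∃ c ∈ Subgroup.center N, (x * c) ^ s = 1

/-- the vectors fixed by `S` -/
def fixp {N : Type u} (V : Type v) [Group N] [AddCommGroup V] [DistribMulAction N V] (S : Subgroup N) :
    AddSubgroup V where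
  carrier := {v | ∀ g ∈ S, g • v = v}
  zero_mem' := fun g _ => smul_zero g
  add_mem' := fun {v w} hv hw g hg => by rw [smul_add, hv g hg, hw g hg]
  neg_mem' := fun {v} hv g hg => by rw [smul_neg, hv g hg]

theorem mem_fixp {N : Type u} {V : Type v} [Group N] [AddCommGroup V] [DistribMulAction N V] {S : Subgroup N} {v : V} :
    v ∈ fixp V S ↔ ∀ g ∈ S, g • v = v := Iff.rfl

/-- the elements `n` of the centraliser of `S` with `n ^ s = 1` -/
def sol (s : ℕ) {N : Type u} [Group N] (S : Subgroup N) : Set N :=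
  {n | n ∈ Subgroup.centralizer (S : Set N) ∧ n ^ s = 1}

/-- the special vectors: the stabiliser has order `s ^ r` -/
def spec (s r : ℕ) (N : Type u) (V : Type v) [Group N] [AddCommGroup V] [DistribMulAction N V] : Set V :=
  {v | v ≠ 0 ∧ Nat.card (MulAction.stabilizer N v) = s ^ r}

section basic

variable {s a : ℕ} {N : Type u} {V : Type v} [Group N] [AddCommGroup V] [DistribMulAction N V]

/-- stabilisers of non-zero vectors meet the centre trivially -/
theorem Sym.stab_inf (H : Sym s a N V) {v : V} (hv : v ≠ 0) :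
    MulAction.stabilizer N v ⊓ Subgroup.center N = ⊥ := by
  rw [eq_bot_iff]
  rintro x ⟨hx, hc⟩
  by_contra h
  exact hv (H.semi x hc h v hx)

/-- a subgroup meeting the centre trivially is commutative -/
theorem Sym.commS (H : Sym s a N V) {S : Subgroup N} (hS : S ⊓ Subgroup.center N = ⊥) {x y : N} (hx : x ∈ S)
    (hy : y ∈ S) : x * y = y * x := by
  have h0 : ⁅x, y⁆ ∈ S := by
    rw [commutatorElement_def]; exact S.mul_mem (S.mul_mem (S.mul_mem hx hy) (S.inv_mem hx)) (S.inv_mem hy)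
  have h1 : ⁅x, y⁆ ∈ S ⊓ Subgroup.center N := Subgroup.mem_inf.2 ⟨h0, H.comm x y⟩
  rw [hS, Subgroup.mem_bot] at h1
  exact commutatorElement_eq_one_iff_mul_comm.1 h1

/-- a subgroup meeting the centre trivially has exponent `s` -/
theorem Sym.expS (H : Sym s a N V) {S : Subgroup N} (hS : S ⊓ Subgroup.center N = ⊥) {x : N} (hx : x ∈ S) :
    x ^ s = 1 := by
  have h1 : x ^ s ∈ S ⊓ Subgroup.center N := Subgroup.mem_inf.2 ⟨S.pow_mem hx s, H.exp x⟩
  rwa [hS, Subgroup.mem_bot] at h1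

/-- the commutator of powers -/
theorem Sym.comm_pow (H : Sym s a N V) (x y : N) : ⁅x, y⁆ ^ s = 1 := by
  have key : ∀ n : ℕ, ⁅x ^ n, y⁆ = ⁅x, y⁆ ^ n := by
    intro n
    induction n with
    | zero => simp
    | succ n ih =>
      have h1 : ⁅x ^ n * x, y⁆ = x ^ n * ⁅x, y⁆ * (x ^ n)⁻¹ * ⁅x ^ n, y⁆ := by
        simp only [commutatorElement_def]; group
      have h2 := Subgroup.mem_center_iff.1 (H.comm x y) (x ^ n)
      rw [pow_succ, h1, h2, mul_inv_cancel_right, ih, ← pow_succ']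
  rw [← key]
  exact commutatorElement_eq_one_iff_mul_comm.2 (Subgroup.mem_center_iff.1 (H.exp x) y).symm

/-- commutators are multiplicative in the first variable -/
theorem Sym.comm_mul_left (H : Sym s a N V) (x y z : N) : ⁅x * y, z⁆ = ⁅x, z⁆ * ⁅y, z⁆ := by
  have h1 : ⁅x * y, z⁆ = x * ⁅y, z⁆ * x⁻¹ * ⁅x, z⁆ := by simp only [commutatorElement_def]; group
  rw [h1, Subgroup.mem_center_iff.1 (H.comm y z) x, mul_inv_cancel_right,
    Subgroup.mem_center_iff.1 (H.comm x z) ⁅y, z⁆]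

/-- commutators are multiplicative in the second variable -/
theorem Sym.comm_mul_right (H : Sym s a N V) (x y z : N) : ⁅x, y * z⁆ = ⁅x, y⁆ * ⁅x, z⁆ := by
  have h1 : ⁅x, y * z⁆ = ⁅x, y⁆ * (y * ⁅x, z⁆ * y⁻¹) := by simp only [commutatorElement_def]; group
  rw [h1, Subgroup.mem_center_iff.1 (H.comm x z) y, mul_inv_cancel_right]

/-- `N` acts faithfully -/
theorem Sym.faithful (H : Sym s a N V) {x : N} (hx : ∀ v : V, x • v = v) : x = 1 := by
  have := H.nt
  obtain ⟨v, hv⟩ := exists_ne (0 : V)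
  have hc : x ∈ Subgroup.center N := by
    refine Subgroup.mem_center_iff.2 fun y => ?_
    by_contra hne
    have h2 : ⁅x, y⁆ ≠ 1 := fun h => hne (commutatorElement_eq_one_iff_mul_comm.1 h).symm
    refine hv (H.semi _ (H.comm x y) h2 v ?_)
    rw [commutatorElement_def]
    simp only [mul_smul]
    have h3 : x⁻¹ • y⁻¹ • v = y⁻¹ • v := by
      rw [inv_smul_eq_iff, hx]
    rw [h3, smul_inv_smul, hx]
  by_contra hne
  exact hv (H.semi x hc hne v (hx v))

end basic

end Cfsg.Agent.H662.HT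
end

-- part: H662/HT/Glue
section
set_option linter.all false
open scoped Cfsg.Agent.FastGrp

/-!
# Symplectic type: invariance of the special vectors, transport (S3540, S3577; helper662)
-/

set_option autoImplicit false

open scoped commutatorElement

namespace Cfsg.Agent.H662.HT

open Cfsg.Agent.H828.HT

universe u

section

variable {p : ℕ} [Fact p.Prime] {V : Type u} [AddCommGroup V] [Module (ZMod p) V] [Finite V]

/-- the stabiliser of `g v` in a normalised subgroup -/
theorem card_stab_smul {N : Subgroup (V ≃ₗ[ZMod p] V)} {g : V ≃ₗ[ZMod p] V} (hg : ∀ x ∈ N, g * x * g⁻¹ ∈ N)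
    (hg' : ∀ x ∈ N, g⁻¹ * x * g ∈ N) (v : V) :
    Nat.card (MulAction.stabilizer N (g v)) = Nat.card (MulAction.stabilizer N v) := by
  refine Nat.card_congr ⟨fun x => ⟨⟨g⁻¹ * (x : N) * g, hg' _ (x : N).2⟩, ?_⟩,
    fun x => ⟨⟨g * (x : N) * g⁻¹, hg _ (x : N).2⟩, ?_⟩, ?_, ?_⟩
  · have h1 : ((x : N) : V ≃ₗ[ZMod p] V) (g v) = g v := x.2
    change g⁻¹ (((x : N) : V ≃ₗ[ZMod p] V) (g v)) = v
    rw [h1]
    exact g.symm_apply_apply v
  · have h1 : ((x : N) : V ≃ₗ[ZMod p] V) v = v := x.2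
    change g (((x : N) : V ≃ₗ[ZMod p] V) (g⁻¹ (g v))) = g v
    have h2 : g⁻¹ (g v) = v := g.symm_apply_apply v
    rw [h2, h1]
  · intro x
    apply Subtype.ext; apply Subtype.ext
    change g * (g⁻¹ * ((x : N) : V ≃ₗ[ZMod p] V) * g) * g⁻¹ = ((x : N) : V ≃ₗ[ZMod p] V)
    group
  · intro x
    apply Subtype.ext; apply Subtype.ext
    change g⁻¹ * (g * ((x : N) : V ≃ₗ[ZMod p] V) * g⁻¹) * g = ((x : N) : V ≃ₗ[ZMod p] V)
    group

/-- the set of special vectors is invariant -/
theorem spec_inv {G N : Subgroup (V ≃ₗ[ZMod p] V)} (hn : ∀ g ∈ G, ∀ x ∈ N, g * x * g⁻¹ ∈ N) {s r : ℕ} :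
    ∀ g ∈ G, ∀ v ∈ spec s r N V, g v ∈ spec s r N V := by
  rintro g hg v ⟨hv, hc⟩
  refine ⟨fun h => hv (by rw [← g.symm_apply_apply v, h, map_zero]), ?_⟩
  rw [card_stab_smul (hn g hg) (fun x hx => by
    have := hn g⁻¹ (G.inv_mem hg) x hx
    rwa [inv_inv] at this) v]
  exact hc

/-- `m` divides the number of special vectors -/
theorem dvd_spec {G N : Subgroup (V ≃ₗ[ZMod p] V)} (hn : ∀ g ∈ G, ∀ x ∈ N, g * x * g⁻¹ ∈ N) {h m : ℕ}
    (hh : Half G h) (h0 : 0 < h) (hm : m * h = Nat.card G) (s r : ℕ) : m ∣ Nat.card (spec s r N V) :=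
  dvd_invariant hh h0 hm _ (fun h => h.1 rfl) (spec_inv hn)

/-- the order of `N` divides `m` if there is a free vector -/
theorem dvd_of_free {G N : Subgroup (V ≃ₗ[ZMod p] V)} (hN : N ≤ G) (hn : ∀ g ∈ G, ∀ x ∈ N, g * x * g⁻¹ ∈ N) {h m : ℕ}
    (hh : Half G h) (h0 : 0 < h) (hm : m * h = Nat.card G)
    (hf : ∃ v : V, v ≠ 0 ∧ MulAction.stabilizer N v = ⊥) : Nat.card N ∣ m := by
  obtain ⟨v, hv, hs⟩ := hf
  refine card_normal_dvd_m hh h0 hm N hN hn hv fun n hnN hnv => ?_
  have h1 : (⟨n, hnN⟩ : N) ∈ MulAction.stabilizer N v := hnv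
  rw [hs, Subgroup.mem_bot] at h1
  exact congrArg Subtype.val h1

end

/-- transport of `Sym` along an isomorphism -/
theorem Sym.congr {s a : ℕ} {N N' : Type*} {V : Type*} [Group N] [Group N'] [AddCommGroup V] [DistribMulAction N V]
    [DistribMulAction N' V] (H : Sym s a N V) (e : N ≃* N') (he : ∀ (x : N) (v : V), e x • v = x • v) :
    Sym s a N' V := by
  have := H.fin
  have hc : ∀ x : N', x ∈ Subgroup.center N' ↔ e.symm x ∈ Subgroup.center N := by
    intro x
    simp only [Subgroup.mem_center_iff]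
    constructor
    · intro h y
      have := h (e y)
      apply e.injective
      rw [map_mul, map_mul, e.apply_symm_apply, this]
    · intro h y
      have := h (e.symm y)
      apply e.symm.injective
      rw [map_mul, map_mul, this]
  have ec : Subgroup.center N ≃* Subgroup.center N' := Subgroup.centerCongr e
  refine ⟨Finite.of_equiv N e.toEquiv, H.finV, H.hs, H.ha, H.nt, H.cop, ?_, ?_, ?_, ?_, ?_⟩
  · have := H.cyc
    exact isCyclic_of_surjective ec ec.surjective
  · intro x hx hne v hv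
    refine H.semi (e.symm x) ((hc x).1 hx) (fun h => hne ?_) v ?_
    · rw [← e.apply_symm_apply x, h, map_one]
    · rw [← he, e.apply_symm_apply, hv]
  · intro x y
    rw [hc, map_commutatorElement]
    exact H.comm _ _
  · intro x
    rw [hc, map_pow]
    exact H.exp _
  · rw [← Nat.card_congr e.toEquiv, H.card, Nat.card_congr ec.toEquiv]

theorem Full.congr {s : ℕ} {N N' : Type*} [Group N] [Group N'] (H : Full s N) (e : N ≃* N') : Full s N' := by
  intro x
  obtain ⟨c, hc, h⟩ := H (e.symm x)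
  refine ⟨e c, ?_, ?_⟩
  · rw [Subgroup.mem_center_iff] at hc ⊢
    intro y
    apply e.symm.injective
    rw [map_mul, map_mul, e.symm_apply_apply, hc]
  · apply e.symm.injective
    rw [map_pow, map_mul, e.symm_apply_apply, h, map_one]

end Cfsg.Agent.H662.HT
end

-- part: H662/HT/Frame
section
set_option linter.all false

/-!
# Frames of five anticommuting involutions: definitions (S3540, S3577; helper662)
-/

set_option autoImplicit false

open scoped commutatorElement

namespace Cfsg.Agent.H662.HT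

open Cfsg.Agent.H828.HT

universe u v

section frame

variable {p : ℕ} [Fact p.Prime] {M : Type u} [AddCommGroup M] [Module (ZMod p) M]

/-- five pairwise anticommuting involutions with scalar product `± 1` -/
structure Frame5 (t : Fin 5 → (M ≃ₗ[ZMod p] M)) : Prop where
  sq : ∀ k, t k * t k = 1
  anti : ∀ j k, j ≠ k → ∀ v : M, (t j * t k) v = -(t k * t j) v
  prod : (∀ v : M, (t 0 * t 1 * t 2 * t 3 * t 4) v = v) ∨ (∀ v : M, (t 0 * t 1 * t 2 * t 3 * t 4) v = -v)

/-- `P` permutes the `± t k` -/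
def Norm5 (t : Fin 5 → (M ≃ₗ[ZMod p] M)) (P : Subgroup (M ≃ₗ[ZMod p] M)) : Prop :=
  ∀ g ∈ P, ∀ k, ∃ j, (∀ v : M, g (t k v) = t j (g v)) ∨ (∀ v : M, g (t k v) = -(t j (g v)))

/-- the noncentral involutions of `P` -/
def Inv (P : Subgroup (M ≃ₗ[ZMod p] M)) : Set (M ≃ₗ[ZMod p] M) :=
  {y | y ∈ P ∧ y * y = 1 ∧ y ≠ 1 ∧ ∃ v : M, y v ≠ -v}

/-- every normal subgroup of `G` acts faithfully on every non-zero invariant subspace -/
def QPr (G : Subgroup (M ≃ₗ[ZMod p] M)) : Prop :=
  ∀ L : Subgroup G, L.Normal → ∀ W : Submodule (ZMod p) M, W ≠ ⊥ → (∀ x ∈ L, ∀ w ∈ W, x • w ∈ W) →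
    ∀ x ∈ L, (∀ w ∈ W, x • w = w) → x = 1

end frame

section beta

variable {V : Type u} [AddCommGroup V] [Fact (Nat.Prime 17)] [Module (ZMod 17) V]

/-- `G` normalises the pair `{t, -t}` -/
def Lst (G : Subgroup (V ≃ₗ[ZMod 17] V)) (t : V ≃ₗ[ZMod 17] V) : Set (V ≃ₗ[ZMod 17] V) :=
  {g | g ∈ G ∧ ((∀ v, g (t v) = t (g v)) ∨ (∀ v, g (t v) = -(t (g v))))}

/-- the elements of `Lst G t` acting trivially on `C_N(t) / <t> Z(N)` -/
def Kst (G N : Subgroup (V ≃ₗ[ZMod 17] V)) (t : V ≃ₗ[ZMod 17] V) : Set (V ≃ₗ[ZMod 17] V) :=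
  {g | g ∈ Lst G t ∧ ∀ x ∈ N, (∀ v, x (t v) = t (x v)) → ∃ c : ZMod 17, (∀ v, (g * x * g⁻¹) v = c • x v) ∨
    (∀ v, (g * x * g⁻¹) v = c • x (t v))}

/-- the elements of `G` fixing `C_V(t)` pointwise -/
def Rst (G : Subgroup (V ≃ₗ[ZMod 17] V)) (t : V ≃ₗ[ZMod 17] V) : Set (V ≃ₗ[ZMod 17] V) :=
  {g | g ∈ G ∧ ∀ v, t v = v → g v = v}

end beta

end Cfsg.Agent.H662.HT
end

-- part: H662/HT/Restr
section
prune_inst 0x400000
set_option linter.all false
open scoped Cfsg.Agent.FastGrp

-- part: H845/HT/Small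
section
/-!
# S3540, S3577 (HT-E, task B2): a module of order `p ^ 4` for five anticommuting involutions (helper845)

`exists_small_of`: five pairwise anticommuting involutions of a non-zero vector space over `ZMod p`, `p` odd, with product
`± 1`, leave invariant a subspace of order `p ^ 4`.
-/

set_option autoImplicit false

namespace Cfsg.Agent.H845.HT

universe u

/-- `a ^ 2 + b ^ 2 = -1` with `b ≠ 0` -/
theorem exists_sq {p : ℕ} [hp : Fact p.Prime] : ∃ a b : ZMod p, a * a + b * b = -1 ∧ b ≠ 0 := by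
  obtain ⟨a, b, h⟩ := ZMod.sq_add_sq p (-1)
  rw [pow_two, pow_two] at h
  by_cases hb : b = 0
  · refine ⟨b, a, by rw [add_comm, h], ?_⟩
    rintro rfl
    rw [hb] at h
    norm_num at h
  · exact ⟨a, b, h, hb⟩

variable {p : ℕ} [Fact p.Prime] {V : Type u} [AddCommGroup V] [Module (ZMod p) V]

theorem two_ne (hp : 3 ≤ p) : (2 : ZMod p) ≠ 0 := by
  have h : ((2 : ℕ) : ZMod p) ≠ 0 := by
    rw [Ne, ZMod.natCast_eq_zero_iff]
    intro h
    have := Nat.le_of_dvd (by norm_num) h
    omega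
  exact_mod_cast h

theorem zero_of_neg (hp : 3 ≤ p) {v : V} (h : v = -v) : v = 0 := by
  have h1 : (2 : ZMod p) • v = 0 := by
    rw [two_smul]
    nth_rewrite 1 [h]
    exact neg_add_cancel v
  exact (smul_eq_zero.1 h1).resolve_left (two_ne hp)

/-- **B2** -/
theorem exists_small_of (hp : 3 ≤ p) [Finite V] [Nontrivial V]
    {t : Fin 5 → (V ≃ₗ[ZMod p] V)} (hsq : ∀ k, t k * t k = 1)
    (hanti : ∀ j k, j ≠ k → ∀ v : V, (t j * t k) v = -(t k * t j) v)
    (hprod : (∀ v : V, (t 0 * t 1 * t 2 * t 3 * t 4) v = v) ∨ (∀ v : V, (t 0 * t 1 * t 2 * t 3 * t 4) v = -v)) :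
    ∃ W : Submodule (ZMod p) V, Nat.card W = p ^ 4 ∧ ∀ k, ∀ w ∈ W, t k w ∈ W := by
  have hs : ∀ k v, t k (t k v) = v := fun k v => by
    have := congrArg (fun f : V ≃ₗ[ZMod p] V => f v) (hsq k)
    exact this
  have ha : ∀ j k, j ≠ k → ∀ v : V, t j (t k v) = -t k (t j v) := hanti
  have h01 := ha 0 1 (by decide)
  have h02 := ha 0 2 (by decide)
  have h03 := ha 0 3 (by decide)
  have h21 := ha 2 1 (by decide)
  have h31 := ha 3 1 (by decide)
  have h32 := ha 3 2 (by decide)
  -- a fixed vector of `t 0`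
  obtain ⟨c, hc0, hc⟩ : ∃ c : V, c ≠ 0 ∧ t 0 c = c := by
    obtain ⟨v, hv⟩ := exists_ne (0 : V)
    by_cases h1 : v + t 0 v = 0
    · refine ⟨t 1 v, fun h => hv ?_, ?_⟩
      · rw [← hs 1 v, h, map_zero]
      · have h2 : t 0 v = -v := eq_neg_of_add_eq_zero_right h1
        rw [h01, h2, map_neg, neg_neg]
    · refine ⟨v + t 0 v, h1, ?_⟩
      rw [map_add, hs, add_comm]
  -- the element `x = a j + b k`
  obtain ⟨a, b, hab, hb⟩ := exists_sq (p := p)
  let j : V →ₗ[ZMod p] V := (t 1 : V →ₗ[ZMod p] V) ∘ₗ (t 2 : V →ₗ[ZMod p] V)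
  let k : V →ₗ[ZMod p] V := (t 1 : V →ₗ[ZMod p] V) ∘ₗ (t 3 : V →ₗ[ZMod p] V)
  have hj : ∀ v, j v = t 1 (t 2 v) := fun v => rfl
  have hk : ∀ v, k v = t 1 (t 3 v) := fun v => rfl
  have hjj : ∀ v, j (j v) = -v := fun v => by
    rw [hj, hj, h21, map_neg, hs, hs]
  have hkk : ∀ v, k (k v) = -v := fun v => by
    rw [hk, hk, h31, map_neg, hs, hs]
  have hjk : ∀ v, j (k v) = -k (j v) := fun v => by
    rw [hj, hk, hk, hj, h21, h31, map_neg, map_neg, hs, hs, h32, neg_neg]
  have hj0 : ∀ v, t 0 (j v) = j (t 0 v) := fun v => by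
    rw [hj, hj, h01, h02, map_neg, neg_neg]
  have hk0 : ∀ v, t 0 (k v) = k (t 0 v) := fun v => by
    rw [hk, hk, h01, h03, map_neg, neg_neg]
  have hxx : ∀ v, a • j (a • j v + b • k v) + b • k (a • j v + b • k v) = v := fun v => by
    rw [map_add, map_add, map_smul, map_smul, map_smul, map_smul, hjj, hkk, hjk]
    have : v = (-(a * a + b * b)) • v := by rw [hab, neg_neg, one_smul]
    nth_rewrite 5 [this]
    module
  obtain ⟨w, hw0, hw, hx⟩ : ∃ w : V, w ≠ 0 ∧ t 0 w = w ∧ a • j w + b • k w = w := by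
    by_cases h1 : c + (a • j c + b • k c) = 0
    · -- then `j k c` is fixed
      refine ⟨j (k c), fun h => hc0 ?_, ?_, ?_⟩
      · have h2 : k c = 0 := by
          have h3 := hjj (k c)
          rw [h, map_zero] at h3
          exact neg_eq_zero.1 h3.symm
        have h3 := hkk c
        rw [h2, map_zero] at h3
        exact neg_eq_zero.1 h3.symm
      · rw [hj0, hk0, hc]
      · have h2 : a • j c + b • k c = -c := by rw [← sub_eq_zero]; rw [sub_neg_eq_add, add_comm]; exact h1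
        have h3 : a • j (j (k c)) + b • k (j (k c)) = -(j (k (a • j c + b • k c))) := by
          rw [map_add, map_add, map_smul, map_smul, map_smul, map_smul]
          have e0 : k (j c) = -(j (k c)) := by rw [hjk, neg_neg]
          have e1 : j (k (j c)) = -(j (j (k c))) := by
            rw [e0, map_neg]
          have e2 : j (k (k c)) = -(k (j (k c))) := by
            rw [hjk (k c)]
          rw [e1, e2]
          module
        rw [h3, h2, map_neg, map_neg, neg_neg]
    · refine ⟨_, h1, ?_, ?_⟩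
      · rw [map_add, map_add, map_smul, map_smul, hj0, hk0, hc]
      · have h2 := hxx c
        generalize hy : a • j c + b • k c = y at h2 h1 ⊢
        have h3 : a • j (c + y) + b • k (c + y) = (a • j c + b • k c) + (a • j y + b • k y) := by
          rw [map_add, map_add]
          module
        rw [h3, h2, hy, add_comm]
  -- `k w`
  have hkw : k w = b⁻¹ • (w - a • j w) := by
    rw [eq_comm, inv_smul_eq_iff₀ hb, sub_eq_iff_eq_add, add_comm]
    exact hx.symm
  -- independence of `w`, `j w`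
  have ind2 : ∀ c d : ZMod p, c • w + d • j w = 0 → c = 0 ∧ d = 0 := by
    intro c d h
    by_cases hd : d = 0
    · rw [hd, zero_smul, add_zero] at h
      exact ⟨(smul_eq_zero.1 h).resolve_right hw0, hd⟩
    · exfalso
      -- `j w = e w`
      obtain ⟨e, he⟩ : ∃ e : ZMod p, j w = e • w := by
        refine ⟨-(d⁻¹ * c), ?_⟩
        have h1 : d • j w = -(c • w) := eq_neg_of_add_eq_zero_right h
        rw [neg_smul, mul_smul, ← smul_neg, ← h1, inv_smul_smul₀ hd]
      obtain ⟨f, hf⟩ : ∃ f : ZMod p, k w = f • w := by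
        refine ⟨b⁻¹ * (1 - a * e), ?_⟩
        rw [hkw, he]
        module
      have h1 := hjk w
      rw [hf, map_smul, he, map_smul, hf, smul_smul, smul_smul, mul_comm e f] at h1
      have h2 := zero_of_neg hp h1
      have h3 := (smul_eq_zero.1 h2).resolve_right hw0
      rcases mul_eq_zero.1 h3 with h4 | h4
      · rw [h4, zero_smul] at hf
        have h5 := hkk w
        rw [hf, map_zero] at h5
        exact hw0 (neg_eq_zero.1 h5.symm)
      · rw [h4, zero_smul] at he
        have h5 := hjj w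
        rw [he, map_zero] at h5
        exact hw0 (neg_eq_zero.1 h5.symm)
  -- the four vectors
  have t0jw : t 0 (j w) = j w := by rw [hj0, hw]
  have ind4 : LinearIndependent (ZMod p) ![w, j w, t 1 w, t 1 (j w)] := by
    rw [Fintype.linearIndependent_iff]
    intro g hg
    rw [Fin.sum_univ_four] at hg
    have hg' : g 0 • w + g 1 • j w + g 2 • t 1 w + g 3 • t 1 (j w) = 0 := hg
    have h1 := congrArg (t 0) hg'
    rw [map_zero, map_add, map_add, map_add, map_smul, map_smul, map_smul, map_smul, h01, h01, t0jw, hw] at h1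
    have h2 : (g 0 • w + g 1 • j w) = 0 := by
      apply zero_of_neg hp
      have h3 := congrArg₂ (· + ·) hg' h1
      simp only [add_zero] at h3
      rw [eq_neg_iff_add_eq_zero, ← h3]
      module
    have h4 : t 1 (g 2 • w + g 3 • j w) = 0 := by
      rw [map_add, map_smul, map_smul, ← hg']
      rw [h2]
      abel
    have h5 : g 2 • w + g 3 • j w = 0 := by rw [← hs 1 (g 2 • w + g 3 • j w), h4, map_zero]
    obtain ⟨e0, e1⟩ := ind2 _ _ h2
    obtain ⟨e2, e3⟩ := ind2 _ _ h5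
    intro i
    fin_cases i
    · exact e0
    · exact e1
    · exact e2
    · exact e3
  let W : Submodule (ZMod p) V := Submodule.span (ZMod p) (Set.range ![w, j w, t 1 w, t 1 (j w)])
  have hfin : Module.Finite (ZMod p) V := Module.Finite.of_finite
  have hcard : Nat.card W = p ^ 4 := by
    rw [Module.natCard_eq_pow_finrank (K := ZMod p), Nat.card_zmod, finrank_span_eq_card ind4, Fintype.card_fin]
  have m0 : w ∈ W := Submodule.subset_span ⟨0, rfl⟩
  have m1 : j w ∈ W := Submodule.subset_span ⟨1, rfl⟩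
  have m2 : t 1 w ∈ W := Submodule.subset_span ⟨2, rfl⟩
  have m3 : t 1 (j w) ∈ W := Submodule.subset_span ⟨3, rfl⟩
  have m4 : k w ∈ W := by
    rw [hkw]
    exact W.smul_mem _ (W.sub_mem m0 (W.smul_mem _ m1))
  have m5 : k (j w) ∈ W := by
    have h1 : k (j w) = -j (k w) := by rw [hjk, neg_neg]
    rw [h1, hkw, map_smul, map_sub, map_smul, hjj]
    exact W.neg_mem (W.smul_mem _ (W.sub_mem m1 (W.smul_mem _ (W.neg_mem m0))))
  have m6 : t 1 (k w) ∈ W := by
    rw [hkw, map_smul, map_sub, map_smul]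
    exact W.smul_mem _ (W.sub_mem m2 (W.smul_mem _ m3))
  have m7 : t 1 (k (j w)) ∈ W := by
    have h1 : k (j w) = -j (k w) := by rw [hjk, neg_neg]
    rw [h1, hkw, map_smul, map_sub, map_smul, hjj, map_neg, map_smul, map_sub, map_smul, map_neg]
    exact W.neg_mem (W.smul_mem _ (W.sub_mem m3 (W.smul_mem _ (W.neg_mem m2))))
  have key : ∀ f : V ≃ₗ[ZMod p] V, f w ∈ W → f (j w) ∈ W → f (t 1 w) ∈ W → f (t 1 (j w)) ∈ W →
      ∀ v ∈ W, f v ∈ W := by
    intro f f0 f1 f2 f3 v hv
    have h1 : W ≤ W.comap (f : V →ₗ[ZMod p] V) := by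
      refine Submodule.span_le.2 ?_
      rintro _ ⟨i, rfl⟩
      fin_cases i
      · exact f0
      · exact f1
      · exact f2
      · exact f3
    exact h1 hv
  have k0 : ∀ v ∈ W, t 0 v ∈ W := by
    refine key _ (by rw [hw]; exact m0) (by rw [t0jw]; exact m1) ?_ ?_
    · rw [h01, hw]; exact W.neg_mem m2
    · rw [h01, t0jw]; exact W.neg_mem m3
  have k1 : ∀ v ∈ W, t 1 v ∈ W :=
    key _ m2 m3 (by rw [hs]; exact m0) (by rw [hs]; exact m1)
  have e2 : ∀ v, t 2 v = t 1 (j v) := fun v => by rw [hj, hs]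
  have e2' : ∀ v, t 2 (t 1 v) = -j v := fun v => by rw [h21, hj]
  have e3 : ∀ v, t 3 v = t 1 (k v) := fun v => by rw [hk, hs]
  have e3' : ∀ v, t 3 (t 1 v) = -k v := fun v => by rw [h31, hk]
  have k2 : ∀ v ∈ W, t 2 v ∈ W := by
    refine key _ (by rw [e2]; exact m3) ?_ (by rw [e2']; exact W.neg_mem m1) ?_
    · rw [e2, hjj, map_neg]; exact W.neg_mem m2
    · rw [e2', hjj, neg_neg]; exact m0
  have k3 : ∀ v ∈ W, t 3 v ∈ W :=
    key _ (by rw [e3]; exact m6) (by rw [e3]; exact m7) (by rw [e3']; exact W.neg_mem m4)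
      (by rw [e3']; exact W.neg_mem m5)
  have e4 : ∀ v, t 4 v = t 3 (t 2 (t 1 (t 0 (t 0 (t 1 (t 2 (t 3 (t 4 v)))))))) := fun v => by
    rw [hs, hs, hs, hs]
  have k4 : ∀ v ∈ W, t 4 v ∈ W := by
    intro v hv
    rw [e4]
    refine k3 _ (k2 _ (k1 _ (k0 _ ?_)))
    rcases hprod with h | h
    · have h1 : t 0 (t 1 (t 2 (t 3 (t 4 v)))) = v := h v
      rw [h1]; exact hv
    · have h1 : t 0 (t 1 (t 2 (t 3 (t 4 v)))) = -v := h v
      rw [h1]; exact W.neg_mem hv
  refine ⟨W, hcard, fun i v hv => ?_⟩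
  fin_cases i
  · exact k0 v hv
  · exact k1 v hv
  · exact k2 v hv
  · exact k3 v hv
  · exact k4 v hv

end Cfsg.Agent.H845.HT
end

-- part: H662/HT/Restr
section
/-!
# Restriction of symplectic type groups and frames to invariant submodules (S3540, S3577; helper662)
-/

set_option autoImplicit false

open scoped commutatorElement

namespace Cfsg.Agent.H662.HT

open Cfsg.Agent.H828.HT

universe u

set_option linter.unusedSectionVars false

variable {p : ℕ} [Fact p.Prime] {V : Type u} [AddCommGroup V] [Module (ZMod p) V] [Finite V]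

/-- restriction of a symplectic type group to an invariant submodule -/
theorem Sym.restr {s a : ℕ} {N : Subgroup (V ≃ₗ[ZMod p] V)} (H : Sym s a N V) {W : Submodule (ZMod p) V} (hW : W ≠ ⊥)
    (hinv : ∀ x ∈ N, ∀ w ∈ W, x w ∈ W) :
    ∃ e : N ≃* rs N W, (∀ (x : N) (w : W), (((e x : rs N W) : W ≃ₗ[ZMod p] W) w : V) = (x : V ≃ₗ[ZMod p] V) w) ∧
      Sym s a (rs N W) W := by
  have hfin := H.fin
  have hiff : ∀ x ∈ N, ∀ v : V, v ∈ W ↔ x v ∈ W := by
    intro x hx v
    refine ⟨hinv x hx v, fun h => ?_⟩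
    have h1 := hinv x⁻¹ (N.inv_mem hx) _ h
    have h2 : x⁻¹ (x v) = v := x.symm_apply_apply v
    rwa [h2] at h1
  have hst : ∀ x : N, (x : V ≃ₗ[ZMod p] V) ∈ stb N W := fun x => ⟨x.2, hiff x x.2⟩
  obtain ⟨w₀, hw₀W, hw₀⟩ := Submodule.exists_mem_ne_zero_of_ne_bot hW
  let φ : N →* rs N W :=
    { toFun := fun x => ⟨res N W ⟨x, hst x⟩, ⟨_, rfl⟩⟩
      map_one' := Subtype.ext (LinearEquiv.ext fun _ => rfl)
      map_mul' := fun _ _ => Subtype.ext (LinearEquiv.ext fun _ => rfl) }
  have hφ : ∀ (x : N) (w : W), (((φ x : rs N W) : W ≃ₗ[ZMod p] W) w : V) = (x : V ≃ₗ[ZMod p] V) w := fun _ _ => rfl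
  -- elements trivial on `W` are trivial
  have hfaith : ∀ x : N, (∀ w ∈ W, (x : V ≃ₗ[ZMod p] V) w = w) → x = 1 := by
    intro x hx
    have hc : x ∈ Subgroup.center N := by
      refine Subgroup.mem_center_iff.2 fun y => ?_
      by_contra hne
      have h2 : ⁅x, y⁆ ≠ 1 := fun h => hne (commutatorElement_eq_one_iff_mul_comm.1 h).symm
      refine hw₀ (H.semi _ (H.comm x y) h2 w₀ ?_)
      rw [commutatorElement_def]
      simp only [mul_smul]
      have h5 : y⁻¹ • w₀ ∈ W := hinv _ (y⁻¹).2 _ hw₀W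
      have h3 : x⁻¹ • y⁻¹ • w₀ = y⁻¹ • w₀ := by
        rw [inv_smul_eq_iff]; exact (hx _ h5).symm
      rw [h3, smul_inv_smul]
      exact hx _ hw₀W
    by_contra hne
    exact hw₀ (H.semi x hc hne w₀ (hx w₀ hw₀W))
  have hinj : Function.Injective φ := by
    rw [injective_iff_map_eq_one]
    intro x hx
    refine hfaith x fun w hw => ?_
    rw [← hφ x ⟨w, hw⟩, hx]
    rfl
  have hsurj : Function.Surjective φ := by
    rintro ⟨_, ⟨⟨g, hg⟩, rfl⟩⟩
    exact ⟨⟨g, hg.1⟩, rfl⟩
  let e : N ≃* rs N W := MulEquiv.ofBijective φ ⟨hinj, hsurj⟩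
  let act : DistribMulAction N W :=
    { smul := fun x w => ⟨(x : V ≃ₗ[ZMod p] V) w, hinv x x.2 w w.2⟩
      one_smul := fun w => Subtype.ext rfl
      mul_smul := fun a b w => Subtype.ext rfl
      smul_zero := fun x => Subtype.ext (LinearEquiv.map_zero (x : V ≃ₗ[ZMod p] V))
      smul_add := fun x v w => Subtype.ext (LinearEquiv.map_add (x : V ≃ₗ[ZMod p] V) v w) }
  have hs : Sym s a N W := by
    refine ⟨H.fin, inferInstance, H.hs, H.ha, ⟨⟨w₀, hw₀W⟩, 0, fun h => hw₀ (congrArg Subtype.val h)⟩, ?_, H.cyc, ?_,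
      H.comm, H.exp, H.card⟩
    · intro hd
      apply H.cop
      exact hd.trans ⟨_, Submodule.card_eq_card_quotient_mul_card W⟩
    · intro x hx hne v hv
      exact Subtype.ext (H.semi x hx hne v (congrArg Subtype.val hv))
  exact ⟨e, hφ, hs.congr e fun x w => Subtype.ext rfl⟩

section frame

variable {t : Fin 5 → (V ≃ₗ[ZMod p] V)}

theorem inv_of_sq {g : V ≃ₗ[ZMod p] V} (hg : g * g = 1) {W : Submodule (ZMod p) V} (hinv : ∀ w ∈ W, g w ∈ W) :
    ∀ v, v ∈ W ↔ g v ∈ W := by
  intro v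
  refine ⟨hinv v, fun h => ?_⟩
  have h1 := hinv _ h
  have h2 : g (g v) = v := congrArg (fun f : V ≃ₗ[ZMod p] V => f v) hg
  rwa [h2] at h1

/-- the restricted frame -/
def rfr (t : Fin 5 → (V ≃ₗ[ZMod p] V)) (W : Submodule (ZMod p) V) (h : ∀ k, ∀ v, v ∈ W ↔ t k v ∈ W) :
    Fin 5 → (W ≃ₗ[ZMod p] W) := fun k => resEquiv W (t k) (h k)

theorem Frame5.restr (ht : Frame5 t) {W : Submodule (ZMod p) V} (h : ∀ k, ∀ v, v ∈ W ↔ t k v ∈ W) :
    Frame5 (rfr t W h) := by
  refine ⟨fun k => ?_, fun j k hjk v => ?_, ?_⟩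
  · apply LinearEquiv.ext
    intro w
    apply Subtype.ext
    exact congrArg (fun f : V ≃ₗ[ZMod p] V => f w) (ht.sq k)
  · apply Subtype.ext
    exact ht.anti j k hjk v
  · rcases ht.prod with h1 | h1
    · left; intro v; apply Subtype.ext; exact h1 v
    · right; intro v; apply Subtype.ext; exact h1 v

/-- invariant submodules have order at least `p ^ 4` -/
theorem Frame5.card_ge (hp : 3 ≤ p) (ht : Frame5 t) {W : Submodule (ZMod p) V} (h : ∀ k, ∀ v, v ∈ W ↔ t k v ∈ W)
    (hW : W ≠ ⊥) : p ^ 4 ≤ Nat.card W := by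
  have : Nontrivial W := (Submodule.nontrivial_iff_ne_bot).2 hW
  have h1 := ht.restr h
  obtain ⟨U, hU, -⟩ := Cfsg.Agent.H845.HT.exists_small_of hp h1.sq h1.anti h1.prod
  rw [← hU]
  exact Nat.card_le_card_of_injective (fun u : U => (u : W)) Subtype.val_injective

/-- a frame has vectors fixed by `t k` -/
theorem Frame5.exists_fix (hp : 3 ≤ p) (ht : Frame5 t) [Nontrivial V] (k : Fin 5) : ∃ v : V, v ≠ 0 ∧ t k v = v := by
  by_contra hcon
  push Not at hcon
  have h1 : ∀ v : V, t k v = -v := by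
    intro v
    by_contra hne
    refine hcon (v + t k v) (fun h => hne (eq_neg_of_add_eq_zero_right h)) ?_
    have h2 : t k (t k v) = v := congrArg (fun f : V ≃ₗ[ZMod p] V => f v) (ht.sq k)
    rw [map_add, h2, add_comm]
  obtain ⟨v, hv⟩ := exists_ne (0 : V)
  obtain ⟨j, hj⟩ : ∃ j : Fin 5, j ≠ k := exists_ne k
  have h3 := ht.anti j k hj v
  change t j (t k v) = -(t k (t j v)) at h3
  rw [h1, h1, map_neg, neg_neg] at h3
  -- `2 t_j v = 0`
  have h4 : (2 : ZMod p) • (t j v) = 0 := by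
    have h5 : t j v + t j v = 0 := by
      nth_rewrite 1 [← h3]
      exact neg_add_cancel _
    rw [two_smul, h5]
  have h5 : (2 : ZMod p) ≠ 0 := by
    have : ((2 : ℕ) : ZMod p) ≠ 0 := by
      rw [Ne, ZMod.natCast_eq_zero_iff]
      intro hd
      have := Nat.le_of_dvd (by norm_num) hd
      omega
    exact_mod_cast this
  rcases smul_eq_zero.1 h4 with h6 | h6
  · exact h5 h6
  · exact hv (by rw [← (t j).symm_apply_apply v, h6, map_zero])

end frame

section cover

/-- every vector is fixed by an involution -/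
theorem cover_inv (hp : 3 ≤ p) {P : Subgroup (V ≃ₗ[ZMod p] V)} {h : ℕ} (hh : Half P h) (heven : 2 ∣ h) {F B : ℕ}
    (hF : ∀ y ∈ Inv P, Nat.card (fx y) ≤ F) (hB : Nat.card (Inv P) ≤ B) : Nat.card V - 1 ≤ B * (F - 1) := by
  classical
  have hfi : Finite (Inv P) := Subtype.finite
  have : Fintype (Inv P) := Fintype.ofFinite _
  have hft : Fintype V := Fintype.ofFinite V
  let T : Finset (V ≃ₗ[ZMod p] V) := (Inv P).toFinset
  have hsub : (Finset.univ.erase (0 : V)) ⊆ T.biUnion (fun y => (Finset.univ.filter fun v : V => y v = v).erase 0) := by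
    intro v hv
    have hv0 : v ≠ 0 := Finset.ne_of_mem_erase hv
    have hst : 2 ∣ Nat.card (MulAction.stabilizer P v) := by rw [hh v hv0]; exact heven
    have : Fact (Nat.Prime 2) := ⟨Nat.prime_two⟩
    obtain ⟨y, hy⟩ := exists_prime_orderOf_dvd_card' 2 hst
    have hy2 : y * y = 1 := by
      have := pow_orderOf_eq_one y
      rwa [hy, sq] at this
    have hy1 : y ≠ 1 := by
      rintro rfl
      rw [orderOf_one] at hy
      omega
    have hyv : ((y : P) : V ≃ₗ[ZMod p] V) v = v := y.2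
    rw [Finset.mem_biUnion]
    refine ⟨((y : P) : V ≃ₗ[ZMod p] V), ?_, ?_⟩
    · rw [Set.mem_toFinset]
      refine ⟨(y : P).2, ?_, ?_, v, ?_⟩
      · exact congrArg (fun z : MulAction.stabilizer P v => ((z : P) : V ≃ₗ[ZMod p] V)) hy2
      · intro h1
        exact hy1 (Subtype.ext (Subtype.ext h1))
      · rw [hyv]
        intro h1
        have h4 : (2 : ZMod p) • v = 0 := by
          rw [two_smul]
          nth_rewrite 1 [h1]
          exact neg_add_cancel _
        have h5 : (2 : ZMod p) ≠ 0 := by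
          have : ((2 : ℕ) : ZMod p) ≠ 0 := by
            rw [Ne, ZMod.natCast_eq_zero_iff]
            intro hd
            have := Nat.le_of_dvd (by norm_num) hd
            omega
          exact_mod_cast this
        rcases smul_eq_zero.1 h4 with h6 | h6
        · exact h5 h6
        · exact hv0 h6
    · rw [Finset.mem_erase, Finset.mem_filter]
      exact ⟨hv0, Finset.mem_univ _, hyv⟩
  have h1 := (Finset.card_le_card hsub).trans Finset.card_biUnion_le
  have h2 : (Finset.univ.erase (0 : V)).card = Nat.card V - 1 := by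
    rw [Finset.card_erase_of_mem (Finset.mem_univ _), Finset.card_univ, Nat.card_eq_fintype_card]
  have h3 : ∑ y ∈ T, ((Finset.univ.filter fun v : V => y v = v).erase 0).card ≤ ∑ _y ∈ T, (F - 1) := by
    refine Finset.sum_le_sum fun y hy => ?_
    have hyI : y ∈ Inv P := Set.mem_toFinset.1 hy
    rw [Finset.card_erase_of_mem (by rw [Finset.mem_filter]; exact ⟨Finset.mem_univ _, map_zero y⟩)]
    have h4 : (Finset.univ.filter fun v : V => y v = v).card = Nat.card (fx y) := by
      rw [Nat.card_eq_fintype_card, Fintype.card_subtype]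
      congr 1
      ext v
      simp
    have := hF y hyI
    omega
  rw [Finset.sum_const, smul_eq_mul] at h3
  have h5 : T.card = Nat.card (Inv P) := by
    rw [Set.toFinset_card, Nat.card_eq_fintype_card]
  rw [h5] at h3
  rw [h2] at h1
  calc Nat.card V - 1 ≤ _ := h1
    _ ≤ Nat.card (Inv P) * (F - 1) := h3
    _ ≤ B * (F - 1) := Nat.mul_le_mul_right _ hB

end cover

end Cfsg.Agent.H662.HT
end
end

-- part: H528/HT/Frame
section
prune_inst 0x400000
set_option linter.all false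
open scoped Cfsg.Agent.FastGrp

/-!
# S3540, S3577 (TEAM HT-E), C1: frames of five anticommuting involutions in dimension four (helper528)

* `card_fx_anti` : `n` anticommutes with the involution `y`: `|C_M(y)| ^ 2 = |M|`;
* `scalar_of_comm` : the linear maps commuting with a frame are scalar.
-/

set_option autoImplicit false

namespace Cfsg.Agent.H528.HT

open Cfsg.Agent.H828.HT Cfsg.Agent.H662.HT

universe u

section anti

variable {p : ℕ} [Fact p.Prime] {M : Type u} [AddCommGroup M] [Module (ZMod p) M]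

theorem two_ne (hp : 3 ≤ p) : (2 : ZMod p) ≠ 0 := by
  intro h
  have h1 : ((2 : ℕ) : ZMod p) = 0 := by exact_mod_cast h
  rw [ZMod.natCast_eq_zero_iff] at h1
  have := Nat.le_of_dvd two_pos h1
  omega

theorem eq_of_add_self (hp : 3 ≤ p) {a b : M} (h : a + a = b + b) : a = b := by
  have h2 := two_ne hp
  rw [← two_smul (ZMod p), ← two_smul (ZMod p) b] at h
  exact smul_right_injective M h2 h

/-- `y ^ 2 = 1` on `F`, `n` invertible on `F` and anticommuting with `y` -/
structure Anti (F : Submodule (ZMod p) M) (y n m : M → M) : Prop where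
  yF : ∀ v ∈ F, y v ∈ F
  nF : ∀ v ∈ F, n v ∈ F
  mF : ∀ v ∈ F, m v ∈ F
  yy : ∀ v ∈ F, y (y v) = v
  ny : ∀ v ∈ F, n (y v) = -(y (n v))
  nm : ∀ v ∈ F, n (m v) = v
  mn : ∀ v ∈ F, m (n v) = v

/-- the decomposition -/
theorem Anti.exists_decomp (hp : 3 ≤ p) {F : Submodule (ZMod p) M} {y n m : M →ₗ[ZMod p] M} (h : Anti F y n m)
    {f : M} (hf : f ∈ F) : ∃ a ∈ F, ∃ b ∈ F, y a = a ∧ y b = b ∧ f = a + n b := by
  have h2 := two_ne hp
  set c : ZMod p := (2 : ZMod p)⁻¹ with hc
  have hcc : c + c = 1 := by rw [← two_mul, hc, mul_inv_cancel₀ h2]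
  set a := c • (f + y f) with ha
  set d := c • (f - y f) with hd
  have haF : a ∈ F := F.smul_mem _ (F.add_mem hf (h.yF f hf))
  have hdF : d ∈ F := F.smul_mem _ (F.sub_mem hf (h.yF f hf))
  have hya : y a = a := by
    rw [ha, map_smul, map_add, h.yy f hf, add_comm (y f) f]
  have hyd : y d = -d := by
    rw [hd, map_smul, map_sub, h.yy f hf, ← smul_neg, neg_sub]
  have hb := h.mF d hdF
  refine ⟨a, haF, m d, hb, hya, ?_, ?_⟩
  · have h1 := h.ny _ hb
    rw [h.nm d hdF, hyd, neg_neg] at h1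
    rw [← h.mn _ (h.yF _ hb), h1]
  · rw [h.nm d hdF, ha, hd, ← smul_add, add_add_sub_cancel, smul_add, ← add_smul, hcc, one_smul]

/-- the fixed points of `y` on `F` -/
def fixF (F : Submodule (ZMod p) M) (y : M →ₗ[ZMod p] M) : Submodule (ZMod p) M :=
  F ⊓ LinearMap.ker (y - LinearMap.id)

theorem mem_fixF {F : Submodule (ZMod p) M} {y : M →ₗ[ZMod p] M} {v : M} : v ∈ fixF F y ↔ v ∈ F ∧ y v = v := by
  rw [fixF, Submodule.mem_inf, LinearMap.mem_ker, LinearMap.sub_apply, LinearMap.id_apply, sub_eq_zero]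

/-- the cardinality -/
theorem Anti.card (hp : 3 ≤ p) {F : Submodule (ZMod p) M} {y n m : M →ₗ[ZMod p] M} (h : Anti F y n m) :
    Nat.card (fixF F y) ^ 2 = Nat.card F := by
  rw [pow_two, ← Nat.card_prod]
  refine Nat.card_congr (Equiv.ofBijective
    (fun e : fixF F y × fixF F y => (⟨(e.1 : M) + n (e.2 : M), F.add_mem (mem_fixF.1 e.1.2).1
      (h.nF _ (mem_fixF.1 e.2.2).1)⟩ : F)) ⟨?_, ?_⟩)
  · rintro ⟨⟨a, ha⟩, ⟨b, hb⟩⟩ ⟨⟨a', ha'⟩, ⟨b', hb'⟩⟩ he
    rw [mem_fixF] at ha hb ha' hb'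
    have h1 : a + n b = a' + n b' := congrArg Subtype.val he
    have h2 := congrArg y h1
    have h3 : ∀ c ∈ F, y c = c → y (n c) = -(n c) := by
      intro c hc hyc
      have h7 := h.ny c hc
      rw [hyc] at h7
      have h8 := congrArg Neg.neg h7
      rw [neg_neg] at h8
      exact h8.symm
    rw [map_add, map_add, ha.2, ha'.2, h3 b hb.1 hb.2, h3 b' hb'.1 hb'.2] at h2
    have h4 : a = a' := by
      apply eq_of_add_self hp
      have h5 : a + n b + (a + -(n b)) = a' + n b' + (a' + -(n b')) := by rw [h1, h2]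
      have e1 : ∀ x z : M, x + z + (x + -z) = x + x := fun x z => by abel
      rwa [e1, e1] at h5
    have h5 : n b = n b' := by
      rw [h4] at h1
      exact add_left_cancel h1
    have h6 : b = b' := by rw [← h.mn b hb.1, ← h.mn b' hb'.1, h5]
    subst h4 h6
    rfl
  · rintro ⟨f, hf⟩
    obtain ⟨a, ha, b, hb, hya, hyb, he⟩ := h.exists_decomp hp hf
    exact ⟨⟨⟨a, mem_fixF.2 ⟨ha, hya⟩⟩, ⟨b, mem_fixF.2 ⟨hb, hyb⟩⟩⟩, Subtype.ext he.symm⟩

/-- C1: `n` swaps the eigenspaces of `y` -/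
theorem card_fx_anti (hp : 3 ≤ p) {y n : M ≃ₗ[ZMod p] M} (hy : y * y = 1) (hn : ∀ v : M, n (y v) = -(y (n v))) :
    Nat.card (fx y) ^ 2 = Nat.card M := by
  have h : Anti (p := p) (⊤ : Submodule (ZMod p) M) (y : M →ₗ[ZMod p] M) (n : M →ₗ[ZMod p] M)
      (n.symm : M →ₗ[ZMod p] M) :=
    ⟨fun _ _ => trivial, fun _ _ => trivial, fun _ _ => trivial, fun v _ => congrArg (fun f : M ≃ₗ[ZMod p] M => f v) hy,
      fun v _ => hn v, fun v _ => n.apply_symm_apply v, fun v _ => n.symm_apply_apply v⟩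
  have h1 := h.card hp
  have h2 : fixF (⊤ : Submodule (ZMod p) M) (y : M →ₗ[ZMod p] M) = fx y := by
    ext v
    rw [mem_fixF, mem_fx]
    exact ⟨fun h => h.2, fun h => ⟨trivial, h⟩⟩
  rw [h2] at h1
  rw [h1]
  exact Nat.card_congr Submodule.topEquiv.toEquiv

end anti

section frame

variable {p : ℕ} [Fact p.Prime] {M : Type u} [AddCommGroup M] [Module (ZMod p) M]

/-- anticommuting, pointwise -/
theorem Frame5.anti' {t : Fin 5 → (M ≃ₗ[ZMod p] M)} (ht : Frame5 t) {j k : Fin 5} (h : j ≠ k) (v : M) :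
    t j (t k v) = -(t k (t j v)) := ht.anti j k h v

theorem Frame5.sq' {t : Fin 5 → (M ≃ₗ[ZMod p] M)} (ht : Frame5 t) (k : Fin 5) (v : M) : t k (t k v) = v :=
  congrArg (fun f : M ≃ₗ[ZMod p] M => f v) (ht.sq k)

/-- C1: the maps commuting with a frame are scalar -/
theorem scalar_of_comm [Finite M] (hp : 3 ≤ p) {t : Fin 5 → (M ≃ₗ[ZMod p] M)} (ht : Frame5 t)
    (hM : Nat.card M = p ^ 4) (x : M ≃ₗ[ZMod p] M) (hx : ∀ k, ∀ v : M, x (t k v) = t k (x v)) :
    ∃ c : ZMod p, ∀ v : M, x v = c • v := by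
  obtain ⟨a, b, hab⟩ := ZMod.sq_add_sq p (-1)
  have s := fun k v => Frame5.sq' ht k v
  have e10 := fun v => Frame5.anti' ht (show (1 : Fin 5) ≠ 0 by decide) v
  have e20 := fun v => Frame5.anti' ht (show (2 : Fin 5) ≠ 0 by decide) v
  have e30 := fun v => Frame5.anti' ht (show (3 : Fin 5) ≠ 0 by decide) v
  have e21 := fun v => Frame5.anti' ht (show (2 : Fin 5) ≠ 1 by decide) v
  have e31 := fun v => Frame5.anti' ht (show (3 : Fin 5) ≠ 1 by decide) v
  have e32 := fun v => Frame5.anti' ht (show (3 : Fin 5) ≠ 2 by decide) v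
  -- the first decomposition
  have hA : Anti (p := p) (⊤ : Submodule (ZMod p) M) (t 0 : M →ₗ[ZMod p] M) (t 1 : M →ₗ[ZMod p] M)
      (t 1 : M →ₗ[ZMod p] M) :=
    ⟨fun _ _ => trivial, fun _ _ => trivial, fun _ _ => trivial, fun v _ => s 0 v, fun v _ => e10 v,
      fun v _ => s 1 v, fun v _ => s 1 v⟩
  set F := fixF (⊤ : Submodule (ZMod p) M) (t 0 : M →ₗ[ZMod p] M) with hF
  have hmF : ∀ v, v ∈ F ↔ t 0 v = v := fun v => by
    rw [hF, mem_fixF]
    exact ⟨fun h => h.2, fun h => ⟨trivial, h⟩⟩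
  have hFc : Nat.card F = p ^ 2 := by
    have h1 := hA.card hp
    rw [Nat.card_congr (Submodule.topEquiv (R := ZMod p) (M := M)).toEquiv, hM] at h1
    have h2 : Nat.card F ^ 2 = (p ^ 2) ^ 2 := by rw [h1, ← pow_mul]
    exact Nat.pow_left_injective (n := 2) (by norm_num) h2
  -- `j = t 1 t 2`, `k = t 1 t 3`, `y = a j + b k`, `n = t 2 t 3`
  set J : M →ₗ[ZMod p] M := (t 1 : M →ₗ[ZMod p] M) ∘ₗ (t 2 : M →ₗ[ZMod p] M) with hJ
  set Q : M →ₗ[ZMod p] M := (t 1 : M →ₗ[ZMod p] M) ∘ₗ (t 3 : M →ₗ[ZMod p] M) with hQ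
  set N : M →ₗ[ZMod p] M := (t 2 : M →ₗ[ZMod p] M) ∘ₗ (t 3 : M →ₗ[ZMod p] M) with hN
  set Y : M →ₗ[ZMod p] M := a • J + b • Q with hY
  have jv : ∀ v, J v = t 1 (t 2 v) := fun v => rfl
  have qv : ∀ v, Q v = t 1 (t 3 v) := fun v => rfl
  have nv : ∀ v, N v = t 2 (t 3 v) := fun v => rfl
  have yv : ∀ v, Y v = a • J v + b • Q v := fun v => rfl
  have jj : ∀ v, J (J v) = -v := fun v => by rw [jv, jv, e21, map_neg, s, s]
  have qq : ∀ v, Q (Q v) = -v := fun v => by rw [qv, qv, e31, map_neg, s, s]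
  have jq : ∀ v, J (Q v) = -(N v) := fun v => by rw [jv, qv, e21, map_neg, s, nv]
  have qj : ∀ v, Q (J v) = N v := fun v => by rw [jv, qv, e31, map_neg, s, e32, neg_neg, nv]
  have nn : ∀ v, N (N v) = -v := fun v => by rw [nv, nv, e32, map_neg, s, s]
  have nj : ∀ v, N (J v) = -(J (N v)) := fun v => by
    have h1 := jq v
    have h2 := qj v
    rw [← h2, jq, neg_neg]
  have nq : ∀ v, N (Q v) = -(Q (N v)) := fun v => by
    have h2 := jq v
    have h3 : N v = -(J (Q v)) := by rw [h2, neg_neg]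
    rw [h3, map_neg, neg_neg, qj]
  have ny : ∀ v, N (Y v) = -(Y (N v)) := fun v => by
    rw [yv, yv, map_add, map_smul, map_smul, nj, nq]
    module
  have yy : ∀ v, Y (Y v) = v := fun v => by
    rw [yv, yv, map_add, map_smul, map_smul, map_add, map_smul, map_smul, jj, qq, jq, qj]
    have h1 : a • (a • -v + b • -(N v)) + b • (a • N v + b • -v) = -((a ^ 2 + b ^ 2) • v) := by module
    rw [h1, hab]
    module
  have jF : ∀ v ∈ F, J v ∈ F := fun v hv => by
    rw [hmF] at hv ⊢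
    have h1 := e10 (t 2 v)
    have h2 := e20 v
    rw [hv] at h2
    have h3 : t 0 (t 2 v) = -(t 2 v) := by
      have := congrArg Neg.neg h2
      rw [neg_neg] at this
      exact this.symm
    rw [h3, map_neg] at h1
    rw [jv]
    exact (neg_injective h1).symm
  have qF : ∀ v ∈ F, Q v ∈ F := fun v hv => by
    rw [hmF] at hv ⊢
    have h1 := e10 (t 3 v)
    have h2 := e30 v
    rw [hv] at h2
    have h3 : t 0 (t 3 v) = -(t 3 v) := by
      have := congrArg Neg.neg h2
      rw [neg_neg] at this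
      exact this.symm
    rw [h3, map_neg] at h1
    rw [qv]
    exact (neg_injective h1).symm
  have nF : ∀ v ∈ F, N v ∈ F := fun v hv => by
    rw [← qj]
    exact qF _ (jF v hv)
  -- the second decomposition
  set N' : M →ₗ[ZMod p] M := -N with hN'
  have nv' : ∀ v, N' v = -(N v) := fun v => rfl
  have hB : Anti (p := p) F Y N N' :=
    ⟨fun v hv => by
        rw [yv]
        exact F.add_mem (F.smul_mem _ (jF v hv)) (F.smul_mem _ (qF v hv)),
      nF, fun v hv => by
        rw [nv']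
        exact F.neg_mem (nF v hv), fun v _ => yy v, fun v _ => ny v,
      fun v _ => by rw [nv', map_neg, nn, neg_neg],
      fun v _ => by rw [nv', nn, neg_neg]⟩
  set U := fixF F Y with hU
  have hUc : Nat.card U = p := by
    have h1 := hB.card hp
    rw [hFc] at h1
    exact Nat.pow_left_injective (n := 2) (by norm_num) h1
  -- `x` commutes with everything
  have xj : ∀ v, x (J v) = J (x v) := fun v => by rw [jv, jv, hx, hx]
  have xq : ∀ v, x (Q v) = Q (x v) := fun v => by rw [qv, qv, hx, hx]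
  have xn : ∀ v, x (N v) = N (x v) := fun v => by rw [nv, nv, hx, hx]
  have xy : ∀ v, x (Y v) = Y (x v) := fun v => by rw [yv, yv, map_add, map_smul, map_smul, xj, xq]
  have xF : ∀ v ∈ F, x v ∈ F := fun v hv => by
    rw [hmF] at hv ⊢
    rw [← hx, hv]
  have xU : ∀ v ∈ U, x v ∈ U := fun v hv => by
    rw [hU, mem_fixF] at hv ⊢
    exact ⟨xF v hv.1, by rw [← xy, hv.2]⟩
  -- a generator of the line `U`
  have hp1 : 1 < Nat.card U := by omega
  have : Nontrivial U := (Finite.one_lt_card_iff_nontrivial).1 hp1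
  obtain ⟨⟨w, hwU⟩, hw0⟩ := exists_ne (0 : U)
  have hw : w ≠ 0 := fun h => hw0 (Subtype.ext h)
  have hsp : (ZMod p) ∙ w = U := by
    have hle : (ZMod p) ∙ w ≤ U := (Submodule.span_singleton_le_iff_mem w U).2 hwU
    have hc : Nat.card ((ZMod p) ∙ w) = p := by
      have h1 : Nat.card ((ZMod p) ∙ w) = Nat.card (ZMod p) :=
        Nat.card_congr (LinearEquiv.toSpanNonzeroSingleton (ZMod p) M w hw).toEquiv.symm
      rw [h1, Nat.card_zmod]
    apply SetLike.coe_injective
    apply Set.eq_of_subset_of_ncard_le (s := ((ZMod p ∙ w : Submodule (ZMod p) M) : Set M)) (t := (U : Set M)) hle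
    rw [← Nat.card_coe_set_eq, ← Nat.card_coe_set_eq]
    exact (hUc.trans hc.symm).le
  have hline : ∀ v ∈ U, ∃ c : ZMod p, c • w = v := fun v hv => by
    rw [← hsp] at hv
    exact Submodule.mem_span_singleton.1 hv
  obtain ⟨c, hc⟩ := hline _ (xU w hwU)
  refine ⟨c, fun v => ?_⟩
  have sU : ∀ v ∈ U, x v = c • v := fun v hv => by
    obtain ⟨d, rfl⟩ := hline v hv
    rw [map_smul, ← hc, smul_comm]
  have sF : ∀ v ∈ F, x v = c • v := fun v hv => by
    obtain ⟨a', ha, b', hb, hya, hyb, he⟩ := hB.exists_decomp hp hv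
    rw [he, map_add, xn, sU a' (mem_fixF.2 ⟨ha, hya⟩), sU b' (mem_fixF.2 ⟨hb, hyb⟩), map_smul, smul_add]
  obtain ⟨a', ha, b', hb, hya, hyb, he⟩ := hA.exists_decomp hp (show v ∈ (⊤ : Submodule (ZMod p) M) from trivial)
  have ha' : a' ∈ F := (hmF a').2 hya
  have hb' : b' ∈ F := (hmF b').2 hyb
  have he' : v = a' + t 1 b' := he
  rw [he', map_add, hx, sF a' ha', sF b' hb', map_smul, smul_add]

end frame

end Cfsg.Agent.H528.HT

private theorem dce_2f3376dc4d88 : _root_.True := by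
  try have : _root_.True := by simp only [_root_.Cfsg.Agent.H528.HT.fixF.eq_1]
  exact _root_.True.intro
end

-- part: H559/HT/ExistsF_mg
section
prune_inst 0x4310029050340100000040582510002b50500019000000000d82407460b0652220002a80048000c0602228a80000400080000043000000000000004000021072990a8520033510d0ca40007801006400000000000000000000000000000041000200400002
set_option linter.all false
open scoped Cfsg.Agent.FastGrp

-- part: H559/HT/ExistsF
section
/-!
# S3540 / S3577, HT-E, E1 (helper559): `exists_F`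

A maximal abelian normal subgroup `A`, and either a perfect normal subgroup `L` all of whose `G`-normal subgroups are `L`
or central in `L`, or a normal subgroup `F ≥ A` of class 2 with `C(F) ≤ A`, `F / A` abelian of squarefree exponent.
-/

set_option autoImplicit false

open scoped commutatorElement

namespace Cfsg.Agent.H559.HT

open Subgroup

universe u

variable {G : Type u} [Group G]

/-- `[K A, K A] ≤ [K, K]` if `A` is central in `K A` -/
theorem comm_sup_le {K A : Subgroup G} (hAn : A.Normal) (hc : ∀ x ∈ K ⊔ A, ∀ y ∈ A, x * y = y * x) :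
    ⁅K ⊔ A, K ⊔ A⁆ ≤ ⁅K, K⁆ := by
  rw [commutator_le]
  intro x hx y hy
  obtain ⟨k, hk, a, ha, rfl⟩ := mem_sup_of_normal_right.1 hx
  obtain ⟨k', hk', a', ha', rfl⟩ := mem_sup_of_normal_right.1 hy
  have h1 : Commute k a := hc k (mem_sup_left hk) a ha
  have h2 : Commute k a' := hc k (mem_sup_left hk) a' ha'
  have h3 : Commute k' a := hc k' (mem_sup_left hk') a ha
  have h4 : Commute k' a' := hc k' (mem_sup_left hk') a' ha'
  have h5 : Commute a a' := hc a (mem_sup_right ha) a' ha'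
  have e : ⁅k * a, k' * a'⁆ = ⁅k, k'⁆ := by
    have ha1 : Commute a (k' * a') := h3.symm.mul_right h5
    have ha2 : Commute a' (k * a) := h2.symm.mul_right h5.symm
    rw [commutatorElement_def, commutatorElement_def]
    calc k * a * (k' * a') * (k * a)⁻¹ * (k' * a')⁻¹ = k * (a * (k' * a')) * a⁻¹ * k⁻¹ * (k' * a')⁻¹ := by group
      _ = k * (k' * a' * a) * a⁻¹ * k⁻¹ * (k' * a')⁻¹ := by rw [ha1.eq]
      _ = k * k' * (a' * k⁻¹) * a'⁻¹ * k'⁻¹ := by group
      _ = k * k' * (k⁻¹ * a') * a'⁻¹ * k'⁻¹ := by rw [h2.inv_left.eq]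
      _ = k * k' * k⁻¹ * k'⁻¹ := by group
  rw [e]
  exact commutator_mem_commutator hk hk'

/-- E1 -/
theorem exists_F {G : Type u} [Group G] [Finite G] : ∃ A F : Subgroup G, A.Normal ∧ F.Normal ∧ A ≤ F ∧
    (∀ x ∈ A, ∀ y ∈ A, x * y = y * x) ∧
    (∀ B : Subgroup G, B.Normal → (∀ x ∈ B, ∀ y ∈ B, x * y = y * x) → A ≤ B → B = A) ∧
    ((∃ L : Subgroup G, L.Normal ∧ L ≠ ⊥ ∧ ⁅L, L⁆ = L ∧
      ∀ K : Subgroup G, K.Normal → K ≤ L → K = L ∨ ∀ x ∈ K, ∀ y ∈ L, x * y = y * x) ∨
     ((∀ x ∈ F, ∀ y ∈ A, x * y = y * x) ∧ (∀ x ∈ F, ∀ y ∈ F, ⁅x, y⁆ ∈ A) ∧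
      (∃ n : ℕ, Squarefree n ∧ ∀ x ∈ F, x ^ n ∈ A) ∧ ∀ g : G, (∀ x ∈ F, g * x = x * g) → g ∈ A)) := by
  classical
  -- the maximal abelian normal subgroup
  obtain ⟨A, ⟨hAn, hAc⟩, hAm⟩ := (wellFounded_gt (α := Subgroup G)).has_min
    {A : Subgroup G | A.Normal ∧ ∀ x ∈ A, ∀ y ∈ A, x * y = y * x} ⟨⊥, inferInstance, by
      intro x hx y hy
      rw [mem_bot] at hx hy
      rw [hx, hy]⟩
  have hmax : ∀ B : Subgroup G, B.Normal → (∀ x ∈ B, ∀ y ∈ B, x * y = y * x) → A ≤ B → B = A := by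
    intro B hB hBc hAB
    by_contra hne
    exact hAm B ⟨hB, hBc⟩ (lt_of_le_of_ne hAB (Ne.symm hne))
  -- the group `F`
  obtain ⟨F, ⟨hFn, hAF, hFA, hFc, n, hn, hFe⟩, hFm⟩ := (wellFounded_gt (α := Subgroup G)).has_min
    {F : Subgroup G | F.Normal ∧ A ≤ F ∧ (∀ x ∈ F, ∀ y ∈ A, x * y = y * x) ∧ (∀ x ∈ F, ∀ y ∈ F, ⁅x, y⁆ ∈ A) ∧
      ∃ n : ℕ, Squarefree n ∧ ∀ x ∈ F, x ^ n ∈ A} ⟨A, hAn, le_rfl, hAc, fun x hx y hy => by
        rw [commutatorElement_def]
        exact A.mul_mem (A.mul_mem (A.mul_mem hx hy) (A.inv_mem hx)) (A.inv_mem hy),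
        1, squarefree_one, fun x hx => by rwa [pow_one]⟩
  refine ⟨A, F, hAn, hFn, hAF, hAc, hmax, ?_⟩
  by_cases hC : ∀ g : G, (∀ x ∈ F, g * x = x * g) → g ∈ A
  · exact Or.inr ⟨hFA, hFc, ⟨n, hn, hFe⟩, hC⟩
  left
  push Not at hC
  obtain ⟨g, hgF, hgA⟩ := hC
  set D : Subgroup G := centralizer (F : Set G) with hD
  have hDn : D.Normal := inferInstance
  have hmD : ∀ {d : G}, d ∈ D ↔ ∀ x ∈ F, d * x = x * d := by
    intro d
    rw [hD, mem_centralizer_iff]
    exact ⟨fun h x hx => (h x hx).symm, fun h x hx => (h x hx).symm⟩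
  have hAD : A ≤ D := fun a ha => hmD.2 fun x hx => (hFA x hx a ha).symm
  have hDA : ∀ x ∈ D, ∀ y ∈ A, x * y = y * x := fun x hx y hy => hmD.1 hx y (hAF hy)
  have hFD : F ⊓ D = A := by
    apply hmax _ inferInstance
    · rintro x ⟨hx, -⟩ y ⟨-, hy⟩
      exact (hmD.1 hy x hx).symm
    · exact le_inf hAF hAD
  -- the minimal normal subgroup above `A`
  obtain ⟨L₀, ⟨hLn, hAL, hLD⟩, hLm⟩ := (wellFounded_lt (α := Subgroup G)).has_min
    {L₀ : Subgroup G | L₀.Normal ∧ A < L₀ ∧ L₀ ≤ D} ⟨D, hDn, lt_of_le_of_ne hAD (fun h => hgA (by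
      rw [h]; exact hmD.2 hgF)), le_rfl⟩
  have hLmin : ∀ B : Subgroup G, B.Normal → A ≤ B → B ≤ L₀ → B = A ∨ B = L₀ := by
    intro B hB hAB hBL
    by_contra hne
    push Not at hne
    exact hLm B ⟨hB, lt_of_le_of_ne hAB (Ne.symm hne.1), hBL.trans hLD⟩ (lt_of_le_of_ne hBL hne.2)
  have hcen : ∀ x ∈ L₀, ∀ y ∈ A, x * y = y * x := fun x hx y hy => hDA x (hLD hx) y hy
  by_cases hab : ∀ x ∈ L₀, ∀ y ∈ L₀, ⁅x, y⁆ ∈ A
  · -- `L₀ / A` abelian: contradiction
    exfalso
    obtain ⟨y, hyL, hyA⟩ := SetLike.exists_of_lt hAL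
    -- a prime power of an element outside `A` in `A`
    obtain ⟨r, hr, z, hzL, hzA, hzr⟩ : ∃ r : ℕ, r.Prime ∧ ∃ z ∈ L₀, z ∉ A ∧ z ^ r ∈ A := by
      let k := Nat.find (⟨orderOf y, orderOf_pos y, by rw [pow_orderOf_eq_one]; exact A.one_mem⟩ :
        ∃ k : ℕ, 0 < k ∧ y ^ k ∈ A)
      have hk : 0 < k ∧ y ^ k ∈ A := Nat.find_spec (⟨orderOf y, orderOf_pos y, by
        rw [pow_orderOf_eq_one]; exact A.one_mem⟩ : ∃ k : ℕ, 0 < k ∧ y ^ k ∈ A)
      have hkm : ∀ m : ℕ, m < k → ¬ (0 < m ∧ y ^ m ∈ A) := fun m hm => Nat.find_min _ hm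
      have hk1 : k ≠ 1 := by
        intro h
        rw [h, pow_one] at hk
        exact hyA hk.2
      obtain ⟨r, hr, m, hm⟩ := Nat.exists_prime_and_dvd hk1
      have hm0 : 0 < m := Nat.pos_of_ne_zero (by rintro rfl; rw [mul_zero] at hm; omega)
      refine ⟨r, hr, y ^ m, L₀.pow_mem hyL m, fun h => hkm m ?_ ⟨hm0, h⟩, ?_⟩
      · rw [hm]
        exact lt_mul_of_one_lt_left hm0 hr.one_lt
      · rw [← pow_mul, mul_comm, ← hm]
        exact hk.2
    -- powers of products
    have hpow : ∀ x ∈ L₀, ∀ y ∈ L₀, ∀ m : ℕ, ∃ a ∈ A, (x * y) ^ m = x ^ m * y ^ m * a := by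
      intro x hx y hy m
      have hq : ((x : G) : G ⧸ A) * (y : G ⧸ A) = (y : G ⧸ A) * (x : G ⧸ A) := by
        rw [← QuotientGroup.mk_mul, ← QuotientGroup.mk_mul, QuotientGroup.eq]
        have := hab y⁻¹ (L₀.inv_mem hy) x⁻¹ (L₀.inv_mem hx)
        rw [commutatorElement_def, inv_inv, inv_inv] at this
        rw [mul_inv_rev, ← mul_assoc]
        exact this
      have h1 : (((x * y) ^ m : G) : G ⧸ A) = ((x ^ m * y ^ m : G) : G ⧸ A) := by
        rw [QuotientGroup.mk_pow, QuotientGroup.mk_mul, QuotientGroup.mk_mul, QuotientGroup.mk_pow, QuotientGroup.mk_pow]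
        exact (show Commute (x : G ⧸ A) (y : G ⧸ A) from hq).mul_pow m
      rw [QuotientGroup.eq] at h1
      exact ⟨(x ^ m * y ^ m)⁻¹ * (x * y) ^ m, by
        have := A.inv_mem h1
        rwa [mul_inv_rev, inv_inv] at this, by group⟩
    let R : Subgroup G :=
      { carrier := {x | x ∈ L₀ ∧ x ^ r ∈ A}
        one_mem' := ⟨L₀.one_mem, by rw [one_pow]; exact A.one_mem⟩
        mul_mem' := by
          rintro x y ⟨hx, hx'⟩ ⟨hy, hy'⟩
          refine ⟨L₀.mul_mem hx hy, ?_⟩
          obtain ⟨a, ha, e⟩ := hpow x hx y hy r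
          rw [e]
          exact A.mul_mem (A.mul_mem hx' hy') ha
        inv_mem' := by
          rintro x ⟨hx, hx'⟩
          exact ⟨L₀.inv_mem hx, by rw [inv_pow]; exact A.inv_mem hx'⟩ }
    have hRn : R.Normal := ⟨fun x hx g => ⟨hLn.conj_mem x hx.1 g, by
      rw [conj_pow]; exact hAn.conj_mem _ hx.2 g⟩⟩
    have hRL : R = L₀ := by
      rcases hLmin R hRn (fun a ha => ⟨hAL.le ha, A.pow_mem ha r⟩) (fun x hx => hx.1) with h | h
      · exact absurd (h ▸ (⟨hzL, hzr⟩ : z ∈ R)) hzA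
      · exact h
    have hLr : ∀ x ∈ L₀, x ^ r ∈ A := fun x hx => (hRL.symm ▸ hx : x ∈ R).2
    -- the product contradicts the maximality of `F`
    have hLF : ¬ L₀ ≤ F := fun h => hAL.ne (le_antisymm hAL.le (by
      rw [← hFD]; exact le_inf h hLD))
    refine hFm (F ⊔ L₀) ⟨inferInstance, hAF.trans le_sup_left, ?_, ?_, n.lcm r, ?_, ?_⟩ ?_
    · intro x hx y hy
      obtain ⟨f, hf, l, hl, rfl⟩ := mem_sup_of_normal_right.1 hx
      have h1 : Commute f y := hFA f hf y hy
      have h2 : Commute l y := hcen l hl y hy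
      exact (h1.mul_left h2).eq
    · intro x hx y hy
      obtain ⟨f, hf, l, hl, rfl⟩ := mem_sup_of_normal_right.1 hx
      obtain ⟨f', hf', l', hl', rfl⟩ := mem_sup_of_normal_right.1 hy
      have c1 : Commute l f := hmD.1 (hLD hl) f hf
      have c2 : Commute l f' := hmD.1 (hLD hl) f' hf'
      have c3 : Commute l' f := hmD.1 (hLD hl') f hf
      have c4 : Commute l' f' := hmD.1 (hLD hl') f' hf'
      have e : ⁅f * l, f' * l'⁆ = ⁅f, f'⁆ * ⁅l, l'⁆ := by
        rw [commutatorElement_def, commutatorElement_def, commutatorElement_def]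
        have d1 : Commute (f'⁻¹) (l * l' * l⁻¹ * l'⁻¹) :=
          (((c2.symm.inv_left.mul_right c4.symm.inv_left).mul_right c2.symm.inv_left.inv_right).mul_right
            c4.symm.inv_left.inv_right)
        calc f * l * (f' * l') * (f * l)⁻¹ * (f' * l')⁻¹ = f * (l * f') * l' * l⁻¹ * f⁻¹ * l'⁻¹ * f'⁻¹ := by group
          _ = f * (f' * l) * l' * l⁻¹ * f⁻¹ * l'⁻¹ * f'⁻¹ := by rw [c2.eq]
          _ = f * f' * (l * l' * l⁻¹ * f⁻¹) * l'⁻¹ * f'⁻¹ := by group
          _ = f * f' * (f⁻¹ * (l * l' * l⁻¹)) * l'⁻¹ * f'⁻¹ := by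
            rw [(((c1.mul_left c3).mul_left c1.inv_left).inv_right).eq]
          _ = f * f' * f⁻¹ * ((l * l' * l⁻¹ * l'⁻¹) * f'⁻¹) := by group
          _ = f * f' * f⁻¹ * (f'⁻¹ * (l * l' * l⁻¹ * l'⁻¹)) := by rw [d1.eq]
          _ = f * f' * f⁻¹ * f'⁻¹ * (l * l' * l⁻¹ * l'⁻¹) := by group
      rw [e]
      exact A.mul_mem (hFc f hf f' hf') (hab l hl l' hl')
    · rw [Nat.squarefree_iff_prime_squarefree]
      intro q hq hqq
      have hnr := hr.squarefree
      have h1 : q * q ∣ n ∨ q * q ∣ r := by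
        have hn0 : n ≠ 0 := hn.ne_zero
        have hl0 : n.lcm r ≠ 0 := Nat.lcm_ne_zero hn0 hr.ne_zero
        rw [← pow_two] at hqq ⊢
        rw [hq.pow_dvd_iff_le_factorization hl0, Nat.factorization_lcm hn0 hr.ne_zero, Finsupp.sup_apply, le_sup_iff] at hqq
        rw [hq.pow_dvd_iff_le_factorization hn0, hq.pow_dvd_iff_le_factorization hr.ne_zero]
        exact hqq
      rcases h1 with h1 | h1
      · exact (Nat.squarefree_iff_prime_squarefree.1 hn) q hq h1
      · exact (Nat.squarefree_iff_prime_squarefree.1 hnr) q hq h1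
    · intro x hx
      obtain ⟨f, hf, l, hl, rfl⟩ := mem_sup_of_normal_right.1 hx
      have c1 : Commute f l := (hmD.1 (hLD hl) f hf).symm
      rw [c1.mul_pow]
      obtain ⟨i, hi⟩ := Nat.dvd_lcm_left n r
      obtain ⟨j, hj⟩ := Nat.dvd_lcm_right n r
      refine A.mul_mem ?_ ?_
      · rw [hi, pow_mul]
        exact A.pow_mem (hFe f hf) i
      · rw [hj, pow_mul]
        exact A.pow_mem (hLr l hl) j
    · exact lt_of_le_of_ne le_sup_left (fun h => hLF (h ▸ le_sup_right))
  · -- `L₀ / A` perfect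
    have hLA : ¬ ⁅L₀, L₀⁆ ≤ A := by
      intro h
      exact hab fun x hx y hy => h (commutator_mem_commutator hx hy)
    have hLn' : (⁅L₀, L₀⁆ : Subgroup G).Normal := inferInstance
    have hLL : (⁅L₀, L₀⁆ : Subgroup G) ≤ L₀ := commutator_le_left L₀ L₀
    have hsup : ∀ K : Subgroup G, K.Normal → K ≤ L₀ → ¬ K ≤ A → ⁅L₀, L₀⁆ ≤ ⁅K, K⁆ := by
      intro K hK hKL hKA
      have h1 : K ⊔ A = L₀ := by
        rcases hLmin (K ⊔ A) inferInstance le_sup_right (sup_le hKL hAL.le) with h | h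
        · exact absurd (h ▸ le_sup_left) hKA
        · exact h
      have h2 := comm_sup_le (K := K) hAn (by rw [h1]; exact hcen)
      rwa [h1] at h2
    refine ⟨⁅L₀, L₀⁆, hLn', ?_, ?_, ?_⟩
    · intro h
      rw [h] at hLA
      exact hLA bot_le
    · exact le_antisymm (commutator_le_left _ _) (hsup _ hLn' hLL hLA)
    · intro K hK hKL
      by_cases hKA : K ≤ A
      · right
        intro x hx y hy
        exact (hcen y (hLL hy) x (hKA hx)).symm
      · left
        exact le_antisymm hKL ((hsup K hK (hKL.trans hLL) hKA).trans (commutator_le_left K K))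

end Cfsg.Agent.H559.HT
end

-- part: H298/HT/SymOfF
section
/-!
# Half-transitive linear groups: the `s`-part of `F` is of symplectic type (S3540, S3577; helper298)

E2 of `tools/plans/HT_E.md`: `sym_of_F`.
-/

set_option autoImplicit false

open scoped commutatorElement

namespace Cfsg.Agent.H298.HT

open Cfsg.Agent.H828.HT Cfsg.Agent.H662.HT Subgroup

universe u

/-! ### Group theory -/

section group

variable {Γ : Type u} [Group Γ]

/-- in a cyclic group the solutions of `a ^ s = 1` are the powers of any element of order `s` -/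
theorem exists_zpow {A : Subgroup Γ} [Finite A] (hcyc : IsCyclic A) {s : ℕ} (hs : s.Prime) {w : Γ} (hw : w ∈ A)
    (hws : w ^ s = 1) (hw1 : w ≠ 1) {a : Γ} (ha : a ∈ A) (has : a ^ s = 1) : ∃ i : ℤ, a = w ^ i := by
  classical
  have := Fintype.ofFinite A
  have ho : orderOf (⟨w, hw⟩ : A) = s := by
    rw [← orderOf_coe]
    have : Fact s.Prime := ⟨hs⟩
    exact orderOf_eq_prime hws hw1
  have h1 : (Finset.univ.filter fun b : A => b ^ s = 1).card ≤ s := IsCyclic.card_pow_eq_one_le hs.pos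
  let f : Finset A := (Finset.range s).image fun k => (⟨w, hw⟩ : A) ^ k
  have hf : f.card = s := by
    rw [Finset.card_image_of_injOn, Finset.card_range]
    intro i hi j hj hij
    exact pow_injOn_Iio_orderOf (by rw [ho]; exact Finset.mem_range.1 hi) (by rw [ho]; exact Finset.mem_range.1 hj) hij
  have hsub : f ⊆ Finset.univ.filter fun b : A => b ^ s = 1 := by
    intro b hb
    obtain ⟨k, -, rfl⟩ := Finset.mem_image.1 hb
    rw [Finset.mem_filter]
    refine ⟨Finset.mem_univ _, Subtype.ext ?_⟩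
    change (w ^ k) ^ s = 1
    rw [← pow_mul, mul_comm, pow_mul, hws, one_pow]
  have heq := Finset.eq_of_subset_of_card_le hsub (by rw [hf]; exact h1)
  have h3 : (⟨a, ha⟩ : A) ∈ f := by
    rw [heq, Finset.mem_filter]
    exact ⟨Finset.mem_univ _, Subtype.ext has⟩
  obtain ⟨k, -, hk⟩ := Finset.mem_image.1 h3
  refine ⟨k, ?_⟩
  have h4 : w ^ k = a := congrArg Subtype.val hk
  rw [← h4, zpow_natCast]

/-- centralisers of elements have index `s` -/
theorem card_centralizer [Finite Γ] {A : Subgroup Γ} (hcyc : IsCyclic A) {s : ℕ} (hs : s.Prime) (H : Subgroup Γ)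
    (x : Γ) (hc : ∀ h ∈ H, ⁅h, x⁆ ∈ A) (hA : ∀ a ∈ A, ∀ h ∈ H, a * h = h * a) (hexp : ∀ h ∈ H, ⁅h, x⁆ ^ s = 1)
    (hne : ∃ h ∈ H, ⁅h, x⁆ ≠ 1) : Nat.card H = s * Nat.card ↥(H ⊓ centralizer ({x} : Set Γ)) := by
  let f : H →* A :=
    { toFun := fun h => ⟨⁅(h : Γ), x⁆, hc h h.2⟩
      map_one' := Subtype.ext (by simp)
      map_mul' := fun a b => Subtype.ext (by
        change ⁅(a : Γ) * b, x⁆ = ⁅(a : Γ), x⁆ * ⁅(b : Γ), x⁆
        have h1 : ⁅(a : Γ) * b, x⁆ = a * ⁅(b : Γ), x⁆ * (a : Γ)⁻¹ * ⁅(a : Γ), x⁆ := by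
          simp only [commutatorElement_def]; group
        have h2 := hA _ (hc b b.2) a a.2
        have h3 : ⁅(a : Γ), x⁆ * ⁅(b : Γ), x⁆ = ⁅(b : Γ), x⁆ * ⁅(a : Γ), x⁆ := by
          have := hcyc
          have h4 : (⟨_, hc a a.2⟩ : A) * ⟨_, hc b b.2⟩ = ⟨_, hc b b.2⟩ * ⟨_, hc a a.2⟩ :=
            IsCyclic.commGroup.mul_comm _ _
          exact congrArg Subtype.val h4
        rw [h1, ← h2, mul_inv_cancel_right, h3]) }
  have hker : f.ker = (centralizer ({x} : Set Γ)).subgroupOf H := by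
    ext h
    rw [MonoidHom.mem_ker, mem_subgroupOf, mem_centralizer_singleton_iff]
    rw [← commutatorElement_eq_one_iff_mul_comm]
    exact ⟨fun e => congrArg Subtype.val e, fun e => Subtype.ext e⟩
  have hcard : Nat.card H = Nat.card f.ker * Nat.card f.range := by
    rw [← Subgroup.index_ker, Subgroup.card_mul_index]
  have hk : Nat.card f.ker = Nat.card ↥(H ⊓ centralizer ({x} : Set Γ)) := by
    rw [hker, Nat.card_congr (((centralizer ({x} : Set Γ)).subgroupOf H).equivMapOfInjective H.subtype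
      H.subtype_injective).toEquiv, subgroupOf_map_subtype, inf_comm]
  have hr : Nat.card f.range = s := by
    have hcr : IsCyclic f.range := inferInstance
    obtain ⟨⟨_, h, rfl⟩, hg⟩ := hcr.exists_generator
    rw [← orderOf_eq_card_of_forall_mem_zpowers hg]
    have : Fact s.Prime := ⟨hs⟩
    apply orderOf_eq_prime
    · exact Subtype.ext (Subtype.ext (hexp h h.2))
    · intro h1
      obtain ⟨h', hh', hne⟩ := hne
      apply hne
      obtain ⟨k, hk⟩ := mem_zpowers_iff.1 (hg ⟨_, ⟨h', hh'⟩, rfl⟩)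
      rw [h1, one_zpow] at hk
      exact congrArg (fun z : f.range => ((z : A) : Γ)) hk.symm
  rw [hcard, hk, hr, mul_comm]

/-- sections of symplectic type have square order -/
theorem card_form [Finite Γ] {A : Subgroup Γ} (hcyc : IsCyclic A) {s : ℕ} (hs : s.Prime) :
    ∀ (n : ℕ) (K : Subgroup Γ), Nat.card K = n → A ≤ K → (∀ a ∈ A, ∀ k ∈ K, a * k = k * a) →
      (∀ x ∈ K, ∀ y ∈ K, ⁅x, y⁆ ∈ A) → (∀ x ∈ K, x ^ s ∈ A) → (∀ x ∈ K, (∀ y ∈ K, x * y = y * x) → x ∈ A) →
      ∃ b : ℕ, Nat.card K = Nat.card A * s ^ (2 * b) := by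
  intro n
  induction n using Nat.strong_induction_on with
  | _ n ih =>
  intro K hn hAK hAc hcomm hexp hz
  -- bilinearity
  have hl : ∀ x ∈ K, ∀ y ∈ K, ∀ z ∈ K, ⁅x * y, z⁆ = ⁅x, z⁆ * ⁅y, z⁆ := by
    intro x hx y hy z hz
    have h1 : ⁅x * y, z⁆ = x * ⁅y, z⁆ * x⁻¹ * ⁅x, z⁆ := by simp only [commutatorElement_def]; group
    rw [h1, ← hAc _ (hcomm y hy z hz) x hx, mul_inv_cancel_right,
      hAc _ (hcomm y hy z hz) _ (hAK (hcomm x hx z hz))]
  have hlz : ∀ x ∈ K, ∀ z ∈ K, ∀ i : ℤ, ⁅x ^ i, z⁆ = ⁅x, z⁆ ^ i := by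
    intro x hx z hz i
    let f : K →* Γ :=
      { toFun := fun k => ⁅(k : Γ), z⁆
        map_one' := by simp
        map_mul' := fun a b => hl a a.2 b b.2 z hz }
    have := map_zpow f ⟨x, hx⟩ i
    exact this
  have hpw : ∀ x ∈ K, ∀ y ∈ K, ⁅x, y⁆ ^ s = 1 := by
    intro x hx y hy
    have h1 := hlz x hx y hy s
    rw [zpow_natCast, zpow_natCast] at h1
    rw [← h1]
    exact commutatorElement_eq_one_iff_mul_comm.2 (hAc _ (hexp x hx) y hy)
  by_cases hab : ∀ x ∈ K, ∀ y ∈ K, ⁅x, y⁆ = 1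
  · refine ⟨0, ?_⟩
    have : K = A := le_antisymm (fun x hx => hz x hx fun y hy => commutatorElement_eq_one_iff_mul_comm.1 (hab x hx y hy))
      hAK
    rw [this, mul_zero, pow_zero, mul_one]
  · push Not at hab
    obtain ⟨x, hx, y, hy, hxy⟩ := hab
    have hyx : ⁅y, x⁆ ≠ 1 := by
      rw [← commutatorElement_inv]
      exact fun h => hxy (inv_eq_one.1 h)
    let K1 := K ⊓ centralizer ({x} : Set Γ)
    let K2 := K1 ⊓ centralizer ({y} : Set Γ)
    have c1 : Nat.card K = s * Nat.card K1 := card_centralizer hcyc hs K x (fun h hh => hcomm h hh x hx)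
      hAc (fun h hh => hpw h hh x hx) ⟨y, hy, hyx⟩
    have c2 : Nat.card K1 = s * Nat.card K2 := card_centralizer hcyc hs K1 y (fun h hh => hcomm h hh.1 y hy)
      (fun a ha h hh => hAc a ha h hh.1) (fun h hh => hpw h hh.1 y hy)
      ⟨x, ⟨hx, mem_centralizer_singleton_iff.2 rfl⟩, hxy⟩
    have hK2 : ∀ k, k ∈ K2 ↔ k ∈ K ∧ ⁅k, x⁆ = 1 ∧ ⁅k, y⁆ = 1 := by
      intro k
      rw [commutatorElement_eq_one_iff_mul_comm, commutatorElement_eq_one_iff_mul_comm]
      constructor
      · rintro ⟨⟨h1, h2⟩, h3⟩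
        exact ⟨h1, mem_centralizer_singleton_iff.1 h2, mem_centralizer_singleton_iff.1 h3⟩
      · rintro ⟨h1, h2, h3⟩
        exact ⟨⟨h1, mem_centralizer_singleton_iff.2 h2⟩, mem_centralizer_singleton_iff.2 h3⟩
    have hlt : Nat.card K2 < n := by
      have h1 : 0 < Nat.card K2 := Nat.card_pos
      have h2 := hs.two_le
      rw [← hn, c1, c2]
      nlinarith only [c2, h1, h2]
    obtain ⟨b, hb⟩ := ih _ hlt K2 rfl (fun a ha => by
        rw [hK2]
        exact ⟨hAK ha, commutatorElement_eq_one_iff_mul_comm.2 (hAc a ha x hx),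
          commutatorElement_eq_one_iff_mul_comm.2 (hAc a ha y hy)⟩)
      (fun a ha k hk => hAc a ha k hk.1.1) (fun x hx y hy => hcomm x hx.1.1 y hy.1.1) (fun x hx => hexp x hx.1.1)
      (fun z hzK hzc => by
        apply hz z hzK.1.1
        intro k hk
        obtain ⟨i, hi⟩ := exists_zpow hcyc hs (hcomm x hx y hy) (hpw x hx y hy) hxy (hcomm k hk y hy) (hpw k hk y hy)
        obtain ⟨j, hj⟩ := exists_zpow hcyc hs (hcomm y hy x hx) (hpw y hy x hx) hyx (hcomm k hk x hx) (hpw k hk x hx)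
        have hk' : k * (x ^ (-i) * y ^ (-j)) ∈ K2 := by
          rw [hK2]
          have hxi : x ^ (-i) ∈ K := K.zpow_mem hx _
          have hyj : y ^ (-j) ∈ K := K.zpow_mem hy _
          refine ⟨K.mul_mem hk (K.mul_mem hxi hyj), ?_, ?_⟩
          · rw [hl k hk _ (K.mul_mem hxi hyj) x hx, hl _ hxi _ hyj x hx, hlz x hx x hx, hlz y hy x hx,
              commutatorElement_self, one_zpow, one_mul, hj, ← zpow_add, add_neg_cancel, zpow_zero]
          · rw [hl k hk _ (K.mul_mem hxi hyj) y hy, hl _ hxi _ hyj y hy, hlz x hx y hy, hlz y hy y hy,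
              commutatorElement_self, one_zpow, mul_one, hi, ← zpow_add, add_neg_cancel, zpow_zero]
        have h1 := hzc _ hk'
        have hzx : Commute z x := commutatorElement_eq_one_iff_mul_comm.1 ((hK2 z).1 hzK).2.1
        have hzy : Commute z y := commutatorElement_eq_one_iff_mul_comm.1 ((hK2 z).1 hzK).2.2
        have h2 : Commute z (x ^ (-i) * y ^ (-j)) := (hzx.zpow_right _).mul_right (hzy.zpow_right _)
        have h3 : Commute z (k * (x ^ (-i) * y ^ (-j))) := h1
        have h4 : Commute z (k * (x ^ (-i) * y ^ (-j)) * (x ^ (-i) * y ^ (-j))⁻¹) := h3.mul_right h2.inv_right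
        rwa [mul_inv_cancel_right] at h4)
    refine ⟨b + 1, ?_⟩
    rw [c1, c2, hb]
    ring

/-- the power formula in class two -/
theorem mul_pow_two {x y c : Γ} (hc : y * x = c * (x * y)) (hx : Commute c x) (hy : Commute c y) (n : ℕ) :
    (x * y) ^ n = x ^ n * y ^ n * c ^ n.choose 2 := by
  have h1 : ∀ n : ℕ, y ^ n * x = c ^ n * (x * y ^ n) := by
    intro n
    induction n with
    | zero => simp
    | succ n ih =>
      have h2 : c ^ n * y = y * c ^ n := (hy.pow_left n).eq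
      calc y ^ (n + 1) * x = y * (y ^ n * x) := by rw [pow_succ', mul_assoc]
        _ = y * c ^ n * (x * y ^ n) := by rw [ih, mul_assoc]
        _ = c ^ n * (y * x) * y ^ n := by rw [← h2]; simp only [mul_assoc]
        _ = c ^ n * c * (x * (y * y ^ n)) := by rw [hc]; simp only [mul_assoc]
        _ = c ^ (n + 1) * (x * y ^ (n + 1)) := by rw [← pow_succ, ← pow_succ']
  induction n with
  | zero => simp
  | succ n ih =>
    have h2 : c ^ n.choose 2 * (x * y) = x * y * c ^ n.choose 2 :=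
      ((hx.pow_left _).mul_right (hy.pow_left _)).eq
    have h3 : x ^ n * c ^ n = c ^ n * x ^ n := ((hx.pow_right n).pow_left n).symm.eq
    have h4 : c ^ n * (x ^ (n + 1) * y ^ (n + 1)) = x ^ (n + 1) * y ^ (n + 1) * c ^ n :=
      (((hx.pow_right _).mul_right (hy.pow_right _)).pow_left n).eq
    calc (x * y) ^ (n + 1) = x ^ n * y ^ n * (c ^ n.choose 2 * (x * y)) := by rw [pow_succ, ih, mul_assoc]
      _ = x ^ n * (y ^ n * x) * y * c ^ n.choose 2 := by rw [h2]; simp only [mul_assoc]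
      _ = (x ^ n * c ^ n) * x * (y ^ n * y) * c ^ n.choose 2 := by rw [h1]; simp only [mul_assoc]
      _ = c ^ n * (x ^ (n + 1) * y ^ (n + 1)) * c ^ n.choose 2 := by
        rw [h3, ← pow_succ y]; simp only [pow_succ x, mul_assoc]
      _ = x ^ (n + 1) * y ^ (n + 1) * c ^ (n + 1).choose 2 := by
        rw [h4, mul_assoc _ (c ^ n), ← pow_add, Nat.choose_succ_succ' n 1, Nat.choose_one_right]

/-- coordinates modulo `s`-th powers in a cyclic group -/
theorem exists_theta [Finite Γ] {A : Subgroup Γ} (hcyc : IsCyclic A) {s : ℕ} (hs : s.Prime) (hd : s ∣ Nat.card A) :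
    ∃ θ : A →* Multiplicative (ZMod s), (∀ a : A, θ a = 1 ↔ ∃ b : A, a = b ^ s) ∧
      ((s ≠ 2 ∨ 4 ∣ Nat.card A) → ∀ c : A, c ^ s = 1 → θ (c ^ s.choose 2) = 1) := by
  have : NeZero (Nat.card A) := ⟨Nat.card_pos.ne'⟩
  have hs' : Fact s.Prime := ⟨hs⟩
  let e : A ≃* Multiplicative (ZMod (Nat.card A)) := (zmodCyclicMulEquiv hcyc).symm
  let r : Multiplicative (ZMod (Nat.card A)) →* Multiplicative (ZMod s) :=
    (ZMod.castHom hd (ZMod s)).toAddMonoidHom.toMultiplicative
  let θ : A →* Multiplicative (ZMod s) := r.comp e.toMonoidHom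
  have hθ : ∀ a : A, θ a = Multiplicative.ofAdd ((ZMod.castHom hd (ZMod s)) (Multiplicative.toAdd (e a))) := fun a => rfl
  have hpow : ∀ b : A, θ (b ^ s) = 1 := by
    intro b
    rw [map_pow, hθ, ← ofAdd_nsmul, nsmul_eq_mul, CharP.cast_eq_zero, zero_mul, ofAdd_zero]
  refine ⟨θ, fun a => ⟨fun h => ?_, ?_⟩, ?_⟩
  · have h1 : (ZMod.castHom hd (ZMod s)) (Multiplicative.toAdd (e a)) = 0 := by
      rw [hθ] at h
      exact h
    set k : ZMod (Nat.card A) := Multiplicative.toAdd (e a) with hk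
    have h2 : ((k.val : ℕ) : ZMod s) = 0 := by
      rw [← h1, ZMod.castHom_apply, ZMod.natCast_val]
    obtain ⟨m, hm⟩ := (ZMod.natCast_eq_zero_iff k.val s).1 h2
    refine ⟨e.symm (Multiplicative.ofAdd (m : ZMod (Nat.card A))), ?_⟩
    apply e.injective
    rw [map_pow, e.apply_symm_apply, ← ofAdd_nsmul]
    apply Multiplicative.toAdd.injective
    rw [toAdd_ofAdd, nsmul_eq_mul, ← Nat.cast_mul, ← hm, ZMod.natCast_zmod_val]
  · rintro ⟨b, rfl⟩
    exact hpow b
  · intro h4 c hc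
    by_cases h2 : s = 2
    · subst h2
      have h4' : 4 ∣ Nat.card A := h4.resolve_left (fun h => h rfl)
      rw [show Nat.choose 2 2 = 1 from rfl, pow_one, hθ]
      set k : ZMod (Nat.card A) := Multiplicative.toAdd (e c) with hk
      have h3 : (2 : ℕ) • k = 0 := by
        have h5 := congrArg (fun z => Multiplicative.toAdd (e z)) hc
        simp only [map_pow, map_one, toAdd_pow, toAdd_one] at h5
        exact h5
      have h5 : ((2 * k.val : ℕ) : ZMod (Nat.card A)) = 0 := by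
        rw [Nat.cast_mul, ZMod.natCast_zmod_val, ← h3, nsmul_eq_mul]
      have h6 : Nat.card A ∣ 2 * k.val := (ZMod.natCast_eq_zero_iff _ _).1 h5
      have h7 : 2 ∣ k.val := by
        have : 4 ∣ 2 * k.val := h4'.trans h6
        omega
      have h8 : (ZMod.castHom hd (ZMod 2)) k = 0 := by
        rw [ZMod.castHom_apply, ← ZMod.natCast_val]
        exact (ZMod.natCast_eq_zero_iff _ _).2 h7
      rw [h8, ofAdd_zero]
    · have h3 : s ∣ s.choose 2 := hs.dvd_choose_self (by norm_num) (lt_of_le_of_ne hs.two_le (Ne.symm h2))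
      obtain ⟨m, hm⟩ := h3
      rw [hm, pow_mul, hc, one_pow, map_one]

theorem group_part [Finite Γ] {A F : Subgroup Γ} (hA : A.Normal) (hF : F.Normal) (hAF : A ≤ F)
    (hmax : ∀ B : Subgroup Γ, B.Normal → (∀ x ∈ B, ∀ y ∈ B, x * y = y * x) → A ≤ B → B = A)
    (hcen : ∀ x ∈ F, ∀ y ∈ A, x * y = y * x) (hcomm : ∀ x ∈ F, ∀ y ∈ F, ⁅x, y⁆ ∈ A)
    (hexp : ∃ n : ℕ, Squarefree n ∧ ∀ x ∈ F, x ^ n ∈ A) (hcyc : IsCyclic A) {s : ℕ} (hs : s.Prime) :
    ∃ N : Subgroup Γ, N.Normal ∧ A ≤ N ∧ (∀ x : Γ, x ∈ N ↔ x ∈ F ∧ x ^ s ∈ A) ∧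
      (∀ x ∈ N, (∀ y ∈ N, x * y = y * x) → x ∈ A) ∧ (∃ b : ℕ, Nat.card N = Nat.card A * s ^ (2 * b)) ∧
      ((s ≠ 2 ∨ 4 ∣ Nat.card A) → ∀ x ∈ N, ∃ c ∈ A, (x * c) ^ s = 1) := by
  have hs' : Fact s.Prime := ⟨hs⟩
  -- bilinearity in `F`
  have hl : ∀ x ∈ F, ∀ y ∈ F, ∀ z ∈ F, ⁅x * y, z⁆ = ⁅x, z⁆ * ⁅y, z⁆ := by
    intro x hx y hy z hz
    have h1 : ⁅x * y, z⁆ = x * ⁅y, z⁆ * x⁻¹ * ⁅x, z⁆ := by simp only [commutatorElement_def]; group
    rw [h1, hcen x hx _ (hcomm y hy z hz), mul_inv_cancel_right,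
      hcen _ (hAF (hcomm y hy z hz)) _ (hcomm x hx z hz)]
  have hlz : ∀ x ∈ F, ∀ z ∈ F, ∀ i : ℕ, ⁅x ^ i, z⁆ = ⁅x, z⁆ ^ i := by
    intro x hx z hz i
    let f : F →* Γ :=
      { toFun := fun k => ⁅(k : Γ), z⁆
        map_one' := by simp
        map_mul' := fun a b => hl a a.2 b b.2 z hz }
    have := map_pow f ⟨x, hx⟩ i
    exact this
  -- the subgroup `N`
  have hmul : ∀ x ∈ F, ∀ y ∈ F, x ^ s ∈ A → y ^ s ∈ A → (x * y) ^ s ∈ A := by
    intro x hx y hy h1 h2
    rw [← QuotientGroup.eq_one_iff] at h1 h2 ⊢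
    have h3 : Commute (x : Γ ⧸ A) (y : Γ ⧸ A) := by
      rw [← commutatorElement_eq_one_iff_commute]
      exact (QuotientGroup.eq_one_iff _).2 (hcomm x hx y hy)
    rw [QuotientGroup.mk_pow, QuotientGroup.mk_mul, h3.mul_pow, ← QuotientGroup.mk_pow, ← QuotientGroup.mk_pow,
      h1, h2, one_mul]
  let N : Subgroup Γ :=
    { carrier := {x | x ∈ F ∧ x ^ s ∈ A}
      mul_mem' := fun {x y} hx hy => ⟨F.mul_mem hx.1 hy.1, hmul x hx.1 y hy.1 hx.2 hy.2⟩
      one_mem' := ⟨F.one_mem, by rw [one_pow]; exact A.one_mem⟩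
      inv_mem' := fun {x} hx => ⟨F.inv_mem hx.1, by rw [inv_pow]; exact A.inv_mem hx.2⟩ }
  have hN : ∀ x : Γ, x ∈ N ↔ x ∈ F ∧ x ^ s ∈ A := fun _ => Iff.rfl
  have hNn : N.Normal := ⟨fun x hx g => (hN _).2 ⟨hF.conj_mem x hx.1 g, by
    rw [conj_pow]; exact hA.conj_mem _ hx.2 g⟩⟩
  have hAN : A ≤ N := fun x hx => ⟨hAF hx, A.pow_mem hx s⟩
  have hNF : N ≤ F := fun x hx => hx.1
  -- the centre of `N`
  have hZ : ∀ x ∈ N, (∀ y ∈ N, x * y = y * x) → x ∈ A := by
    intro x hx hc
    have hxF : ∀ y ∈ F, x * y = y * x := by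
      intro y hy
      obtain ⟨n, hn, hexp⟩ := hexp
      rw [← commutatorElement_eq_one_iff_mul_comm]
      have h1 : ⁅x, y⁆ ^ s = 1 := by
        rw [← hlz x hx.1 y hy]
        exact commutatorElement_eq_one_iff_mul_comm.2 (hcen y hy _ hx.2).symm
      -- `m` prime to `s` with `y ^ m ∈ N`
      obtain ⟨m, hm, hym⟩ : ∃ m : ℕ, s.Coprime m ∧ y ^ m ∈ N := by
        by_cases hsn : s ∣ n
        · obtain ⟨m, rfl⟩ := hsn
          refine ⟨m, Nat.coprime_of_squarefree_mul hn, F.pow_mem hy m, ?_⟩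
          rw [← pow_mul, mul_comm]
          exact hexp y hy
        · exact ⟨n, (Nat.Prime.coprime_iff_not_dvd hs).2 hsn, hAN (hexp y hy)⟩
      have h2 : ⁅x, y⁆ ^ m = 1 := by
        have h3 : ⁅y ^ m, x⁆ = 1 := commutatorElement_eq_one_iff_mul_comm.2 (hc _ hym).symm
        rw [hlz y hy x hx.1] at h3
        rw [← commutatorElement_inv, inv_pow, h3, inv_one]
      have h3 := Nat.dvd_gcd (orderOf_dvd_of_pow_eq_one h1) (orderOf_dvd_of_pow_eq_one h2)
      rw [hm.gcd_eq_one, Nat.dvd_one, orderOf_eq_one_iff] at h3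
      exact h3
    have hB : F ⊓ centralizer (F : Set Γ) = A := by
      refine hmax _ inferInstance ?_ ?_
      · intro a ha b hb
        exact (mem_centralizer_iff.1 ha.2 b hb.1).symm
      · intro a ha
        exact ⟨hAF ha, mem_centralizer_iff.2 fun b hb => hcen b hb a ha⟩
    rw [← hB]
    exact ⟨hx.1, mem_centralizer_iff.2 fun b hb => (hxF b hb).symm⟩
  have hexpN : ∀ x ∈ N, ∀ y ∈ N, ⁅x, y⁆ ^ s = 1 := by
    intro x hx y hy
    rw [← hlz x hx.1 y hy.1]
    exact commutatorElement_eq_one_iff_mul_comm.2 (hcen y hy.1 _ hx.2).symm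
  obtain ⟨b, hb⟩ := card_form hcyc hs _ N rfl hAN (fun a ha k hk => (hcen k hk.1 a ha).symm)
    (fun x hx y hy => hcomm x hx.1 y hy.1) (fun x hx => hx.2) hZ
  refine ⟨N, hNn, hAN, hN, hZ, ⟨b, hb⟩, fun h4 x hx => ?_⟩
  by_cases hab : ∀ x ∈ N, ∀ y ∈ N, ⁅x, y⁆ = 1
  · have hxA : x ∈ A := hZ x hx fun y hy => commutatorElement_eq_one_iff_mul_comm.1 (hab x hx y hy)
    exact ⟨x⁻¹, A.inv_mem hxA, by rw [mul_inv_cancel, one_pow]⟩
  push Not at hab
  obtain ⟨x1, hx1, y1, hy1, hne⟩ := hab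
  have hd : s ∣ Nat.card A := by
    have h1 : orderOf (⟨_, hcomm x1 hx1.1 y1 hy1.1⟩ : A) = s := by
      rw [← orderOf_coe]
      exact orderOf_eq_prime (hexpN x1 hx1 y1 hy1) hne
    rw [← h1]
    exact _root_.orderOf_dvd_natCard _
  obtain ⟨θ, hθ, hθc⟩ := exists_theta hcyc hs hd
  let f : N →* Multiplicative (ZMod s) :=
    { toFun := fun x => θ ⟨(x : Γ) ^ s, x.2.2⟩
      map_one' := by
        have : (⟨((1 : N) : Γ) ^ s, (1 : N).2.2⟩ : A) = 1 := Subtype.ext (one_pow s)
        rw [this, map_one]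
      map_mul' := fun x y => by
        have hc := hcomm y (hNF y.2) x (hNF x.2)
        have h1 : (⟨((x * y : N) : Γ) ^ s, (x * y).2.2⟩ : A) =
            ⟨(x : Γ) ^ s, x.2.2⟩ * ⟨(y : Γ) ^ s, y.2.2⟩ * (⟨_, hc⟩ : A) ^ s.choose 2 := by
          apply Subtype.ext
          change ((x : Γ) * y) ^ s = (x : Γ) ^ s * (y : Γ) ^ s * ⁅(y : Γ), (x : Γ)⁆ ^ s.choose 2
          apply mul_pow_two
          · rw [commutatorElement_def]; group
          · exact (hcen x (hNF x.2) _ hc).symm
          · exact (hcen y (hNF y.2) _ hc).symm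
        change θ _ = θ _ * θ _
        rw [h1, map_mul, map_mul, hθc h4 ⟨_, hc⟩ (Subtype.ext (hexpN (y : Γ) y.2 (x : Γ) x.2)), mul_one] }
  have hf : ∀ x : N, f x = 1 ↔ ∃ b ∈ A, (x : Γ) ^ s = b ^ s := by
    intro x
    rw [show f x = θ ⟨(x : Γ) ^ s, x.2.2⟩ from rfl, hθ]
    constructor
    · rintro ⟨b, hb⟩
      exact ⟨b, b.2, congrArg Subtype.val hb⟩
    · rintro ⟨b, hb, h⟩
      exact ⟨⟨b, hb⟩, Subtype.ext h⟩
  by_cases hfull : ∀ x : N, f x = 1
  · obtain ⟨b, hb, h⟩ := (hf ⟨x, hx⟩).1 (hfull _)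
    refine ⟨b⁻¹, A.inv_mem hb, ?_⟩
    have h1 : Commute x b⁻¹ := (hcen x hx.1 _ (A.inv_mem hb))
    have h2 : x ^ s = b ^ s := h
    rw [h1.mul_pow, h2, inv_pow, mul_inv_cancel]
  exfalso
  push Not at hfull
  obtain ⟨x0, hx0⟩ := hfull
  -- the kernel
  let K : Subgroup Γ := f.ker.map N.subtype
  have hK : ∀ x : Γ, x ∈ K ↔ x ∈ N ∧ ∃ b ∈ A, x ^ s = b ^ s := by
    intro x
    constructor
    · rintro ⟨y, hy, rfl⟩
      exact ⟨y.2, (hf y).1 hy⟩
    · rintro ⟨h1, h2⟩
      exact ⟨⟨x, h1⟩, (hf ⟨x, h1⟩).2 h2, rfl⟩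
  have hKn : K.Normal := ⟨fun x hx g => by
    obtain ⟨h1, b, hb, h2⟩ := (hK x).1 hx
    exact (hK _).2 ⟨hNn.conj_mem x h1 g, g * b * g⁻¹, hA.conj_mem b hb g, by rw [conj_pow, conj_pow, h2]⟩⟩
  have hAK : A ≤ K := fun x hx => (hK x).2 ⟨hAN hx, x, hx, rfl⟩
  have hKN : K ≤ N := fun x hx => ((hK x).1 hx).1
  have hZK : ∀ x ∈ K, (∀ y ∈ K, x * y = y * x) → x ∈ A := by
    intro x hx hc
    have hB : K ⊓ centralizer (K : Set Γ) = A := by
      refine hmax _ inferInstance ?_ ?_
      · intro a ha b hb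
        exact (mem_centralizer_iff.1 ha.2 b hb.1).symm
      · intro a ha
        exact ⟨hAK ha, mem_centralizer_iff.2 fun b hb => hcen b (hNF (hKN hb)) a ha⟩
    rw [← hB]
    exact ⟨hx, mem_centralizer_iff.2 fun b hb => (hc b hb).symm⟩
  obtain ⟨c, hc⟩ := card_form hcyc hs _ K rfl hAK (fun a ha k hk => (hcen k (hNF (hKN hk)) a ha).symm)
    (fun x hx y hy => hcomm x (hNF (hKN hx)) y (hNF (hKN hy))) (fun x hx => (hKN hx).2) hZK
  have hcardK : Nat.card K = Nat.card f.ker :=
    (Nat.card_congr (f.ker.equivMapOfInjective N.subtype N.subtype_injective).toEquiv).symm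
  have hcardN : Nat.card N = Nat.card K * s := by
    rw [hcardK, ← f.ker.card_mul_index, index_ker]
    congr 1
    have h1 : Nat.card (Multiplicative (ZMod s)) = s := by rw [Nat.card_congr Multiplicative.toAdd, Nat.card_zmod]
    have h2 : Nat.card f.range ∣ s := by
      have := f.range.card_subgroup_dvd_card
      rwa [h1] at this
    rcases (Nat.dvd_prime hs).1 h2 with h3 | h3
    · exfalso
      have h4 : f.range = ⊥ := Subgroup.card_eq_one.1 h3
      exact hx0 ((mem_bot).1 (h4 ▸ (⟨x0, rfl⟩ : f x0 ∈ f.range)))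
    · exact h3
  rw [hb, hc, mul_assoc, ← pow_succ] at hcardN
  have h5 := Nat.eq_of_mul_eq_mul_left Nat.card_pos hcardN
  have h6 := Nat.pow_right_injective hs.two_le h5
  omega

end group

section main

variable {p : ℕ} [Fact p.Prime] {V : Type u} [AddCommGroup V] [Module (ZMod p) V] [Finite V]

/-- an abelian normal subgroup is cyclic and semiregular -/
theorem cyclic_semi [Nontrivial V] {G : Subgroup (V ≃ₗ[ZMod p] V)} (hq : QPr G) {A : Subgroup G} (hA : A.Normal)
    (hAc : ∀ x ∈ A, ∀ y ∈ A, x * y = y * x) :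
    IsCyclic A ∧ ∀ z ∈ A, z ≠ 1 → ∀ v : V, z • v = v → v = 0 := by
  have hfin : Finite (V ≃ₗ[ZMod p] V) := Finite.of_injective (fun f : V ≃ₗ[ZMod p] V => (f : V → V)) DFunLike.coe_injective
  -- faithful on invariant additive subgroups
  have key : ∀ W : AddSubgroup V, W ≠ ⊥ → (∀ x ∈ A, ∀ w ∈ W, x • w ∈ W) → ∀ x ∈ A, (∀ w ∈ W, x • w = w) → x = 1 := by
    intro W hW hinv x hx hfix
    refine hq A hA (AddSubgroup.toZModSubmodule p W) ?_ ?_ x hx ?_
    · intro h
      apply hW
      rw [eq_bot_iff]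
      intro w hw
      have : w ∈ AddSubgroup.toZModSubmodule p W := hw
      rw [h] at this
      exact this
    · intro x hx w hw
      exact hinv x hx w hw
    · intro w hw
      exact hfix w hw
  constructor
  · obtain ⟨W, hW, hinv, hmin⟩ := Cfsg.Agent.H662.GW.exists_min (V := V) A
    obtain ⟨g, hg, hgen⟩ := Cfsg.Agent.H662.GW.exists_gen A W hW hinv hmin (fun a ha b hb w _ => by
      rw [← mul_smul, hAc a ha b hb, mul_smul])
    refine ⟨⟨⟨g, hg⟩, ?_⟩⟩
    rintro ⟨m, hm⟩
    obtain ⟨k, hk⟩ := hgen m hm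
    refine mem_zpowers_iff.2 ⟨k, Subtype.ext ?_⟩
    have h1 : (g ^ k)⁻¹ * m = 1 := key W hW hinv _ (A.mul_mem (A.inv_mem (A.zpow_mem hg k)) hm) fun w hw => by
      rw [mul_smul, hk w hw, inv_smul_smul]
    exact inv_mul_eq_one.1 h1
  · intro z hz hz1 v hv
    by_contra hv0
    let W : AddSubgroup V :=
      { carrier := {w | z • w = w}
        zero_mem' := smul_zero z
        add_mem' := fun {a b} ha hb => by
          change z • (a + b) = a + b
          rw [smul_add, ha, hb]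
        neg_mem' := fun {a} ha => by
          change z • (-a) = -a
          rw [smul_neg, ha] }
    apply hz1
    refine key W (fun h => hv0 ?_) (fun x hx w hw => ?_) z hz fun w hw => hw
    · have : v ∈ W := hv
      rw [h] at this
      exact this
    · change z • x • w = x • w
      have hw' : z • w = w := hw
      rw [← mul_smul, hAc z hz x hx, mul_smul, hw']

/-- E2: the `s`-part of `F` -/
theorem sym_of_F [Nontrivial V] {G : Subgroup (V ≃ₗ[ZMod p] V)} (hq : QPr G) (hcop : ¬ p ∣ Nat.card G)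
    {A F : Subgroup G} (hA : A.Normal) (hF : F.Normal) (hAF : A ≤ F) (hAc : ∀ x ∈ A, ∀ y ∈ A, x * y = y * x)
    (hmax : ∀ B : Subgroup G, B.Normal → (∀ x ∈ B, ∀ y ∈ B, x * y = y * x) → A ≤ B → B = A)
    (hcen : ∀ x ∈ F, ∀ y ∈ A, x * y = y * x) (hcomm : ∀ x ∈ F, ∀ y ∈ F, ⁅x, y⁆ ∈ A)
    (hexp : ∃ n : ℕ, Squarefree n ∧ ∀ x ∈ F, x ^ n ∈ A) {s : ℕ} (hs : s.Prime) :
    ∃ N : Subgroup G, N.Normal ∧ A ≤ N ∧ (∀ x : G, x ∈ N ↔ x ∈ F ∧ x ^ s ∈ A) ∧
      (N = A ∨ ∃ a : ℕ, 1 ≤ a ∧ _root_.Cfsg.Agent.H662.HT.Sym s a N V ∧ (Subgroup.center N).map N.subtype = A ∧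
        ((s ≠ 2 ∨ 4 ∣ Nat.card A) → Full s N)) := by
  have hfin : Finite (V ≃ₗ[ZMod p] V) := Finite.of_injective (fun f : V ≃ₗ[ZMod p] V => (f : V → V)) DFunLike.coe_injective
  obtain ⟨hcyc, hsemi⟩ := cyclic_semi hq hA hAc
  obtain ⟨N, hNn, hAN, hN, hZ, ⟨b, hb⟩, hfull⟩ := group_part hA hF hAF hmax hcen hcomm hexp hcyc hs
  refine ⟨N, hNn, hAN, hN, ?_⟩
  have hcenN : ∀ x : N, x ∈ center N ↔ (x : G) ∈ A := by
    intro x
    rw [mem_center_iff]
    constructor
    · intro h
      exact hZ x x.2 fun y hy => (congrArg Subtype.val (h ⟨y, hy⟩)).symm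
    · intro h y
      exact Subtype.ext (hcen y ((hN _).1 y.2).1 _ h)
  have hmap : (center N).map N.subtype = A := by
    ext x
    constructor
    · rintro ⟨y, hy, rfl⟩
      exact (hcenN y).1 hy
    · intro hx
      exact ⟨⟨x, hAN hx⟩, (hcenN _).2 hx, rfl⟩
  have hcardZ : Nat.card (center N) = Nat.card A := by
    rw [Nat.card_congr ((center N).equivMapOfInjective N.subtype N.subtype_injective).toEquiv, hmap]
  rcases Nat.eq_zero_or_pos b with hb0 | hb0
  · left
    rw [hb0, mul_zero, pow_zero, mul_one] at hb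
    exact (Subgroup.eq_of_le_of_card_ge hAN hb.le).symm
  right
  refine ⟨b, hb0, ?_, hmap, ?_⟩
  · refine ⟨inferInstance, inferInstance, hs, hb0, inferInstance, ?_, ?_, ?_, ?_, ?_, ?_⟩
    · -- `s` does not divide `|V|`
      intro h
      obtain ⟨k, hk⟩ : ∃ k, Nat.card V = p ^ k := by
        have : Module.Finite (ZMod p) V := Module.Finite.of_finite
        exact ⟨_, by rw [Module.natCard_eq_pow_finrank (K := ZMod p) (V := V), Nat.card_zmod]⟩
      rw [hk] at h
      have h1 : s = p := (Nat.prime_dvd_prime_iff_eq hs Fact.out).1 (hs.dvd_of_dvd_pow h)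
      have h2 : s ∣ Nat.card N := by
        rw [hb]
        exact Dvd.dvd.mul_left (dvd_pow_self s (by omega)) _
      exact hcop (h1.symm.dvd.trans (h2.trans (Subgroup.card_subgroup_dvd_card N)))
    · let f : center N →* A :=
        { toFun := fun x => ⟨((x : N) : G), (hcenN _).1 x.2⟩
          map_one' := rfl
          map_mul' := fun _ _ => rfl }
      exact isCyclic_of_injective f fun x y h => Subtype.ext (Subtype.ext (congrArg (fun z : A => (z : G)) h))
    · intro x hx hx1 v hv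
      exact hsemi x ((hcenN x).1 hx) (fun h => hx1 (Subtype.ext h)) v hv
    · intro x y
      exact (hcenN _).2 (hcomm x ((hN _).1 x.2).1 y ((hN _).1 y.2).1)
    · intro x
      exact (hcenN _).2 ((hN _).1 x.2).2
    · rw [hcardZ, hb]
  · intro h4 x
    obtain ⟨c, hc, h⟩ := hfull h4 x x.2
    exact ⟨⟨c, hAN hc⟩, (hcenN _).2 hc, Subtype.ext h⟩

end main

end Cfsg.Agent.H298.HT
end

-- part: H583/HT/TwoPart
section
/-!
# E3 : the Sylow 2-subgroup of a group of symplectic type (S3540, S3577; helper583 for helper662)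
-/

set_option autoImplicit false

open scoped commutatorElement

namespace Cfsg.Agent.H583.HT

open Cfsg.Agent.H662.HT

universe u v

section abs

variable {N : Type u} {V : Type v} [Group N] [AddCommGroup V] [DistribMulAction N V] {a : ℕ}

/-- a nontrivial commutator -/
theorem exists_comm (H : Sym 2 a N V) : ∃ x y : N, ⁅x, y⁆ ≠ 1 := by
  by_contra hcon
  push Not at hcon
  have := H.fin
  have h1 : Subgroup.center N = ⊤ := by
    rw [eq_top_iff]
    intro x _
    rw [Subgroup.mem_center_iff]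
    intro y
    exact commutatorElement_eq_one_iff_mul_comm.1 (hcon y x)
  have h2 := H.card
  have h3 : Nat.card (Subgroup.center N) = Nat.card N := by rw [h1, Subgroup.card_top]
  rw [h3] at h2
  have h4 : 0 < Nat.card N := Nat.card_pos
  have h5 : 2 ^ (2 * a) = 1 := by
    apply Nat.eq_of_mul_eq_mul_left h4
    omega
  have h6 := H.ha
  rcases pow_eq_one_iff.1 h5 with h7 | h7 <;> omega

theorem sq_eq (H : Sym 2 a N V) (x y : N) : (x * y) ^ 2 = x ^ 2 * y ^ 2 * ⁅y, x⁆ := by
  have h1 := Subgroup.mem_center_iff.1 (H.comm y x)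
  have h2 : ⁅y, x⁆ * (x * y) = y * x := by rw [commutatorElement_def]; group
  have h3 := H.comm y x
  calc (x * y) ^ 2 = x * (y * x) * y := by rw [pow_two]; group
    _ = x * (⁅y, x⁆ * (x * y)) * y := by rw [h2]
    _ = (x * ⁅y, x⁆) * (x * y * y) := by group
    _ = (⁅y, x⁆ * x) * (x * y * y) := by rw [h1 x]
    _ = ⁅y, x⁆ * (x ^ 2 * y ^ 2) := by rw [pow_two, pow_two]; group
    _ = x ^ 2 * y ^ 2 * ⁅y, x⁆ := (h1 _).symm

theorem four_mul (H : Sym 2 a N V) {x y : N} (hx : x ^ 4 = 1) (hy : y ^ 4 = 1) : (x * y) ^ 4 = 1 := by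
  have h1 := Subgroup.mem_center_iff.1 (H.comm y x)
  have h2 := Subgroup.mem_center_iff.1 (H.exp x)
  have h3 := Subgroup.mem_center_iff.1 (H.exp y)
  have h4 : (x * y) ^ 4 = ((x * y) ^ 2) ^ 2 := by rw [← pow_mul]
  have h5 : Commute (x ^ 2 * y ^ 2) ⁅y, x⁆ := h1 _
  have h6 : Commute (x ^ 2) (y ^ 2) := h3 _
  rw [h4, sq_eq H, h5.mul_pow, h6.mul_pow, ← pow_mul, ← pow_mul, hx, hy, H.comm_pow, one_mul, one_mul]

/-- the elements of `2`-power order -/
def E0 (H : Sym 2 a N V) : Subgroup N where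
  carrier := {x | x ^ 4 = 1}
  mul_mem' := fun hx hy => four_mul H hx hy
  one_mem' := one_pow 4
  inv_mem' := fun {x} hx => by
    change (x⁻¹) ^ 4 = 1
    rw [inv_pow, show x ^ 4 = 1 from hx, inv_one]

theorem two_dvd (H : Sym 2 a N V) : 2 ∣ Nat.card (Subgroup.center N) := by
  obtain ⟨x, y, hxy⟩ := exists_comm H
  have h1 : orderOf (⟨⁅x, y⁆, H.comm x y⟩ : Subgroup.center N) = 2 := by
    apply orderOf_eq_prime
    · exact Subtype.ext (H.comm_pow x y)
    · exact fun h => hxy (congrArg Subtype.val h)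
  rw [← h1]
  exact orderOf_dvd_natCard _

/-- the elements of the centre of order dividing four -/
theorem center_four (H : Sym 2 a N V) (h4 : ¬ 4 ∣ Nat.card (Subgroup.center N)) :
    ∃ c : N, c ∈ Subgroup.center N ∧ c ≠ 1 ∧ c ^ 4 = 1 ∧ ∀ x ∈ Subgroup.center N, x ^ 4 = 1 → x = 1 ∨ x = c := by
  have := H.fin
  have := H.cyc
  obtain ⟨x, y, hxy⟩ := exists_comm H
  have hc2 : ⁅x, y⁆ ^ 2 = 1 := H.comm_pow x y
  refine ⟨⁅x, y⁆, H.comm x y, hxy, ?_, ?_⟩
  · rw [show 4 = 2 * 2 by norm_num, pow_mul, hc2, one_pow]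
  · intro w hw hw4
    -- `w ^ 2 = 1`
    have h1 : w ^ 2 = 1 := by
      have h2 : orderOf (⟨w, hw⟩ : Subgroup.center N) ∣ 4 := orderOf_dvd_of_pow_eq_one (Subtype.ext hw4)
      have h3 : orderOf (⟨w, hw⟩ : Subgroup.center N) ∣ Nat.card (Subgroup.center N) := orderOf_dvd_natCard _
      have h5 : orderOf (⟨w, hw⟩ : Subgroup.center N) ∣ 2 := by
        obtain ⟨k, hk, e⟩ := (Nat.dvd_prime_pow Nat.prime_two (m := 2)).1 (by norm_num; exact h2)
        rw [e] at h3 ⊢
        have h6 : k ≠ 2 := by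
          rintro rfl
          exact h4 (by simpa only [_root_.Nat.card_eq_fintype_card, _root_.Nat.reducePow] using h3)
        have h7 : k ≤ 1 := by omega
        simpa only [_root_.pow_one] using pow_dvd_pow 2 h7
      have h6 := orderOf_dvd_iff_pow_eq_one.1 h5
      exact congrArg Subtype.val h6
    by_cases hw1 : w = 1
    · exact Or.inl hw1
    · right
      -- a cyclic group has at most one involution
      by_contra hne
      classical
      have := Fintype.ofFinite (Subgroup.center N)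
      have h2 := IsCyclic.card_pow_eq_one_le (α := Subgroup.center N) (n := 2) (by norm_num)
      have h3 : ({1, ⟨w, hw⟩, ⟨⁅x, y⁆, H.comm x y⟩} : Finset (Subgroup.center N)) ⊆
          Finset.univ.filter fun z : Subgroup.center N => z ^ 2 = 1 := by
        intro z hz
        rw [Finset.mem_filter]
        refine ⟨Finset.mem_univ _, ?_⟩
        simp only [Finset.mem_insert, Finset.mem_singleton] at hz
        rcases hz with rfl | rfl | rfl
        · exact one_pow 2
        · exact Subtype.ext h1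
        · exact Subtype.ext hc2
      have h5 := Finset.card_le_card h3
      rw [Finset.card_insert_of_notMem, Finset.card_insert_of_notMem, Finset.card_singleton] at h5
      · omega
      · rw [Finset.mem_singleton]
        exact fun h => hne (congrArg Subtype.val h)
      · simp only [Finset.mem_insert, Finset.mem_singleton, not_or]
        exact ⟨fun h => hw1 (congrArg Subtype.val h).symm, fun h => hxy (congrArg Subtype.val h).symm⟩

theorem sup_eq (H : Sym 2 a N V) (h4 : ¬ 4 ∣ Nat.card (Subgroup.center N)) : E0 H ⊔ Subgroup.center N = ⊤ := by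
  have := H.fin
  obtain ⟨k, hk⟩ := two_dvd H
  have hodd : ¬ 2 ∣ k := by
    rintro ⟨j, rfl⟩
    exact h4 ⟨j, by rw [hk]; ring⟩
  rw [eq_top_iff]
  intro x _
  -- `x = x ^ (k * k) * x ^ (1 - k * k)`
  have h1 : (x ^ (k * k)) ^ 4 = 1 := by
    have h2 : (⟨x ^ 2, H.exp x⟩ : Subgroup.center N) ^ Nat.card (Subgroup.center N) = 1 := pow_card_eq_one'
    have h3 : (x ^ 2) ^ (2 * k) = 1 := by rw [← hk]; exact congrArg Subtype.val h2
    calc (x ^ (k * k)) ^ 4 = ((x ^ 2) ^ (2 * k)) ^ k := by rw [← pow_mul, ← pow_mul, ← pow_mul]; congr 1; ring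
      _ = 1 := by rw [h3, one_pow]
  obtain ⟨j, hj⟩ : ∃ j, k * k = 2 * j + 1 := by
    have h2 : ¬ 2 ∣ k * k := fun h => hodd (by
      rcases (Nat.prime_two.dvd_mul).1 h with h | h <;> exact h)
    exact ⟨k * k / 2, by omega⟩
  have h2 : x ^ (2 * j) ∈ Subgroup.center N := by
    rw [pow_mul]
    exact Subgroup.pow_mem _ (H.exp x) j
  have h3 : x = x ^ (k * k) * (x ^ (2 * j))⁻¹ := by
    rw [hj, pow_succ, (Commute.refl x).pow_left (2 * j) |>.eq, mul_assoc, mul_inv_cancel, mul_one]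
  rw [h3]
  exact Subgroup.mul_mem_sup h1 (Subgroup.inv_mem _ h2)

theorem card_E0 (H : Sym 2 a N V) (h4 : ¬ 4 ∣ Nat.card (Subgroup.center N)) : Nat.card (E0 H) = 2 * 2 ^ (2 * a) := by
  have := H.fin
  obtain ⟨c, hc, hc1, hc4, huniq⟩ := center_four H h4
  have h1 : Nat.card ((Subgroup.center N ⊓ E0 H : Subgroup N)) = 2 := by
    rw [Nat.card_eq_two_iff]
    refine ⟨1, ⟨c, hc, hc4⟩, fun h => hc1 (congrArg Subtype.val h).symm, ?_⟩
    ext ⟨w, hw, hw'⟩
    simp only [Set.mem_insert_iff, Set.mem_singleton_iff, Set.mem_univ, iff_true]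
    rcases huniq w hw hw' with h | h
    · exact Or.inl (Subtype.ext h)
    · exact Or.inr (Subtype.ext h)
  have h2 := Subgroup.relIndex_inf_mul_relIndex (⊥ : Subgroup N) (Subgroup.center N) (E0 H)
  rw [bot_inf_eq, Subgroup.relIndex_bot_left, Subgroup.relIndex_bot_left, h1,
    ← Subgroup.relIndex_sup_right (H := E0 H) (K := Subgroup.center N), sup_eq H h4, Subgroup.relIndex_top_right] at h2
  have h3 := Subgroup.card_mul_index (Subgroup.center N)
  rw [H.card] at h3
  have h5 : 0 < Nat.card (Subgroup.center N) := Nat.card_pos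
  rw [← h2, Nat.eq_of_mul_eq_mul_left h5 h3]

theorem comm_of_E0 (H : Sym 2 a N V) (h4 : ¬ 4 ∣ Nat.card (Subgroup.center N)) {x : N}
    (hx : ∀ y ∈ E0 H, y * x = x * y) : x ∈ Subgroup.center N := by
  have h1 : E0 H ⊔ Subgroup.center N ≤ Subgroup.centralizer {x} := by
    rw [sup_le_iff]
    constructor
    · intro y hy
      rw [Subgroup.mem_centralizer_singleton_iff]
      exact hx y hy
    · intro y hy
      rw [Subgroup.mem_centralizer_singleton_iff]
      exact (Subgroup.mem_center_iff.1 hy x).symm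
  rw [sup_eq H h4] at h1
  rw [Subgroup.mem_center_iff]
  intro y
  exact Subgroup.mem_centralizer_singleton_iff.1 (h1 (Subgroup.mem_top y))

end abs

variable {p : ℕ} [Fact p.Prime] {V : Type u} [AddCommGroup V] [Module (ZMod p) V] [Finite V]

/-- **E3**: the Sylow 2-subgroup when `|A|` is not divisible by 4 -/
theorem two_part {G : Subgroup (V ≃ₗ[ZMod p] V)} {A N : Subgroup G} (_hA : A.Normal) (hN : N.Normal) {a : ℕ}
    (H : Sym 2 a N V) (hc : (Subgroup.center N).map N.subtype = A) (h4 : ¬ 4 ∣ Nat.card A) :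
    ∃ E : Subgroup G, E.Normal ∧ E ≤ N ∧ Sym 2 a E V ∧ Nat.card (Subgroup.center E) = 2 := by
  have hfin := H.fin
  have hz : Nat.card (Subgroup.center N) = Nat.card A := by
    rw [← hc]
    exact Nat.card_congr ((Subgroup.center N).equivMapOfInjective N.subtype N.subtype_injective).toEquiv
  rw [← hz] at h4
  have hle : (E0 H).map N.subtype ≤ N := Subgroup.map_subtype_le _
  have hmem : ∀ x : G, x ∈ (E0 H).map N.subtype ↔ x ∈ N ∧ x ^ 4 = 1 := by
    intro x
    constructor
    · rintro ⟨y, hy, rfl⟩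
      exact ⟨y.2, congrArg Subtype.val (show y ^ 4 = 1 from hy)⟩
    · rintro ⟨h1, h2⟩
      exact ⟨⟨x, h1⟩, Subtype.ext h2, rfl⟩
  have hcardE : Nat.card ((E0 H).map N.subtype) = 2 * 2 ^ (2 * a) := by
    rw [← card_E0 H h4]
    exact (Nat.card_congr ((E0 H).equivMapOfInjective N.subtype N.subtype_injective).toEquiv).symm
  -- the centre
  have hcen : ∀ x : (E0 H).map N.subtype, x ∈ Subgroup.center ((E0 H).map N.subtype) ↔
      (⟨x.1, hle x.2⟩ : N) ∈ Subgroup.center N := by
    intro x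
    constructor
    · intro h
      apply comm_of_E0 H h4
      intro y hy
      have h1 := Subgroup.mem_center_iff.1 h ⟨y.1, ⟨y, hy, rfl⟩⟩
      exact Subtype.ext (congrArg (fun z : (E0 H).map N.subtype => (z : G)) h1)
    · intro h
      rw [Subgroup.mem_center_iff]
      intro y
      have h1 := Subgroup.mem_center_iff.1 h ⟨y.1, hle y.2⟩
      exact Subtype.ext (congrArg (fun z : N => (z : G)) h1)
  obtain ⟨c, hcc, hc1, hc4, huniq⟩ := center_four H h4
  have hcard2 : Nat.card (Subgroup.center ((E0 H).map N.subtype)) = 2 := by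
    rw [Nat.card_eq_two_iff]
    have hcE : (c : G) ∈ (E0 H).map N.subtype := ⟨c, hc4, rfl⟩
    refine ⟨1, ⟨⟨c, hcE⟩, (hcen _).2 hcc⟩, ?_, ?_⟩
    · intro h
      apply hc1
      have h1 := congrArg (fun z : Subgroup.center ((E0 H).map N.subtype) => ((z : (E0 H).map N.subtype) : G)) h
      exact Subtype.ext h1.symm
    · ext ⟨w, hw⟩
      simp only [Set.mem_insert_iff, Set.mem_singleton_iff, Set.mem_univ, iff_true]
      rcases huniq _ ((hcen w).1 hw) (Subtype.ext ((hmem w.1).1 w.2).2) with h | h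
      · left
        apply Subtype.ext
        apply Subtype.ext
        exact congrArg (fun z : N => (z : G)) h
      · right
        apply Subtype.ext
        apply Subtype.ext
        exact congrArg (fun z : N => (z : G)) h
  refine ⟨(E0 H).map N.subtype, ⟨?_⟩, hle, ?_, hcard2⟩
  · intro x hx g
    rw [hmem] at hx ⊢
    refine ⟨hN.conj_mem x hx.1 g, ?_⟩
    rw [conj_pow, hx.2, mul_one, mul_inv_cancel]
  · refine ⟨inferInstance, H.finV, H.hs, H.ha, H.nt, H.cop, ?_, ?_, ?_, ?_, ?_⟩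
    · have : Fact (Nat.Prime 2) := ⟨Nat.prime_two⟩
      exact isCyclic_of_prime_card hcard2
    · intro x hx hx1 v hv
      exact H.semi ⟨x.1, hle x.2⟩ ((hcen x).1 hx) (fun h => hx1 (Subtype.ext (congrArg (fun z : N => (z : G)) h))) v hv
    · intro x y
      rw [hcen]
      exact H.comm ⟨x.1, hle x.2⟩ ⟨y.1, hle y.2⟩
    · intro x
      rw [hcen]
      exact H.exp ⟨x.1, hle x.2⟩
    · rw [hcardE, hcard2]

end Cfsg.Agent.H583.HT
end
end

-- part: H813/HT/A1
section
set_option linter.all false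
open scoped Cfsg.Agent.FastGrp

/-!
# Groups of symplectic type: sizes of centralizers and fixed point spaces (helper813, task HT-E A1)
-/

set_option autoImplicit false

open scoped commutatorElement

namespace Cfsg.Agent.H813.HT

open Cfsg.Agent.H662.HT

universe u v

theorem exists_embed (A : Type u) [Group A] [Finite A] [IsCyclic A] : ∃ ι : A →* ℂˣ, Function.Injective ι := by
  have hne : NeZero (Nat.card A) := ⟨Nat.card_pos.ne'⟩
  have hc : Nat.card A = Nat.card (rootsOfUnity (Nat.card A) ℂ) := by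
    rw [Complex.card_rootsOfUnity]
  exact ⟨(rootsOfUnity (Nat.card A) ℂ).subtype.comp (mulEquivOfCyclicCardEq hc).toMonoidHom,
    Subtype.val_injective.comp (mulEquivOfCyclicCardEq hc).injective⟩

variable {s a : ℕ} {N : Type u} {V : Type v} [Group N] [AddCommGroup V] [DistribMulAction N V]

theorem Sym_card_cen (H : Sym s a N V) {S : Subgroup N} (hS : S ⊓ Subgroup.center N = ⊥) :
    Nat.card (Subgroup.centralizer (S : Set N)) * Nat.card S = Nat.card N := by
  have := H.fin
  have := H.cyc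
  obtain ⟨ι, hι⟩ := exists_embed (Subgroup.center N)
  let iS : CommGroup S :=
    { (inferInstance : Group S) with mul_comm := fun x y => Subtype.ext (H.commS hS x.2 y.2) }
  have hmul : ∀ (n : N) (x y : S), ι ⟨⁅n, ((x * y : S) : N)⁆, H.comm n _⟩ =
      ι ⟨⁅n, (x : N)⁆, H.comm n x⟩ * ι ⟨⁅n, (y : N)⁆, H.comm n y⟩ := by
    intro n x y
    rw [← map_mul]
    congr 1
    exact Subtype.ext (H.comm_mul_right n x y)
  have hmul' : ∀ (n m : N) (x : S), ι ⟨⁅n * m, (x : N)⁆, H.comm _ _⟩ =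
      ι ⟨⁅n, (x : N)⁆, H.comm n x⟩ * ι ⟨⁅m, (x : N)⁆, H.comm m x⟩ := by
    intro n m x
    rw [← map_mul]
    congr 1
    exact Subtype.ext (H.comm_mul_left n m x)
  let f : N → (S →* ℂˣ) := fun n => MonoidHom.mk' (fun x => ι ⟨⁅n, (x : N)⁆, H.comm n x⟩) (hmul n)
  let φ : N →* (S →* ℂˣ) := MonoidHom.mk' f (fun n m => by
    ext x : 1
    exact hmul' n m x)
  have hφ : ∀ (n : N) (x : S), φ n x = ι ⟨⁅n, (x : N)⁆, H.comm n x⟩ := fun _ _ => rfl
  have hφ1 : ∀ (n : N) (x : S), φ n x = 1 ↔ n * x = x * n := by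
    intro n x
    rw [hφ, map_eq_one_iff ι hι, Subtype.ext_iff]
    exact commutatorElement_eq_one_iff_mul_comm
  have hker : φ.ker = Subgroup.centralizer (S : Set N) := by
    ext n
    rw [MonoidHom.mem_ker, Subgroup.mem_centralizer_iff]
    constructor
    · intro h x hx
      exact ((hφ1 n ⟨x, hx⟩).1 (by rw [h]; rfl)).symm
    · intro h
      ext x : 1
      exact (hφ1 n x).2 (h x x.2).symm
  have hexp : NeZero (Monoid.exponent S) := ⟨Monoid.exponent_ne_zero_of_finite⟩
  have hrange : φ.range = ⊤ := by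
    have h1 : (CommGroup.subgroupOrderIsoSubgroupMonoidHom S ℂ).symm (OrderDual.toDual φ.range) = ⊥ := by
      rw [eq_bot_iff]
      intro x hx
      rw [CommGroup.mem_subgroupOrderIsoSubgroupMonoidHom_symm_iff] at hx
      have h3 : (x : N) ∈ S ⊓ Subgroup.center N := by
        refine ⟨x.2, Subgroup.mem_center_iff.2 fun n => ?_⟩
        exact (hφ1 n x).1 (hx _ ⟨n, rfl⟩)
      rw [hS, Subgroup.mem_bot] at h3
      exact Subgroup.mem_bot.2 (Subtype.ext h3)
    rw [OrderIso.symm_apply_eq] at h1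
    rw [eq_top_iff]
    intro χ _
    have h3 : χ ∈ (CommGroup.subgroupOrderIsoSubgroupMonoidHom S ℂ ⊥).ofDual := by
      rw [CommGroup.mem_subgroupOrderIsoSubgroupMonoidHom_iff]
      intro g hg
      rw [Subgroup.mem_bot.1 hg, map_one]
    rw [← h1] at h3
    exact h3
  have h1 : Nat.card φ.range = Nat.card S := by
    rw [hrange, Nat.card_congr Subgroup.topEquiv.toEquiv]
    exact CommGroup.card_monoidHom_of_hasEnoughRootsOfUnity S ℂ
  rw [← hker, ← h1, ← Nat.card_congr (QuotientGroup.quotientKerEquivRange φ).toEquiv, mul_comm]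
  exact (Subgroup.card_eq_card_quotient_mul_card_subgroup φ.ker).symm

theorem Sym_card_quot (H : Sym s a N V) {S : Subgroup N} (hS : S ⊓ Subgroup.center N = ⊥) :
    Nat.card (N ⧸ Subgroup.centralizer (S : Set N)) = Nat.card S := by
  have := H.fin
  have h1 := Sym_card_cen H hS
  rw [Subgroup.card_eq_card_quotient_mul_card_subgroup (Subgroup.centralizer (S : Set N)), mul_comm] at h1
  exact (Nat.eq_of_mul_eq_mul_right Nat.card_pos h1).symm

theorem Sym_isPGroup (H : Sym s a N V) {S : Subgroup N} (hS : S ⊓ Subgroup.center N = ⊥) : IsPGroup s S :=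
  fun x => ⟨1, by rw [pow_one]; exact Subtype.ext (H.expS hS x.2)⟩

theorem Sym_card_pow (H : Sym s a N V) {S : Subgroup N} (hS : S ⊓ Subgroup.center N = ⊥) :
    ∃ j, Nat.card S = s ^ j := by
  have := H.fin
  have : Fact s.Prime := ⟨H.hs⟩
  exact IsPGroup.iff_card.1 (Sym_isPGroup H hS)

theorem Sym_card_eq (H : Sym s a N V) {S : Subgroup N} (hS : S ⊓ Subgroup.center N = ⊥) :
    ∃ j ≤ a, Nat.card S = s ^ j := by
  have := H.fin
  obtain ⟨j, hj⟩ := Sym_card_pow H hS
  refine ⟨j, ?_, hj⟩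
  have h1 := Sym_card_cen H hS
  -- the map `S × Z → C`
  let f : S × Subgroup.center N → Subgroup.centralizer (S : Set N) := fun p => ⟨p.1 * p.2, by
    rw [Subgroup.mem_centralizer_iff]
    intro x hx
    have h3 : x * p.1 = p.1 * x := H.commS hS hx p.1.2
    have h4 : x * (p.2 : N) = p.2 * x := Subgroup.mem_center_iff.1 p.2.2 x
    rw [← mul_assoc, h3, mul_assoc, h4, mul_assoc]⟩
  have hf : Function.Injective f := by
    rintro ⟨x, c⟩ ⟨y, d⟩ h
    have h3 : (x : N) * c = y * d := congrArg Subtype.val h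
    have h4 : (y : N)⁻¹ * x = d * (c : N)⁻¹ := by
      rw [inv_mul_eq_iff_eq_mul, ← mul_assoc, eq_mul_inv_iff_mul_eq, h3]
    have h5 : (y : N)⁻¹ * x ∈ S ⊓ Subgroup.center N :=
      ⟨S.mul_mem (S.inv_mem y.2) x.2, by
        rw [h4]
        exact (Subgroup.center N).mul_mem d.2 ((Subgroup.center N).inv_mem c.2)⟩
    rw [hS, Subgroup.mem_bot] at h5
    rw [h5] at h4
    have h6 : y = x := Subtype.ext (inv_mul_eq_one.1 h5)
    have h7 : d = c := Subtype.ext (mul_inv_eq_one.1 h4.symm)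
    rw [h6, h7]
  have h3 : Nat.card S * Nat.card (Subgroup.center N) ≤ Nat.card (Subgroup.centralizer (S : Set N)) := by
    rw [← Nat.card_prod]
    exact Nat.card_le_card_of_injective f hf
  have h4 : Nat.card S * Nat.card S * Nat.card (Subgroup.center N) ≤ s ^ (2 * a) * Nat.card (Subgroup.center N) := by
    rw [mul_comm (s ^ (2 * a)), ← H.card, ← h1]
    calc Nat.card S * Nat.card S * Nat.card (Subgroup.center N)
        = Nat.card S * Nat.card (Subgroup.center N) * Nat.card S := by ring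
      _ ≤ _ := Nat.mul_le_mul_right _ h3
  have h5 := Nat.le_of_mul_le_mul_right h4 Nat.card_pos
  rw [hj, ← pow_add] at h5
  have h6 := (Nat.pow_le_pow_iff_right H.hs.one_lt).1 h5
  omega

theorem comm_coset (H : Sym s a N V) {S : Subgroup N} {n m x : N} (hx : x ∈ S)
    (h : n⁻¹ * m ∈ Subgroup.centralizer (S : Set N)) : ⁅m, x⁆ = ⁅n, x⁆ := by
  have h1 : ⁅n * (n⁻¹ * m), x⁆ = ⁅n, x⁆ * ⁅n⁻¹ * m, x⁆ := H.comm_mul_left _ _ _
  rw [mul_inv_cancel_left] at h1
  rw [h1, commutatorElement_eq_one_iff_mul_comm.2 (Subgroup.mem_centralizer_iff.1 h x hx).symm, mul_one]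

theorem Sym_card_fixp (H : Sym s a N V) {S : Subgroup N} (hS : S ⊓ Subgroup.center N = ⊥) :
    Nat.card V = Nat.card (fixp V S) ^ Nat.card S := by
  classical
  have := H.fin
  have := H.finV
  set C := Subgroup.centralizer (S : Set N) with hC
  have hq := Sym_card_quot H hS
  rw [← hC] at hq
  let _ : Fintype (N ⧸ C) := Fintype.ofFinite _
  let _ : Fintype S := Fintype.ofFinite _
  let r : N ⧸ C → N := Quotient.out
  have hr : ∀ q : N ⧸ C, (r q : N ⧸ C) = q := fun q => QuotientGroup.out_eq' q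
  have hcop : (Nat.card V).Coprime (Nat.card S) := by
    obtain ⟨j, hj⟩ := Sym_card_pow H hS
    rw [hj]
    exact Nat.Coprime.pow_right j ((Nat.Prime.coprime_iff_not_dvd H.hs).2 H.cop).symm
  have hsurjS : ∀ v : V, ∃ w : V, Nat.card S • w = v := fun v => (nsmulCoprime hcop).surjective v
  have hinjS : ∀ v : V, Nat.card S • v = 0 → v = 0 := by
    intro v hv
    apply (nsmulCoprime hcop).injective
    show Nat.card S • v = Nat.card S • (0 : V)
    rw [hv, smul_zero]
  -- the basic identity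
  have hid : ∀ (m n : N) (x : S) (u : V), (x : N) • u = u →
      (m * x * m⁻¹) • n • u = ⁅n⁻¹ * m, (x : N)⁆ • n • u := by
    intro m n x u hu
    have h1 : ⁅n * (n⁻¹ * m), (x : N)⁆ = ⁅n, (x : N)⁆ * ⁅n⁻¹ * m, (x : N)⁆ := H.comm_mul_left _ _ _
    rw [mul_inv_cancel_left] at h1
    have h3 : m * x * m⁻¹ = ⁅n⁻¹ * m, (x : N)⁆ * (n * x * n⁻¹) := by
      have h4 := Subgroup.mem_center_iff.1 (H.comm (n⁻¹ * m) x) ⁅n, (x : N)⁆
      have h5 : m * x * m⁻¹ = ⁅m, (x : N)⁆ * x := by rw [commutatorElement_def]; group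
      have h6 : n * x * n⁻¹ = ⁅n, (x : N)⁆ * x := by rw [commutatorElement_def]; group
      rw [h5, h1, h6, h4, mul_assoc]
    rw [h3, mul_smul, ← mul_smul (n * x * n⁻¹) n, inv_mul_cancel_right, mul_smul n, hu]
  -- orthogonality over `S`
  have horS : ∀ (k : N) (w : V), k ∉ C → ∑ x : S, ⁅k, (x : N)⁆ • w = 0 := by
    intro k w hk
    rw [hC, Subgroup.mem_centralizer_iff] at hk
    push Not at hk
    obtain ⟨x₀, hx₀, hne⟩ := hk
    have h1 : ⁅k, x₀⁆ ≠ 1 := fun h => hne (commutatorElement_eq_one_iff_mul_comm.1 h).symm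
    apply H.semi _ (H.comm k x₀) h1
    rw [Finset.smul_sum]
    refine Fintype.sum_equiv (Equiv.mulLeft (⟨x₀, hx₀⟩ : S)) _ _ fun x => ?_
    rw [← mul_smul, ← H.comm_mul_right]
    rfl
  -- orthogonality over the cosets
  have horQ : ∀ (x : S) (w : V), x ≠ 1 → ∑ q : N ⧸ C, ⁅r q, (x : N)⁆ • w = 0 := by
    intro x w hx
    have h0 : (x : N) ∉ Subgroup.center N := by
      intro h
      apply hx
      have h1 : (x : N) ∈ S ⊓ Subgroup.center N := ⟨x.2, h⟩
      rw [hS, Subgroup.mem_bot] at h1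
      exact Subtype.ext h1
    rw [Subgroup.mem_center_iff] at h0
    push Not at h0
    obtain ⟨m, hm⟩ := h0
    have h1 : ⁅m, (x : N)⁆ ≠ 1 := fun h => hm (commutatorElement_eq_one_iff_mul_comm.1 h)
    apply H.semi _ (H.comm m x) h1
    rw [Finset.smul_sum]
    refine Fintype.sum_equiv (MulAction.toPerm m) _ _ fun q => ?_
    rw [← mul_smul, ← H.comm_mul_left]
    congr 1
    apply comm_coset H x.2
    rw [← hC, ← QuotientGroup.eq, hr]
    show m • q = ((m * r q : N) : N ⧸ C)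
    nth_rewrite 1 [← hr q]
    rfl
  let E : (N ⧸ C → fixp V S) → V := fun u => ∑ q, r q • (u q : V)
  have hE : Function.Bijective E := by
    constructor
    · intro u u' huu
      have h0 : ∑ q, r q • ((u q - u' q : fixp V S) : V) = 0 := by
        have h1 : ∑ q, r q • ((u q - u' q : fixp V S) : V) = E u - E u' := by
          show _ = ∑ q, r q • (u q : V) - ∑ q, r q • (u' q : V)
          rw [← Finset.sum_sub_distrib]
          refine Finset.sum_congr rfl fun q _ => ?_
          rw [← smul_sub]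
          rfl
        rw [h1, huu, sub_self]
      funext q'
      have h1 : ∑ x : S, (r q' * x * (r q')⁻¹) • (∑ q, r q • ((u q - u' q : fixp V S) : V)) = 0 := by
        rw [h0]
        simp
      have h3 : ∑ x : S, (r q' * x * (r q')⁻¹) • (∑ q, r q • ((u q - u' q : fixp V S) : V)) =
          ∑ q, ∑ x : S, ⁅(r q)⁻¹ * r q', (x : N)⁆ • r q • ((u q - u' q : fixp V S) : V) := by
        rw [Finset.sum_comm]
        refine Finset.sum_congr rfl fun x _ => ?_
        rw [Finset.smul_sum]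
        refine Finset.sum_congr rfl fun q _ => ?_
        exact hid _ _ _ _ ((u q - u' q : fixp V S).2 x x.2)
      rw [h3, Finset.sum_eq_single q'] at h1
      · have h4 : ∀ x : S, ⁅(r q')⁻¹ * r q', (x : N)⁆ • r q' • ((u q' - u' q' : fixp V S) : V) =
            r q' • ((u q' - u' q' : fixp V S) : V) := by
          intro x
          rw [inv_mul_cancel, commutatorElement_one_left, one_smul]
        rw [Finset.sum_congr rfl (fun x _ => h4 x), Finset.sum_const, Finset.card_univ,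
          ← Nat.card_eq_fintype_card] at h1
        have h5 := hinjS _ h1
        rw [smul_eq_zero_iff_eq] at h5
        exact sub_eq_zero.1 (Subtype.ext h5)
      · intro q _ hqq
        apply horS
        intro h
        apply hqq
        rw [← hr q, ← hr q', QuotientGroup.eq]
        exact h
      · intro h
        exact absurd (Finset.mem_univ _) h
    · intro v
      obtain ⟨w, rfl⟩ := hsurjS v
      refine ⟨fun q => ⟨∑ x : S, (x : N) • (r q)⁻¹ • w, ?_⟩, ?_⟩
      · intro y hy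
        rw [Finset.smul_sum]
        refine Fintype.sum_equiv (Equiv.mulLeft (⟨y, hy⟩ : S)) _ _ fun x => ?_
        rw [← mul_smul]
        rfl
      · show ∑ q, r q • ∑ x : S, (x : N) • (r q)⁻¹ • w = _
        have h1 : ∑ q, r q • ∑ x : S, (x : N) • (r q)⁻¹ • w = ∑ x : S, ∑ q, ⁅r q, (x : N)⁆ • (x : N) • w := by
          rw [Finset.sum_comm]
          refine Finset.sum_congr rfl fun q _ => ?_
          rw [Finset.smul_sum]
          refine Finset.sum_congr rfl fun x _ => ?_
          rw [← mul_smul, ← mul_smul, ← mul_smul]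
          congr 1
          rw [commutatorElement_def]
          group
        rw [h1, Finset.sum_eq_single (1 : S)]
        · have h4 : ∀ q : N ⧸ C, ⁅r q, ((1 : S) : N)⁆ • ((1 : S) : N) • w = w := by
            intro q
            rw [Subgroup.coe_one, commutatorElement_one_right, one_smul, one_smul]
          rw [Finset.sum_congr rfl (fun q _ => h4 q), Finset.sum_const, Finset.card_univ,
            ← Nat.card_eq_fintype_card, hq]
        · intro x _ hx
          exact horQ x _ hx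
        · intro h
          exact absurd (Finset.mem_univ _) h
  rw [← Nat.card_congr (Equiv.ofBijective E hE), Nat.card_fun, hq]

end Cfsg.Agent.H813.HT
end

-- part: H1/HT/BetaTwo
section
prune_inst 0x4e1002a05036210000004050260001ef783000102004b0000086407420e821e620002ae20f8300d060222888440340078130004300000000000000400413907a990ab5202b37dad0cb40007000086400000000000000000000000000000041000200400000
set_option linter.all false
open scoped Cfsg.Agent.FastGrp

-- part: H1/HT/Scal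
section
/-!
# S3540 / S3577, HT-E D2: `N = 4 ∘ 2^(1+4)` on `17^4` (helper1)

* `neg_of_sq`: central involutions are `-1`;
* `eq_of_fix`: the elements of `N` fixing `C_V(t)` pointwise are `1` and `t`;
* `scalar`: the centre consists of scalars.
-/

set_option autoImplicit false

open scoped commutatorElement

namespace Cfsg.Agent.H1.HT

open Cfsg.Agent.H828.HT Cfsg.Agent.H662.HT Cfsg.Agent.H813.HT

universe u

section gen

variable {N : Type u} [Group N] {V : Type u} [AddCommGroup V] [DistribMulAction N V] {a : ℕ}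

theorem neg_of_sq (H : Sym 2 a N V) {z : N} (hz : z ∈ Subgroup.center N) (hz2 : z * z = 1) (hz1 : z ≠ 1) (v : V) :
    z • v = -v := by
  have h : z • (z • v + v) = z • v + v := by
    rw [smul_add, ← mul_smul, hz2, one_smul, add_comm]
  exact eq_neg_of_add_eq_zero_left (H.semi z hz hz1 _ h)

/-- elements of order 2 outside the centre generate subgroups meeting the centre trivially -/
theorem zpowers_inf {t : N} (ht2 : t * t = 1) (htc : t ∉ Subgroup.center N) :
    Subgroup.zpowers t ⊓ Subgroup.center N = ⊥ := by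
  rw [eq_bot_iff]
  rintro x ⟨hx, hxc⟩
  obtain ⟨k, rfl⟩ := Subgroup.mem_zpowers_iff.1 hx
  rcases Int.even_or_odd' k with ⟨j, rfl | rfl⟩
  · rw [zpow_mul, zpow_ofNat, pow_two, ht2, one_zpow]
    exact Subgroup.mem_bot.2 rfl
  · rw [zpow_add, zpow_mul, zpow_ofNat, pow_two, ht2, one_zpow, one_mul, zpow_one] at hxc
    exact absurd hxc htc

theorem card_zpowers {t : N} (ht2 : t * t = 1) (htc : t ∉ Subgroup.center N) : Nat.card (Subgroup.zpowers t) = 2 := by
  rw [Nat.card_zpowers]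
  apply orderOf_eq_prime (by rw [pow_two, ht2])
  rintro rfl
  exact htc (Subgroup.one_mem _)

/-- the two parts of `V` for a noncentral involution -/
theorem card_fix (H : Sym 2 a N V) {t : N} (ht2 : t * t = 1) (htc : t ∉ Subgroup.center N) :
    Nat.card V = Nat.card (fixp V (Subgroup.zpowers t)) ^ 2 := by
  have h := Sym_card_fixp H (zpowers_inf ht2 htc)
  rwa [card_zpowers ht2 htc] at h

theorem mem_fixp_zpowers {t : N} {v : V} : v ∈ fixp V (Subgroup.zpowers t) ↔ t • v = v := by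
  constructor
  · intro h
    exact h t (Subgroup.mem_zpowers t)
  · intro h g hg
    obtain ⟨k, rfl⟩ := Subgroup.mem_zpowers_iff.1 hg
    have h1 : t ∈ MulAction.stabilizer N v := h
    exact (MulAction.stabilizer N v).zpow_mem h1 k

/-- a fixed vector -/
theorem exists_fix (H : Sym 2 a N V) {t : N} (ht2 : t * t = 1) (htc : t ∉ Subgroup.center N) :
    ∃ v : V, v ≠ 0 ∧ t • v = v := by
  have := H.finV
  have := H.nt
  have h := card_fix H ht2 htc
  by_contra hcon
  push Not at hcon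
  have h1 : fixp V (Subgroup.zpowers t) = ⊥ := by
    rw [eq_bot_iff]
    intro v hv
    by_contra hv0
    exact hcon v hv0 (mem_fixp_zpowers.1 hv)
  rw [h1] at h
  have h2 : Nat.card (⊥ : AddSubgroup V) = 1 := by simp
  rw [h2] at h
  have h3 : 1 < Nat.card V := Finite.one_lt_card
  omega

/-- the elements fixing `C_V(t)` pointwise -/
theorem eq_of_fix (H : Sym 2 a N V) {t : N} (ht2 : t * t = 1) (htc : t ∉ Subgroup.center N) {n : N}
    (hn : ∀ v : V, t • v = v → n • v = v) : n = 1 ∨ n = t := by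
  classical
  have := H.finV
  have := H.fin
  have := H.nt
  let S : Subgroup N :=
    { carrier := {n | ∀ v : V, t • v = v → n • v = v}
      one_mem' := fun v _ => one_smul N v
      mul_mem' := fun {x y} hx hy v hv => by rw [mul_smul, hy v hv, hx v hv]
      inv_mem' := fun {x} hx v hv => by rw [inv_smul_eq_iff, hx v hv] }
  have hS : S ⊓ Subgroup.center N = ⊥ := by
    rw [eq_bot_iff]
    rintro x ⟨hx, hxc⟩
    obtain ⟨v, hv0, hv⟩ := exists_fix H ht2 htc
    by_contra hx1
    exact hv0 (H.semi x hxc (fun h => hx1 (Subgroup.mem_bot.2 h)) v (hx v hv))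
  have h1 := Sym_card_fixp H hS
  have h2 := card_fix H ht2 htc
  have h3 : Nat.card (fixp V (Subgroup.zpowers t)) ≤ Nat.card (fixp V S) := by
    refine AddSubgroup.card_le_of_le ?_
    intro v hv n hn
    exact hn v (mem_fixp_zpowers.1 hv)
  have h4 : 1 < Nat.card (fixp V (Subgroup.zpowers t)) := by
    by_contra hcon
    have h5 : Nat.card (fixp V (Subgroup.zpowers t)) ≤ 1 := by omega
    have h6 : Nat.card V ≤ 1 := by
      rw [h2]
      exact (Nat.pow_le_pow_left h5 2).trans (by norm_num)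
    have h7 : 1 < Nat.card V := Finite.one_lt_card
    omega
  have h5 : Nat.card S ≤ 2 := by
    by_contra hcon
    have h6 : Nat.card (fixp V (Subgroup.zpowers t)) ^ 2 < Nat.card (fixp V S) ^ Nat.card S :=
      (Nat.pow_lt_pow_right h4 (by omega : 2 < Nat.card S)).trans_le (Nat.pow_le_pow_left h3 _)
    omega
  have h6 : ({1, t} : Set N) ⊆ (S : Set N) := by
    rintro x (rfl | rfl)
    · exact S.one_mem
    · exact fun v hv => hv
  have ht1 : t ≠ 1 := by
    rintro rfl
    exact htc (Subgroup.one_mem _)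
  have h7 : ({1, t} : Set N) = (S : Set N) := by
    apply Set.eq_of_subset_of_ncard_le h6
    rw [Set.ncard_pair ht1.symm]
    exact h5
  have h8 : n ∈ (S : Set N) := hn
  rw [← h7] at h8
  exact h8

/-- averaging kills noncentral elements -/
theorem sum_conj (H : Sym 2 a N V) [Fintype N] (h2 : ∀ v : V, v = -v → v = 0) {s : N} (hs : s ∉ Subgroup.center N)
    (v : V) : ∑ y : N, (y * s * y⁻¹) • v = 0 := by
  obtain ⟨u, hu⟩ : ∃ u : N, u * s ≠ s * u := by
    by_contra hcon
    push Not at hcon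
    exact hs (Subgroup.mem_center_iff.2 hcon)
  have hz := H.comm u s
  have hz2 : ⁅u, s⁆ * ⁅u, s⁆ = 1 := by rw [← pow_two]; exact H.comm_pow u s
  have hz1 : ⁅u, s⁆ ≠ 1 := fun h => hu (commutatorElement_eq_one_iff_mul_comm.1 h)
  apply h2
  calc ∑ y : N, (y * s * y⁻¹) • v = ∑ y : N, ((y * u) * s * (y * u)⁻¹) • v :=
        (Fintype.sum_equiv (Equiv.mulRight u) _ _ fun y => rfl).symm
    _ = ∑ y : N, -((y * s * y⁻¹) • v) := by
        refine Finset.sum_congr rfl fun y _ => ?_
        have h1 : (y * u) * s * (y * u)⁻¹ = ⁅u, s⁆ * (y * s * y⁻¹) := by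
          have h3 : (y * u) * s * (y * u)⁻¹ = y * ⁅u, s⁆ * (s * y⁻¹) := by
            simp only [commutatorElement_def]; group
          rw [h3, Subgroup.mem_center_iff.1 hz y, mul_assoc, mul_assoc]
        rw [h1, mul_smul, neg_of_sq H hz hz2 hz1]
    _ = _ := Finset.sum_neg_distrib _

end gen

theorem two17 : (2 : ZMod 17) ≠ 0 := by decide

theorem c64 : ((4 * 2 ^ (2 * 2) : ℕ) : ZMod 17) ≠ 0 := by decide

section seventeen

variable {V : Type u} [AddCommGroup V] [Fact (Nat.Prime 17)] [Module (ZMod 17) V] [Finite V]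
  {N : Subgroup (V ≃ₗ[ZMod 17] V)}

theorem two_ne {v : V} (h : v = -v) : v = 0 := by
  have h1 : (2 : ZMod 17) • v = 0 := by
    rw [two_smul]
    nth_rewrite 2 [h]
    exact add_neg_cancel v
  rcases smul_eq_zero.1 h1 with h2 | h2
  · exact absurd h2 two17
  · exact h2

/-- an elementary abelian subgroup of order four -/
theorem exists_four (H : Sym 2 2 N V) (hF : Full 2 N) :
    ∃ S : Subgroup N, S ⊓ Subgroup.center N = ⊥ ∧ Nat.card S = 4 := by
  classical
  have := H.fin
  -- a noncentral involution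
  obtain ⟨x, hx⟩ : ∃ x : N, x ∉ Subgroup.center N := by
    by_contra hcon
    push Not at hcon
    have h1 : Nat.card N = Nat.card (Subgroup.center N) := by
      have h2 : Subgroup.center N = ⊤ := (Subgroup.eq_top_iff' _).2 hcon
      rw [h2, Subgroup.card_top]
    have h3 := H.card
    have h4 : 0 < Nat.card (Subgroup.center N) := Nat.card_pos
    omega
  obtain ⟨t, ht2, htc⟩ : ∃ t : N, t * t = 1 ∧ t ∉ Subgroup.center N := by
    obtain ⟨c, hc, hxc⟩ := hF x
    refine ⟨x * c, by rw [← pow_two]; exact hxc, fun h => hx ?_⟩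
    have := (Subgroup.center N).mul_mem h ((Subgroup.center N).inv_mem hc)
    rwa [mul_inv_cancel_right] at this
  -- the centraliser
  have hcen := Sym_card_cen H (zpowers_inf ht2 htc)
  rw [card_zpowers ht2 htc, H.card] at hcen
  obtain ⟨y, hy, hy'⟩ : ∃ y ∈ Subgroup.centralizer (Subgroup.zpowers t : Set N),
      y ∉ Subgroup.center N ∧ t * y ∉ Subgroup.center N := by
    by_contra hcon
    push Not at hcon
    have h1 : (Subgroup.centralizer (Subgroup.zpowers t : Set N) : Set N) ⊆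
        (Subgroup.center N : Set N) ∪ (fun z => t⁻¹ * z) '' (Subgroup.center N : Set N) := by
      intro y hy
      by_cases h : y ∈ Subgroup.center N
      · exact Or.inl h
      · exact Or.inr ⟨t * y, hcon y hy h, by group⟩
    have h2 := Set.ncard_le_ncard h1 (Set.toFinite _)
    have h3 := Set.ncard_union_le (Subgroup.center N : Set N)
      ((fun z => t⁻¹ * z) '' (Subgroup.center N : Set N))
    have h4 := Set.ncard_image_le (f := fun z => t⁻¹ * z) (Set.toFinite (Subgroup.center N : Set N))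
    have h5 : (Subgroup.center N : Set N).ncard = Nat.card (Subgroup.center N) := rfl
    have h6 : (Subgroup.centralizer (Subgroup.zpowers t : Set N) : Set N).ncard =
      Nat.card (Subgroup.centralizer (Subgroup.zpowers t : Set N)) := rfl
    have h7 : 0 < Nat.card (Subgroup.center N) := Nat.card_pos
    omega
  obtain ⟨r, hr2, htr, hrc, htrc⟩ : ∃ r : N, r * r = 1 ∧ t * r = r * t ∧ r ∉ Subgroup.center N ∧
      t * r ∉ Subgroup.center N := by
    obtain ⟨d, hd, hyd⟩ := hF y
    have hty : t * y = y * t := Subgroup.mem_centralizer_iff.1 hy t (Subgroup.mem_zpowers t)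
    refine ⟨y * d, by rw [← pow_two]; exact hyd, ?_, fun h => hy'.1 ?_, fun h => hy'.2 ?_⟩
    · rw [← mul_assoc, hty, mul_assoc, mul_assoc, Subgroup.mem_center_iff.1 hd t]
    · have := (Subgroup.center N).mul_mem h ((Subgroup.center N).inv_mem hd)
      rwa [mul_inv_cancel_right] at this
    · have := (Subgroup.center N).mul_mem h ((Subgroup.center N).inv_mem hd)
      rwa [← mul_assoc, mul_inv_cancel_right] at this
  have hti : t⁻¹ = t := inv_eq_of_mul_eq_one_right ht2
  have hri : r⁻¹ = r := inv_eq_of_mul_eq_one_right hr2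
  have hrt2 : (t * r) * (t * r) = 1 := by
    rw [mul_assoc, ← mul_assoc r t r, ← htr, mul_assoc, hr2, mul_one, ht2]
  let S : Subgroup N :=
    { carrier := {1, t, r, t * r}
      one_mem' := Or.inl rfl
      mul_mem' := by
        rintro a b (rfl | rfl | rfl | rfl) (rfl | rfl | rfl | rfl)
        · left; rw [one_mul]
        · right; left; rw [one_mul]
        · right; right; left; rw [one_mul]
        · right; right; right; rw [one_mul]; rfl
        · right; left; rw [mul_one]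
        · left; exact ht2
        · right; right; right; rfl
        · right; right; left; rw [← mul_assoc, ht2, one_mul]
        · right; right; left; rw [mul_one]
        · right; right; right; exact htr.symm
        · left; exact hr2
        · right; left; rw [htr, ← mul_assoc, hr2, one_mul]
        · right; right; right; rw [mul_one]; rfl
        · right; right; left; rw [htr, mul_assoc, ht2, mul_one]
        · right; left; rw [mul_assoc, hr2, mul_one]
        · left; exact hrt2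
      inv_mem' := by
        rintro a (rfl | rfl | rfl | rfl)
        · left; exact inv_one
        · right; left; exact hti
        · right; right; left; exact hri
        · right; right; right; exact inv_eq_of_mul_eq_one_right hrt2 }
  refine ⟨S, ?_, ?_⟩
  · rw [eq_bot_iff]
    rintro a ⟨ha, hac⟩
    rcases ha with rfl | rfl | rfl | rfl
    · exact Subgroup.mem_bot.2 rfl
    · exact absurd hac htc
    · exact absurd hac hrc
    · exact absurd hac htrc
  · change ({1, t, r, t * r} : Set N).ncard = 4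
    have h1t : (1 : N) ≠ t := fun h => htc (h ▸ Subgroup.one_mem _)
    have h1r : (1 : N) ≠ r := fun h => hrc (h ▸ Subgroup.one_mem _)
    have h1tr : (1 : N) ≠ t * r := fun h => htrc (h ▸ Subgroup.one_mem _)
    have h2 : t ≠ r := by
      intro h
      apply h1tr
      rw [← h, ht2]
    have h3 : t ≠ t * r := by
      intro h
      apply h1r
      have : t * 1 = t * r := by rw [mul_one]; exact h
      exact mul_left_cancel this
    have h4 : r ≠ t * r := by
      intro h
      apply h1t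
      have : 1 * r = t * r := by rw [one_mul]; exact h
      exact mul_right_cancel this
    rw [Set.ncard_insert_of_notMem, Set.ncard_insert_of_notMem, Set.ncard_pair h4]
    · simp only [Set.mem_insert_iff, Set.mem_singleton_iff, not_or]
      exact ⟨h2, h3⟩
    · simp only [Set.mem_insert_iff, Set.mem_singleton_iff, not_or]
      exact ⟨h1t, h1r, h1tr⟩

/-- the centre consists of scalars -/
theorem scalar (hV : Nat.card V = 17 ^ 4) (H : Sym 2 2 N V) (hF : Full 2 N)
    (hz4 : Nat.card (Subgroup.center N) = 4) {z : N} (hz : z ∈ Subgroup.center N) :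
    ∃ c : ZMod 17, ∀ v : V, z • v = c • v := by
  classical
  have := H.fin
  have : Fintype N := Fintype.ofFinite N
  obtain ⟨S, hS, hS4⟩ := exists_four H hF
  have : Fintype S := Fintype.ofFinite S
  have h1 := Sym_card_fixp H hS
  rw [hS4, hV] at h1
  have h2 : Nat.card (fixp V S) = 17 := (Nat.pow_left_injective (n := 4) (by norm_num) h1).symm
  -- a generator
  have hnt : Nontrivial (fixp V S) := Finite.one_lt_card_iff_nontrivial.1 (by rw [h2]; norm_num)
  obtain ⟨v0, hv0⟩ := exists_ne (0 : fixp V S)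
  have hv0' : (v0 : V) ≠ 0 := fun h => hv0 (Subtype.ext h)
  have hsm : ∀ (c : ZMod 17) (v : V), v ∈ fixp V S → c • v ∈ fixp V S := by
    intro c v hv g hg
    have h3 : g • c • v = c • g • v := map_smul (g : V ≃ₗ[ZMod 17] V) c v
    rw [h3, hv g hg]
  have hsurj : ∀ v ∈ fixp V S, ∃ c : ZMod 17, c • (v0 : V) = v := by
    have hinj : Function.Injective fun c : ZMod 17 => (⟨c • (v0 : V), hsm c v0 v0.2⟩ : fixp V S) := by
      intro c d h
      have h3 : c • (v0 : V) = d • (v0 : V) := congrArg Subtype.val h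
      exact smul_left_injective (ZMod 17) hv0' h3
    have hsj : Function.Surjective fun c : ZMod 17 => (⟨c • (v0 : V), hsm c v0 v0.2⟩ : fixp V S) := by
      have h3 : Nat.card (ZMod 17) = Nat.card (fixp V S) := by rw [h2, Nat.card_zmod]
      exact (Function.Injective.bijective_of_nat_card_le hinj h3.ge).2
    intro v hv
    obtain ⟨c, hc⟩ := hsj ⟨v, hv⟩
    exact ⟨c, congrArg Subtype.val hc⟩
  have hzS : ∀ v ∈ fixp V S, z • v ∈ fixp V S := by
    intro v hv g hg
    rw [← mul_smul, Subgroup.mem_center_iff.1 hz g, mul_smul, hv g hg]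
  obtain ⟨c, hc⟩ := hsurj _ (hzS v0 v0.2)
  have hlin : ∀ (g : N) (d : ZMod 17) (v : V), g • d • v = d • g • v :=
    fun g d v => map_smul (g : V ≃ₗ[ZMod 17] V) d v
  have hcS : ∀ v ∈ fixp V S, z • v = c • v := by
    intro v hv
    obtain ⟨d, rfl⟩ := hsurj v hv
    rw [hlin, ← hc, smul_comm]
  refine ⟨c, fun v => ?_⟩
  -- averaging
  let e : V → V := fun v => ∑ s : S, (s : N) • v
  have he : ∀ v, e v ∈ fixp V S := by
    intro v g hg
    change g • ∑ s : S, (s : N) • v = ∑ s : S, (s : N) • v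
    rw [Finset.smul_sum]
    refine Fintype.sum_equiv (Equiv.mulLeft (⟨g, hg⟩ : S)) _ _ fun s => ?_
    rw [← mul_smul]
    rfl
  have h64 : ∀ v : V, ∑ y : N, y • e (y⁻¹ • v) = (Nat.card N : ZMod 17) • v := by
    intro v
    have h3 : ∑ y : N, y • e (y⁻¹ • v) = ∑ s : S, ∑ y : N, (y * (s : N) * y⁻¹) • v := by
      rw [Finset.sum_comm]
      refine Finset.sum_congr rfl fun y _ => ?_
      change y • ∑ s : S, (s : N) • y⁻¹ • v = _
      rw [Finset.smul_sum]
      exact Finset.sum_congr rfl fun s _ => by rw [← mul_smul, ← mul_smul, mul_assoc]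
    rw [h3, Finset.sum_eq_single (1 : S)]
    · simp only [Subgroup.coe_one, mul_one, mul_inv_cancel, one_smul, Finset.sum_const, Finset.card_univ]
      rw [← Nat.card_eq_fintype_card, Nat.cast_smul_eq_nsmul]
    · intro s _ hs
      refine sum_conj H (fun v hv => two_ne hv) ?_ v
      intro hsc
      apply hs
      have h4 : (s : N) ∈ S ⊓ Subgroup.center N := ⟨s.2, hsc⟩
      rw [hS, Subgroup.mem_bot] at h4
      exact Subtype.ext h4
    · intro h
      exact absurd (Finset.mem_univ _) h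
  have h5 : z • ((Nat.card N : ZMod 17) • v) = c • ((Nat.card N : ZMod 17) • v) := by
    rw [← h64, Finset.smul_sum, Finset.smul_sum]
    refine Finset.sum_congr rfl fun y _ => ?_
    rw [← mul_smul, ← Subgroup.mem_center_iff.1 hz y, mul_smul, hcS _ (he _), hlin]
  rw [hlin, smul_comm c] at h5
  have h6 : (Nat.card N : ZMod 17) ≠ 0 := by
    rw [H.card, hz4]
    exact c64
  exact smul_right_injective V h6 h5

end seventeen

end Cfsg.Agent.H1.HT
end

-- part: H1/HT/BetaTwo
section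
/-!
# S3540 / S3577, HT-E D2: `beta_two` (helper1)
-/

set_option autoImplicit false

open scoped commutatorElement

namespace Cfsg.Agent.H1.HT

open Cfsg.Agent.H828.HT Cfsg.Agent.H662.HT Cfsg.Agent.H813.HT MulAction

universe u

/-- automorphisms act on the central quotient -/
def qa (K : Type u) [Group K] : MulAut K →* MulAut (K ⧸ Subgroup.center K) where
  toFun e := QuotientGroup.congr _ _ e (Subgroup.characteristic_iff_map_eq.1 inferInstance e)
  map_one' := by
    ext x
    obtain ⟨a, rfl⟩ := QuotientGroup.mk_surjective x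
    rfl
  map_mul' e f := by
    ext x
    obtain ⟨a, rfl⟩ := QuotientGroup.mk_surjective x
    rfl

variable {V : Type u} [AddCommGroup V] [Fact (Nat.Prime 17)] [Module (ZMod 17) V]
  {G N : Subgroup (V ≃ₗ[ZMod 17] V)}

/-- conjugation -/
def cj (hn : ∀ g ∈ G, ∀ x ∈ N, g * x * g⁻¹ ∈ N) : G →* MulAut N where
  toFun g :=
    { toFun := fun x => ⟨g * x * (g : V ≃ₗ[ZMod 17] V)⁻¹, hn g g.2 x x.2⟩
      invFun := fun x => ⟨(g : V ≃ₗ[ZMod 17] V)⁻¹ * x * g, by
        have := hn _ (G.inv_mem g.2) x x.2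
        rwa [inv_inv] at this⟩
      left_inv := fun x => Subtype.ext (by simp [mul_assoc])
      right_inv := fun x => Subtype.ext (by simp [mul_assoc])
      map_mul' := fun x y => Subtype.ext (by simp [mul_assoc]) }
  map_one' := by
    refine MulEquiv.ext fun x => Subtype.ext ?_
    change (1 : V ≃ₗ[ZMod 17] V) * x * (1 : V ≃ₗ[ZMod 17] V)⁻¹ = x
    rw [one_mul, inv_one, mul_one]
  map_mul' g h := by
    refine MulEquiv.ext fun x => Subtype.ext ?_
    change (g * h : V ≃ₗ[ZMod 17] V) * x * (g * h : V ≃ₗ[ZMod 17] V)⁻¹ =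
      (g : V ≃ₗ[ZMod 17] V) * (h * x * (h : V ≃ₗ[ZMod 17] V)⁻¹) * (g : V ≃ₗ[ZMod 17] V)⁻¹
    rw [mul_inv_rev]
    simp only [mul_assoc]

section one

variable (hn : ∀ g ∈ G, ∀ x ∈ N, g * x * g⁻¹ ∈ N)

/-- the action on `N / Z(N)` -/
def sm (g : G) (x : N ⧸ Subgroup.center N) : N ⧸ Subgroup.center N := qa N (cj hn g) x

theorem sm_mk (g : G) (a : N) :
    sm hn g (a : N ⧸ Subgroup.center N) = ((cj hn g a : N) : N ⧸ Subgroup.center N) := rfl

theorem exists_tau (hF : Full 2 N) (t : N ⧸ Subgroup.center N) :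
    ∃ a : N, (a : N ⧸ Subgroup.center N) = t ∧ a * a = 1 := by
  obtain ⟨b, rfl⟩ := QuotientGroup.mk_surjective t
  obtain ⟨c, hc, h⟩ := hF b
  refine ⟨b * c, ?_, by rw [← pow_two]; exact h⟩
  rw [QuotientGroup.mk_mul, (QuotientGroup.eq_one_iff c).2 hc, mul_one]

/-- an involution in the coset -/
noncomputable def tau (hF : Full 2 N) (t : N ⧸ Subgroup.center N) : N := Classical.choose (exists_tau hF t)

theorem tau_mk (hF : Full 2 N) (t : N ⧸ Subgroup.center N) : (tau hF t : N ⧸ Subgroup.center N) = t :=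
  (Classical.choose_spec (exists_tau hF t)).1

theorem tau_sq (hF : Full 2 N) (t : N ⧸ Subgroup.center N) : tau hF t * tau hF t = 1 :=
  (Classical.choose_spec (exists_tau hF t)).2

theorem tau_notMem (hF : Full 2 N) {t : N ⧸ Subgroup.center N} (ht : t ≠ 1) : tau hF t ∉ Subgroup.center N := by
  intro h
  apply ht
  rw [← tau_mk hF t]
  exact (QuotientGroup.eq_one_iff _).2 h

/-- the orthogonal of `t` -/
noncomputable def Pt (hF : Full 2 N) (t : N ⧸ Subgroup.center N) : Subgroup (N ⧸ Subgroup.center N) :=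
  (Subgroup.centralizer (Subgroup.zpowers (tau hF t) : Set N)).map (QuotientGroup.mk' (Subgroup.center N))

theorem comm_of_mk {a b x : N} (h : (a : N ⧸ Subgroup.center N) = b) (hb : b * x = x * b) : a * x = x * a := by
  have h1 : b⁻¹ * a ∈ Subgroup.center N := QuotientGroup.eq.1 h.symm
  have h2 : a = b * (b⁻¹ * a) := by group
  rw [h2, mul_assoc, ← Subgroup.mem_center_iff.1 h1 x, ← mul_assoc, hb, mul_assoc]

theorem mem_Pt (hF : Full 2 N) (t : N ⧸ Subgroup.center N) (a : N) :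
    (a : N ⧸ Subgroup.center N) ∈ Pt hF t ↔ a * tau hF t = tau hF t * a := by
  constructor
  · rintro ⟨b, hb, hba⟩
    have h1 := (Subgroup.mem_centralizer_iff.1 hb) (tau hF t) (Subgroup.mem_zpowers _)
    exact comm_of_mk hba.symm h1.symm
  · intro h
    refine ⟨a, ?_, rfl⟩
    refine Subgroup.mem_centralizer_iff.2 fun x hx => ?_
    obtain ⟨k, rfl⟩ := Subgroup.mem_zpowers_iff.1 hx
    exact ((Commute.zpow_right h k) : a * _ = _ * a).symm

/-- the pointwise stabiliser of `C_V(t)` -/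
noncomputable def Rt (G : Subgroup (V ≃ₗ[ZMod 17] V)) (hF : Full 2 N) (t : N ⧸ Subgroup.center N) : Subgroup G where
  carrier := {g | ∀ v : V, tau hF t • v = v → (g : V ≃ₗ[ZMod 17] V) v = v}
  one_mem' := fun v _ => rfl
  mul_mem' := fun {g h} hg hh v hv => by
    change (g : V ≃ₗ[ZMod 17] V) ((h : V ≃ₗ[ZMod 17] V) v) = v
    rw [hh v hv, hg v hv]
  inv_mem' := fun {g} hg v hv => by
    have h1 : (g : V ≃ₗ[ZMod 17] V) v = v := hg v hv
    have h2 : ((g : V ≃ₗ[ZMod 17] V)⁻¹) ((g : V ≃ₗ[ZMod 17] V) v) = v := by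
      rw [← LinearEquiv.mul_apply, inv_mul_cancel]; rfl
    rw [h1] at h2
    exact h2

include hn in
theorem normal : (N.subgroupOf G).Normal := ⟨fun x hx g => hn g g.2 x hx⟩

theorem card_N' (hN : N ≤ G) : Nat.card (N.subgroupOf G) = Nat.card N :=
  Nat.card_congr (Subgroup.subgroupOfEquivOfLe hN).toEquiv

end one

section two

set_option linter.unusedSectionVars false

variable [Finite V] (hn : ∀ g ∈ G, ∀ x ∈ N, g * x * g⁻¹ ∈ N) (H : Sym 2 2 N V) (hF : Full 2 N)

theorem central_of_scalar {y : N} {c : ZMod 17} (h : ∀ v : V, y • v = c • v) : y ∈ Subgroup.center N := by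
  refine Subgroup.mem_center_iff.2 fun x => Subtype.ext (LinearEquiv.ext fun v => ?_)
  change x • y • v = y • x • v
  rw [h, h]
  exact map_smul (x : V ≃ₗ[ZMod 17] V) c v

theorem mk_eq_of_scalar {a b : N} {c : ZMod 17} (h : ∀ v : V, a • v = c • b • v) :
    (a : N ⧸ Subgroup.center N) = b := by
  apply Eq.symm
  rw [QuotientGroup.eq]
  have h1 : a * b⁻¹ ∈ Subgroup.center N := by
    apply central_of_scalar (c := c)
    intro v
    rw [mul_smul, h, smul_inv_smul]
  have h2 : b⁻¹ * a = b⁻¹ * (a * b⁻¹) * b := by group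
  rw [h2, Subgroup.mem_center_iff.1 h1 b⁻¹, mul_assoc, inv_mul_cancel, mul_one]
  exact h1

include H in
/-- points fixed by `g` -/
theorem sm_tau (g : G) (t : N ⧸ Subgroup.center N) (h : sm hn g t = t) :
    cj hn g (tau hF t) = tau hF t ∨ ∀ v : V, cj hn g (tau hF t) • v = -(tau hF t • v) := by
  have h1 : ((cj hn g (tau hF t) : N) : N ⧸ Subgroup.center N) = tau hF t := by
    rw [← sm_mk, tau_mk, h]
  have h2 : (tau hF t)⁻¹ * cj hn g (tau hF t) ∈ Subgroup.center N := QuotientGroup.eq.1 h1.symm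
  have hti : (tau hF t)⁻¹ = tau hF t := inv_eq_of_mul_eq_one_right (tau_sq hF t)
  obtain ⟨z, hz⟩ : ∃ z, z = (tau hF t)⁻¹ * cj hn g (tau hF t) := ⟨_, rfl⟩
  rw [← hz] at h2
  have h3 : cj hn g (tau hF t) = tau hF t * z := by rw [hz]; group
  have h4 : cj hn g (tau hF t) * cj hn g (tau hF t) = 1 := by rw [← map_mul, tau_sq, map_one]
  have h5 : z * z = 1 := by
    rw [h3] at h4
    have h6 : tau hF t * z * (tau hF t * z) = (tau hF t * tau hF t) * (z * z) := by
      rw [mul_assoc, ← mul_assoc z (tau hF t) z, ← Subgroup.mem_center_iff.1 h2 (tau hF t)]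
      simp only [mul_assoc]
    rw [h6, tau_sq, one_mul] at h4
    exact h4
  by_cases hz1 : z = 1
  · left; rw [h3, hz1, mul_one]
  · right
    intro v
    rw [h3, mul_smul, neg_of_sq H h2 h5 hz1]
    exact map_neg (tau hF t : V ≃ₗ[ZMod 17] V) v

include H in
/-- `R t` acts as wanted -/
theorem Rt_act {t : N ⧸ Subgroup.center N} (ht : t ≠ 1) {r : G} (hr : r ∈ Rt G hF t) :
    cj hn r (tau hF t) = tau hF t ∧ ∀ x : N, x * tau hF t = tau hF t * x →
      cj hn r x = x ∨ cj hn r x = x * tau hF t := by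
  have key : ∀ x : N, x * tau hF t = tau hF t * x → cj hn r x = x ∨ cj hn r x = x * tau hF t := by
    intro x hx
    have h1 : ∀ v : V, tau hF t • v = v → (x⁻¹ * cj hn r x) • v = v := by
      intro v hv
      have hr' : ∀ w : V, tau hF t • w = w → ((r : V ≃ₗ[ZMod 17] V)⁻¹) w = w := fun w hw => (Rt G hF t).inv_mem hr w hw
      have h2 : tau hF t • x • v = x • v := by rw [← mul_smul, ← hx, mul_smul, hv]
      rw [mul_smul]
      change x⁻¹ • ((r : V ≃ₗ[ZMod 17] V) (x • ((r : V ≃ₗ[ZMod 17] V)⁻¹ v))) = v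
      rw [hr' v hv, hr _ h2, inv_smul_smul]
    rcases eq_of_fix H (tau_sq hF t) (tau_notMem hF ht) h1 with h | h
    · left
      have := congrArg (x * ·) h
      simpa using this
    · right
      have := congrArg (x * ·) h
      simpa using this
  refine ⟨?_, key⟩
  rcases key (tau hF t) rfl with h | h
  · exact h
  · rw [tau_sq] at h
    exfalso
    have h1 : tau hF t = 1 := (cj hn r).injective (h.trans (map_one _).symm)
    exact tau_notMem hF ht (h1 ▸ Subgroup.one_mem _)

include H in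
/-- elements of `R t` acting trivially on `N / Z(N)` are in `N` -/
theorem Rt_ker {t : N ⧸ Subgroup.center N}
    (ht : t ≠ 1) {r : G} (hr : r ∈ Rt G hF t) (h1 : ∀ x, sm hn r x = x) : (r : V ≃ₗ[ZMod 17] V) ∈ N := by
  classical
  set τ := tau hF t with hτ
  have hτ2 : τ * τ = 1 := tau_sq hF t
  have hτc : τ ∉ Subgroup.center N := tau_notMem hF ht
  -- an involution not commuting with `τ`
  obtain ⟨x, hx2, hxτ⟩ : ∃ x : N, x * x = 1 ∧ x * τ ≠ τ * x := by
    obtain ⟨y, hy⟩ : ∃ y : N, y * τ ≠ τ * y := by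
      by_contra hcon
      push Not at hcon
      exact hτc (Subgroup.mem_center_iff.2 hcon)
    obtain ⟨c, hc, hyc⟩ := hF y
    refine ⟨y * c, by rw [← pow_two]; exact hyc, fun h => hy ?_⟩
    refine comm_of_mk (b := y * c) ?_ h
    rw [QuotientGroup.mk_mul, (QuotientGroup.eq_one_iff c).2 hc, mul_one]
  have hxi : x⁻¹ = x := inv_eq_of_mul_eq_one_right hx2
  -- the commutator is `-1`
  have hcm : ∀ v : V, x • τ • v = -(τ • x • v) := by
    intro v
    have h2 := neg_of_sq H (H.comm x τ) (by rw [← pow_two]; exact H.comm_pow x τ)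
      (fun h => hxτ (commutatorElement_eq_one_iff_mul_comm.1 h)) (τ • x • v)
    rw [← h2, ← mul_smul, ← mul_smul, ← mul_smul]
    congr 1
    simp only [commutatorElement_def]
    group
  -- `r x r⁻¹ = x ζ`
  have h2 : ((cj hn r x : N) : N ⧸ Subgroup.center N) = x := by rw [← sm_mk]; exact h1 _
  have h3 : x⁻¹ * cj hn r x ∈ Subgroup.center N := QuotientGroup.eq.1 h2.symm
  obtain ⟨ζ, hζ⟩ : ∃ ζ, ζ = x⁻¹ * cj hn r x := ⟨_, rfl⟩
  rw [← hζ] at h3
  have h4 : cj hn r x = x * ζ := by rw [hζ]; group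
  have h5 : ζ * ζ = 1 := by
    have h6 : cj hn r x * cj hn r x = 1 := by rw [← map_mul, hx2, map_one]
    rw [h4] at h6
    have h7 : x * ζ * (x * ζ) = (x * x) * (ζ * ζ) := by
      rw [mul_assoc, ← mul_assoc ζ x ζ, ← Subgroup.mem_center_iff.1 h3 x]
      simp only [mul_assoc]
    rw [h7, hx2, one_mul] at h6
    exact h6
  have hrx : ∀ v : V, (r : V ≃ₗ[ZMod 17] V) (x • v) = x • ζ • ((r : V ≃ₗ[ZMod 17] V) v) := by
    intro v
    have h6 : (cj hn r x) • ((r : V ≃ₗ[ZMod 17] V) v) = (r : V ≃ₗ[ZMod 17] V) (x • v) := by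
      change (r : V ≃ₗ[ZMod 17] V) (x • ((r : V ≃ₗ[ZMod 17] V)⁻¹ ((r : V ≃ₗ[ZMod 17] V) v))) = _
      have h7 : ((r : V ≃ₗ[ZMod 17] V)⁻¹) ((r : V ≃ₗ[ZMod 17] V) v) = v := by
        rw [← LinearEquiv.mul_apply, inv_mul_cancel]; rfl
      rw [h7]
    rw [← h6, h4, mul_smul]
  -- the two parts of `V`
  have hrp : ∀ v : V, τ • v = v → (r : V ≃ₗ[ZMod 17] V) v = v := hr
  have hrm : ∀ v : V, τ • v = -v → (r : V ≃ₗ[ZMod 17] V) v = ζ • v := by
    intro v hv
    have h6 : τ • x • v = x • v := by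
      have := hcm v
      rw [hv, smul_neg] at this
      exact (neg_inj.1 this).symm
    have h7 := hrx (x • v)
    rw [← mul_smul x x v, hx2, one_smul, hrp _ h6] at h7
    rw [h7, ← mul_smul, ← mul_smul]
    congr 1
    calc x * ζ * x = (x * x) * ζ := by rw [mul_assoc, ← Subgroup.mem_center_iff.1 h3 x, mul_assoc]
      _ = ζ := by rw [hx2, one_mul]
  have hsplit : ∀ v : V, (2 : ZMod 17) • v = (v + τ • v) + (v - τ • v) := by
    intro v
    rw [two_smul]
    abel
  have hp : ∀ v : V, τ • (v + τ • v) = v + τ • v := by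
    intro v
    rw [smul_add, ← mul_smul, hτ2, one_smul, add_comm]
  have hm : ∀ v : V, τ • (v - τ • v) = -(v - τ • v) := by
    intro v
    rw [smul_sub, ← mul_smul, hτ2, one_smul, neg_sub]
  have hinj : Function.Injective fun v : V => (2 : ZMod 17) • v := smul_right_injective V two17
  by_cases hζ1 : ζ = 1
  · -- `r = 1`
    have h6 : (r : V ≃ₗ[ZMod 17] V) = 1 := by
      refine LinearEquiv.ext fun v => hinj ?_
      change (2 : ZMod 17) • (r : V ≃ₗ[ZMod 17] V) v = (2 : ZMod 17) • v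
      rw [← map_smul, hsplit, map_add, hrp _ (hp v), hrm _ (hm v), hζ1, one_smul]
    rw [h6]
    exact N.one_mem
  · -- `r = τ`
    have h6 : (r : V ≃ₗ[ZMod 17] V) = τ := by
      refine LinearEquiv.ext fun v => hinj ?_
      change (2 : ZMod 17) • (r : V ≃ₗ[ZMod 17] V) v = (2 : ZMod 17) • (τ • v)
      rw [← map_smul, hsplit, map_add, hrp _ (hp v), hrm _ (hm v), neg_of_sq H h3 h5 hζ1, two_smul]
      abel
    rw [h6]
    exact τ.2

include H in
/-- elements of odd order -/
theorem cj_three {t : N ⧸ Subgroup.center N} (ht : t ≠ 1) {g : G} (hg : sm hn g t = t) (h3 : ∃ n, g ^ 3 ^ n = 1) :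
    cj hn g (tau hF t) = tau hF t := by
  rcases sm_tau hn H hF g t hg with h | h
  · exact h
  · exfalso
    obtain ⟨n, hn'⟩ := h3
    have h1 : ∀ (j : ℕ) (v : V), ((cj hn g)^[2 * j + 1]) (tau hF t) • v = -(tau hF t • v) := by
      intro j
      have hneg : ∀ (x y : N), (∀ v : V, x • v = -(y • v)) → ∀ v : V, cj hn g x • v = -(cj hn g y • v) := by
        intro x y hxy v
        change (g : V ≃ₗ[ZMod 17] V) (x • ((g : V ≃ₗ[ZMod 17] V)⁻¹ v)) =
          -((g : V ≃ₗ[ZMod 17] V) (y • ((g : V ≃ₗ[ZMod 17] V)⁻¹ v)))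
        rw [hxy, map_neg]
      induction j with
      | zero => exact h
      | succ j ih =>
        intro v
        rw [show 2 * (j + 1) + 1 = (2 * j + 1) + 1 + 1 by ring, Function.iterate_succ_apply',
          Function.iterate_succ_apply']
        have h2 := hneg _ _ ih
        have h4 : ∀ v : V, cj hn g ((cj hn g)^[2 * j + 1] (tau hF t)) • v = tau hF t • v := by
          intro v
          rw [h2, h, neg_neg]
        have h5 : cj hn g ((cj hn g)^[2 * j + 1] (tau hF t)) = tau hF t :=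
          Subtype.ext (LinearEquiv.ext h4)
        rw [h5, h]
    obtain ⟨j, hj⟩ : ∃ j, 3 ^ n = 2 * j + 1 := (Odd.pow (by decide : Odd 3) : Odd (3 ^ n))
    have h2 : ((cj hn g)^[3 ^ n]) (tau hF t) = tau hF t := by
      have h4 : ∀ k : ℕ, ((cj hn g)^[k]) (tau hF t) = cj hn (g ^ k) (tau hF t) := by
        intro k
        induction k with
        | zero => rw [pow_zero, map_one]; rfl
        | succ k ih => rw [Function.iterate_succ_apply', ih, pow_succ', map_mul]; rfl
      rw [h4, hn', map_one]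
      rfl
    obtain ⟨v, hv0, hv⟩ := exists_fix H (tau_sq hF t) (tau_notMem hF ht)
    have h4 := h1 j v
    rw [← hj, h2, hv] at h4
    exact hv0 (two_ne h4)

include H in
theorem index_Pt {t : N ⧸ Subgroup.center N} (ht : t ≠ 1) : (Pt hF t).index = 2 := by
  have := H.fin
  have h1 := Sym_card_cen H (zpowers_inf (tau_sq hF t) (tau_notMem hF ht))
  rw [card_zpowers (tau_sq hF t) (tau_notMem hF ht)] at h1
  have h2 := Subgroup.card_mul_index (Subgroup.centralizer (Subgroup.zpowers (tau hF t) : Set N))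
  have h3 : 0 < Nat.card (Subgroup.centralizer (Subgroup.zpowers (tau hF t) : Set N)) := Nat.card_pos
  rw [← h1] at h2
  have h4 := Nat.eq_of_mul_eq_mul_left h3 h2
  rw [Pt, Subgroup.index_map_eq _ (QuotientGroup.mk'_surjective _), h4]
  rw [QuotientGroup.ker_mk']
  exact fun z hz => Subgroup.mem_centralizer_iff.2 fun x _ => Subgroup.mem_center_iff.1 hz x

theorem sm_N {g : G} (hg : (g : V ≃ₗ[ZMod 17] V) ∈ N) (H : Sym 2 2 N V) (x : N ⧸ Subgroup.center N) :
    sm hn g x = x := by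
  obtain ⟨a, rfl⟩ := QuotientGroup.mk_surjective x
  rw [sm_mk]
  apply Eq.symm
  rw [QuotientGroup.eq]
  have h1 : a⁻¹ * cj hn g a = ⁅a⁻¹, (⟨g, hg⟩ : N)⁆ := by
    apply Subtype.ext
    change (a : V ≃ₗ[ZMod 17] V)⁻¹ * (g * a * (g : V ≃ₗ[ZMod 17] V)⁻¹) =
      (a : V ≃ₗ[ZMod 17] V)⁻¹ * g * ((a : V ≃ₗ[ZMod 17] V)⁻¹)⁻¹ * (g : V ≃ₗ[ZMod 17] V)⁻¹
    rw [inv_inv]
    simp only [mul_assoc]
  rw [h1]
  exact H.comm _ _

/-- the two conditions on `g` -/
theorem six_one (H : Sym 2 2 N V) (hF : Full 2 N) {t : N ⧸ Subgroup.center N} (ht : t ≠ 1) (g : G) :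
    sm hn g t = t ↔ (g : V ≃ₗ[ZMod 17] V) ∈ Lst G (tau hF t) := by
  have hcj : ∀ v : V, cj hn g (tau hF t) • ((g : V ≃ₗ[ZMod 17] V) v) = (g : V ≃ₗ[ZMod 17] V) (tau hF t • v) := by
    intro v
    change (g : V ≃ₗ[ZMod 17] V) (tau hF t • ((g : V ≃ₗ[ZMod 17] V)⁻¹ ((g : V ≃ₗ[ZMod 17] V) v))) = _
    have h7 : ((g : V ≃ₗ[ZMod 17] V)⁻¹) ((g : V ≃ₗ[ZMod 17] V) v) = v := by
      rw [← LinearEquiv.mul_apply, inv_mul_cancel]; rfl
    rw [h7]
  have hsurj : ∀ v : V, ∃ w, (g : V ≃ₗ[ZMod 17] V) w = v := (g : V ≃ₗ[ZMod 17] V).surjective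
  constructor
  · intro h
    refine ⟨g.2, ?_⟩
    rcases sm_tau hn H hF g t h with h1 | h1
    · left
      intro v
      have := hcj v
      rw [h1] at this
      exact this.symm
    · right
      intro v
      have := hcj v
      rw [h1] at this
      exact this.symm
  · rintro ⟨-, h | h⟩
    · have h1 : cj hn g (tau hF t) = tau hF t := by
        refine Subtype.ext (LinearEquiv.ext fun v => ?_)
        obtain ⟨w, rfl⟩ := hsurj v
        exact (hcj w).trans (h w)
      rw [← tau_mk hF t, sm_mk, tau_mk, h1, tau_mk]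
    · have h1 : ∀ v : V, cj hn g (tau hF t) • v = (-1 : ZMod 17) • tau hF t • v := by
        intro v
        obtain ⟨w, rfl⟩ := hsurj v
        rw [neg_one_smul]
        exact (hcj w).trans (h w)
      have h2 := mk_eq_of_scalar h1
      rw [← sm_mk, tau_mk] at h2
      exact h2

theorem six_two (hV : Nat.card V = 17 ^ 4) (H : Sym 2 2 N V) (hF : Full 2 N)
    (hz : Nat.card (Subgroup.center N) = 4) {t : N ⧸ Subgroup.center N} (ht : t ≠ 1) (g : G) :
    (sm hn g t = t ∧ ∀ x ∈ Pt hF t, sm hn g x = x ∨ sm hn g x = x * t) ↔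
      (g : V ≃ₗ[ZMod 17] V) ∈ Kst G N (tau hF t) := by
  have hcom : ∀ x : N, (∀ v : V, (x : V ≃ₗ[ZMod 17] V) ((tau hF t : V ≃ₗ[ZMod 17] V) v) =
      (tau hF t : V ≃ₗ[ZMod 17] V) ((x : V ≃ₗ[ZMod 17] V) v)) ↔ x * tau hF t = tau hF t * x := by
    intro x
    constructor
    · intro h
      exact Subtype.ext (LinearEquiv.ext h)
    · intro h v
      exact DFunLike.congr_fun (congrArg Subtype.val h) v
  constructor
  · rintro ⟨h1, h2⟩
    refine ⟨(six_one hn H hF ht g).1 h1, fun x hx hxt => ?_⟩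
    have hxt' := (hcom ⟨x, hx⟩).1 hxt
    rcases h2 ((⟨x, hx⟩ : N) : N ⧸ Subgroup.center N) ((mem_Pt hF t _).2 hxt') with h | h
    · rw [sm_mk] at h
      have h3 : (⟨x, hx⟩ : N)⁻¹ * cj hn g ⟨x, hx⟩ ∈ Subgroup.center N := QuotientGroup.eq.1 h.symm
      obtain ⟨c, hc⟩ := scalar hV H hF hz h3
      refine ⟨c, Or.inl fun v => ?_⟩
      have h4 := hc v
      rw [mul_smul, inv_smul_eq_iff] at h4
      have h5 : (⟨x, hx⟩ : N) • c • v = c • (⟨x, hx⟩ : N) • v := map_smul x c v
      rw [h5] at h4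
      exact h4
    · have hmk : (((⟨x, hx⟩ : N) * tau hF t : N) : N ⧸ Subgroup.center N) =
          ((⟨x, hx⟩ : N) : N ⧸ Subgroup.center N) * t := by
        rw [QuotientGroup.mk_mul, tau_mk]
      rw [sm_mk, ← hmk] at h
      have h3 : ((⟨x, hx⟩ : N) * tau hF t)⁻¹ * cj hn g ⟨x, hx⟩ ∈ Subgroup.center N := QuotientGroup.eq.1 h.symm
      obtain ⟨c, hc⟩ := scalar hV H hF hz h3
      refine ⟨c, Or.inr fun v => ?_⟩
      have h4 := hc v
      rw [mul_smul, inv_smul_eq_iff] at h4
      have h5 : ((⟨x, hx⟩ : N) * tau hF t) • c • v = c • ((⟨x, hx⟩ : N) * tau hF t) • v :=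
        map_smul ((⟨x, hx⟩ * tau hF t : N) : V ≃ₗ[ZMod 17] V) c v
      rw [h5] at h4
      exact h4
  · rintro ⟨h1, h2⟩
    refine ⟨(six_one hn H hF ht g).2 h1, fun x hx => ?_⟩
    obtain ⟨a, rfl⟩ := QuotientGroup.mk_surjective x
    have hat := (mem_Pt hF t a).1 hx
    obtain ⟨c, hc | hc⟩ := h2 a a.2 ((hcom a).2 hat)
    · left
      rw [sm_mk]
      exact mk_eq_of_scalar hc
    · right
      have h3 : ((a * tau hF t : N) : N ⧸ Subgroup.center N) = (a : N ⧸ Subgroup.center N) * t := by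
        rw [QuotientGroup.mk_mul, tau_mk]
      rw [sm_mk, ← h3]
      exact mk_eq_of_scalar hc

theorem beta_two (hV : Nat.card V = 17 ^ 4) {G N : Subgroup (V ≃ₗ[ZMod 17] V)} (hN : N ≤ G)
    (hn : ∀ g ∈ G, ∀ x ∈ N, g * x * g⁻¹ ∈ N) (hG : ¬ 17 ∣ Nat.card G) {h m : ℕ} (hh : Half G h) (h2 : 2 ≤ h)
    (hm : m * h = Nat.card G) (hm' : m = 320 ∨ m = 960) (H : Sym 2 2 N V) (hF : Full 2 N)
    (hz : Nat.card (Subgroup.center N) = 4)
    (h1 : ∀ t ∈ N, t * t = 1 → t ≠ 1 → (∃ v, t v ≠ -v) →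
      h = 2 * Nat.card (Rst G t) ∧ Nat.card (Lst G t) = 6 * Nat.card (Kst G N t)) : False := by
  classical
  have hfin := H.fin
  have hnorm : (N.subgroupOf G).Normal := normal hn
  let act : MulDistribMulAction G (N ⧸ Subgroup.center N) := MulDistribMulAction.compHom _ ((qa N).comp (cj hn))
  have hsm : ∀ (g : G) (x : N ⧸ Subgroup.center N), g • x = sm hn g x := fun _ _ => rfl
  have hN64 : Nat.card N = 64 := by rw [H.card, hz]; norm_num
  -- the hypothesis for the representatives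
  have h1' : ∀ t : N ⧸ Subgroup.center N, t ≠ 1 → h = 2 * Nat.card (Rst G (tau hF t)) ∧
      Nat.card (Lst G (tau hF t)) = 6 * Nat.card (Kst G N (tau hF t)) := by
    intro t ht
    have hc := tau_notMem hF ht
    refine h1 (tau hF t) (tau hF t).2 (congrArg Subtype.val (tau_sq hF t)) ?_ ?_
    · intro h
      apply hc
      have : tau hF t = 1 := Subtype.ext h
      rw [this]
      exact Subgroup.one_mem _
    · by_contra hcon
      push Not at hcon
      apply hc
      apply central_of_scalar (c := -1)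
      intro v
      rw [neg_one_smul]
      exact hcon v
  have hRcard : ∀ t : N ⧸ Subgroup.center N, Nat.card (Rt G hF t) = Nat.card (Rst G (tau hF t)) := by
    intro t
    refine Nat.card_congr ?_
    exact
      { toFun := fun g => ⟨(g : G), (g : G).2, g.2⟩
        invFun := fun g => ⟨⟨g.1, g.2.1⟩, g.2.2⟩
        left_inv := fun g => rfl
        right_inv := fun g => rfl }
  have hmemM : ∀ (t : N ⧸ Subgroup.center N) (g : G), g ∈ N.subgroupOf G ⊔ Rt G hF t ↔
      ∃ y ∈ N.subgroupOf G, ∃ r ∈ Rt G hF t, y * r = g := fun t g => Subgroup.mem_sup_of_normal_left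
  have hsmN : ∀ y ∈ N.subgroupOf G, ∀ x : N ⧸ Subgroup.center N, y • x = x := fun y hy x => sm_N hn hy H x
  have hRact : ∀ t : N ⧸ Subgroup.center N, t ≠ 1 → ∀ r ∈ Rt G hF t, r • t = t ∧
      ∀ x ∈ Pt hF t, r • x = x ∨ r • x = x * t := by
    intro t ht r hr
    obtain ⟨h3, h4⟩ := Rt_act hn H hF ht hr
    refine ⟨?_, fun x hx => ?_⟩
    · have h5 : sm hn r ((tau hF t : N) : N ⧸ Subgroup.center N) = ((tau hF t : N) : N ⧸ Subgroup.center N) := by
        rw [sm_mk, h3]
      rw [tau_mk] at h5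
      exact h5
    · obtain ⟨a, rfl⟩ := QuotientGroup.mk_surjective x
      rcases h4 a ((mem_Pt hF t a).1 hx) with h | h
      · left; rw [hsm, sm_mk, h]
      · right; rw [hsm, sm_mk, h, QuotientGroup.mk_mul, tau_mk]
  have hact : ∀ t : N ⧸ Subgroup.center N, t ≠ 1 → ∀ g ∈ N.subgroupOf G ⊔ Rt G hF t, g • t = t ∧
      ∀ x ∈ Pt hF t, g • x = x ∨ g • x = x * t := by
    intro t ht g hg
    obtain ⟨y, hy, r, hr, rfl⟩ := (hmemM t g).1 hg
    obtain ⟨h3, h4⟩ := hRact t ht r hr
    refine ⟨by rw [mul_smul, h3, hsmN y hy], fun x hx => ?_⟩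
    rw [mul_smul, hsmN y hy]
    exact h4 x hx
  have hcardM : ∀ t : N ⧸ Subgroup.center N, t ≠ 1 →
      Nat.card (N.subgroupOf G ⊔ Rt G hF t : Subgroup G) = 16 * h := by
    intro t ht
    set N' := N.subgroupOf G with hN'
    set R := Rt G hF t with hR
    have e1 : Nat.card N' * N'.relIndex (N' ⊔ R) = Nat.card (N' ⊔ R : Subgroup G) := by
      have := Subgroup.relIndex_mul_relIndex (⊥ : Subgroup G) N' (N' ⊔ R) bot_le le_sup_left
      rwa [Subgroup.relIndex_bot_left, Subgroup.relIndex_bot_left] at this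
    rw [Subgroup.relIndex_sup_left] at e1
    have e2 : Nat.card (N' ⊓ R : Subgroup G) * N'.relIndex R = Nat.card R := by
      have := Subgroup.relIndex_mul_relIndex (⊥ : Subgroup G) (N' ⊓ R) R bot_le inf_le_right
      rwa [Subgroup.relIndex_bot_left, Subgroup.relIndex_bot_left, Subgroup.inf_relIndex_right] at this
    have e3 : Nat.card (N' ⊓ R : Subgroup G) = 2 := by
      have hτG : (tau hF t : V ≃ₗ[ZMod 17] V) ∈ G := hN (tau hF t).2
      have e4 : ((N' ⊓ R : Subgroup G) : Set G) = {1, ⟨tau hF t, hτG⟩} := by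
        ext g
        constructor
        · rintro ⟨hg1, hg2⟩
          have e5 : (⟨g, hg1⟩ : N) = 1 ∨ (⟨g, hg1⟩ : N) = tau hF t :=
            eq_of_fix H (tau_sq hF t) (tau_notMem hF ht) hg2
          rcases e5 with e5 | e5
          · left
            have e7 : (g : V ≃ₗ[ZMod 17] V) = 1 := congrArg (fun z : N => (z : V ≃ₗ[ZMod 17] V)) e5
            exact Subtype.ext e7
          · right
            have e7 : (g : V ≃ₗ[ZMod 17] V) = tau hF t := congrArg (fun z : N => (z : V ≃ₗ[ZMod 17] V)) e5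
            exact Subtype.ext e7
        · rintro (rfl | rfl)
          · exact Subgroup.one_mem _
          · exact ⟨(tau hF t).2, fun v hv => hv⟩
      have e6 : Nat.card (N' ⊓ R : Subgroup G) = ((N' ⊓ R : Subgroup G) : Set G).ncard := rfl
      rw [e6, e4, Set.ncard_pair]
      intro h3
      apply tau_notMem hF ht
      have h4 : tau hF t = 1 := Subtype.ext (congrArg Subtype.val h3).symm
      rw [h4]
      exact Subgroup.one_mem _
    have e4 : Nat.card N' = 64 := (card_N' hN).trans hN64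
    have e5 := hRcard t
    have e6 := (h1' t ht).1
    rw [e3] at e2
    rw [e4] at e1
    rw [← hR] at e5
    omega
  have hcfg : Cfg (G := G) (fun t : N ⧸ Subgroup.center N => Pt hF t) (N.subgroupOf G)
      (fun t => N.subgroupOf G ⊔ Rt G hF t) := by
    refine ⟨?_, ?_, ?_, ?_, ?_, ?_, ?_, ?_, ?_, ?_, ?_, ?_⟩
    · -- cardU
      have := Subgroup.card_eq_card_quotient_mul_card_subgroup (Subgroup.center N)
      rw [hz, hN64] at this
      omega
    · -- sq
      intro x
      obtain ⟨a, rfl⟩ := QuotientGroup.mk_surjective x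
      rw [← QuotientGroup.mk_mul, ← pow_two]
      exact (QuotientGroup.eq_one_iff _).2 (H.exp a)
    · -- memP
      intro t _
      have := (mem_Pt hF t (tau hF t)).2 rfl
      rwa [tau_mk] at this
    · -- idx
      intro t ht
      exact index_Pt H hF ht
    · -- mapP
      intro g t x _ hx
      obtain ⟨a, rfl⟩ := QuotientGroup.mk_surjective x
      have h3 := (mem_Pt hF t a).1 hx
      rw [hsm, hsm, sm_mk]
      refine (mem_Pt hF _ _).2 ?_
      have h4 : (cj hn g a) * (cj hn g (tau hF t)) = (cj hn g (tau hF t)) * (cj hn g a) := by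
        rw [← map_mul, h3, map_mul]
      have h5 : ((cj hn g (tau hF t) : N) : N ⧸ Subgroup.center N) = (tau hF (sm hn g t) : N) := by
        rw [tau_mk, ← sm_mk, tau_mk]
      exact (comm_of_mk (x := cj hn g a) h5.symm h4.symm).symm
    · -- le
      intro t _
      exact le_sup_left
    · -- ker
      intro t ht g hg hg1
      obtain ⟨y, hy, r, hr, rfl⟩ := (hmemM t g).1 hg
      have h3 : ∀ x : N ⧸ Subgroup.center N, sm hn r x = x := by
        intro x
        have h4 := hg1 x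
        rw [mul_smul, hsmN y hy] at h4
        exact h4
      have h4 : (r : V ≃ₗ[ZMod 17] V) ∈ N := Rt_ker hn H hF ht hr h3
      exact (N.subgroupOf G).mul_mem hy h4
    · -- act
      exact hact
    · -- card
      rcases hm' with rfl | rfl
      · left
        intro t ht
        rw [hcardM t ht, ← hm]
        ring
      · right
        intro t ht
        rw [hcardM t ht, ← hm]
        ring
    · -- three
      rw [card_N' hN, hN64]
      norm_num
    · -- norm
      intro t ht g hgt hg3 x hx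
      have h3 := cj_three hn H hF ht hgt hg3
      obtain ⟨y, hy, r, hr, rfl⟩ := (hmemM t x).1 hx
      have h4 : g * (y * r) * g⁻¹ = (g * y * g⁻¹) * (g * r * g⁻¹) := by group
      rw [h4]
      refine (hmemM t _).2 ⟨_, hnorm.conj_mem y hy g, _, ?_, rfl⟩
      intro v hv
      change (g : V ≃ₗ[ZMod 17] V) ((r : V ≃ₗ[ZMod 17] V) ((g : V ≃ₗ[ZMod 17] V)⁻¹ v)) = v
      have h5 : tau hF t • ((g : V ≃ₗ[ZMod 17] V)⁻¹ v) = (g : V ≃ₗ[ZMod 17] V)⁻¹ v := by
        have h6 : (cj hn g (tau hF t)) • v = v := by rw [h3, hv]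
        have h7 : (g : V ≃ₗ[ZMod 17] V) (tau hF t • ((g : V ≃ₗ[ZMod 17] V)⁻¹ v)) = v := h6
        have h8 : (g : V ≃ₗ[ZMod 17] V)⁻¹ ((g : V ≃ₗ[ZMod 17] V) (tau hF t • ((g : V ≃ₗ[ZMod 17] V)⁻¹ v))) =
            tau hF t • ((g : V ≃ₗ[ZMod 17] V)⁻¹ v) := by
          rw [← LinearEquiv.mul_apply, inv_mul_cancel]; rfl
        rw [← h8, h7]
      rw [hr _ h5]
      have h6 : (g : V ≃ₗ[ZMod 17] V) ((g : V ≃ₗ[ZMod 17] V)⁻¹ v) = v := by
        rw [← LinearEquiv.mul_apply, mul_inv_cancel]; rfl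
      exact h6
    · -- six
      intro t ht
      have h3 : Nat.card {g : G // g • t = t} = Nat.card (Lst G (tau hF t)) := by
        refine Nat.card_congr ?_
        exact
          { toFun := fun g => ⟨(g.1 : V ≃ₗ[ZMod 17] V), (six_one hn H hF ht g.1).1 g.2⟩
            invFun := fun g => ⟨⟨g.1, g.2.1⟩, (six_one hn H hF ht ⟨g.1, g.2.1⟩).2 g.2⟩
            left_inv := fun g => rfl
            right_inv := fun g => rfl }
      have h4 : Nat.card {g : G // g • t = t ∧ ∀ x ∈ Pt hF t, g • x = x ∨ g • x = x * t} =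
          Nat.card (Kst G N (tau hF t)) := by
        refine Nat.card_congr ?_
        exact
          { toFun := fun g => ⟨(g.1 : V ≃ₗ[ZMod 17] V), (six_two hn hV H hF hz ht g.1).1 g.2⟩
            invFun := fun g => ⟨⟨g.1, g.2.1.1⟩, (six_two hn hV H hF hz ht ⟨g.1, g.2.1.1⟩).2 g.2⟩
            left_inv := fun g => rfl
            right_inv := fun g => rfl }
      rw [h3, h4]
      exact (h1' t ht).2
  exact hcfg.false

end two

end Cfsg.Agent.H1.HT
end

private theorem dce_2ef7ea0c3cb1 : _root_.True := by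
  try have : _root_.True := by simp only [_root_.Cfsg.Agent.H1.HT.tau.congr_simp]
  try have : _root_.True := by simp only [_root_.Cfsg.Agent.H1.HT.cj.congr_simp]
  try have : _root_.True := by simp only [_root_.Cfsg.Agent.H1.HT.Pt.eq_1]
  exact _root_.True.intro
end

-- part: H755/HT/Numbers_mg
section
prune_inst 0x4c1000a01534010000004058211000295050001900000000018240742030e52228002a00048000c0602220200000400100000042000000000000004000021032890a8000021410004040007801083100000000000000000000000000000041000000400002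
set_option linter.all false
open scoped Cfsg.Agent.FastGrp

-- part: H177/HT/Free
section
/-!
# TEAM HT-E (S3540, S3577), A4 part 1: a vector with trivial stabiliser (helper177)
-/

set_option autoImplicit false

open scoped commutatorElement
open Finset Cfsg.Agent.H662.HT

namespace Cfsg.Agent.H177.HT

universe u v

variable {s a : ℕ} {N : Type u} {V : Type v} [Group N] [AddCommGroup V] [DistribMulAction N V]

/-- there is a central element of order `s` -/
theorem exists_omega (H : _root_.Cfsg.Agent.H662.HT.Sym s a N V) : ∃ w ∈ Subgroup.center N, orderOf w = s := by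
  have hfin := H.fin
  by_contra hno
  have hab : ∀ x y : N, x * y = y * x := by
    intro x y
    by_contra hne
    have h1 : ⁅x, y⁆ ≠ 1 := fun h => hne (commutatorElement_eq_one_iff_mul_comm.1 h)
    refine hno ⟨⁅x, y⁆, H.comm x y, ?_⟩
    have := H.hs
    exact orderOf_eq_prime_iff (hp := ⟨H.hs⟩) |>.2 ⟨H.comm_pow x y, h1⟩
  have h1 : Subgroup.center N = ⊤ := by
    rw [eq_top_iff]
    intro x _
    exact Subgroup.mem_center_iff.2 fun y => hab y x
  have h2 := H.card
  rw [h1, Subgroup.card_top] at h2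
  have h3 : 0 < Nat.card N := Nat.card_pos
  have h4 : 1 < s ^ (2 * a) := Nat.one_lt_pow (by have := H.ha; omega) H.hs.one_lt
  nlinarith

/-- `s` divides the order of the centre -/
theorem dvd_center (H : _root_.Cfsg.Agent.H662.HT.Sym s a N V) : s ∣ Nat.card (Subgroup.center N) := by
  obtain ⟨w, hw, ho⟩ := exists_omega H
  rw [← ho, ← Subgroup.orderOf_mk w hw]
  exact orderOf_dvd_natCard _

/-- a subgroup generated by a non-central element of order `s` meets the centre trivially -/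
theorem zpowers_inf (H : _root_.Cfsg.Agent.H662.HT.Sym s a N V) {n : N} (h1 : n ^ s = 1) (h2 : n ∉ Subgroup.center N) :
    Subgroup.zpowers n ⊓ Subgroup.center N = ⊥ ∧ Nat.card (Subgroup.zpowers n) = s := by
  have hne : n ≠ 1 := by
    rintro rfl
    exact h2 (Subgroup.one_mem _)
  have ho : orderOf n = s := orderOf_eq_prime_iff (hp := ⟨H.hs⟩) |>.2 ⟨h1, hne⟩
  have hc : Nat.card (Subgroup.zpowers n) = s := by rw [Nat.card_zpowers, ho]
  refine ⟨?_, hc⟩
  have hfin := H.fin
  have hd : Nat.card ↥(Subgroup.zpowers n ⊓ Subgroup.center N) ∣ s := by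
    rw [← hc]
    exact Subgroup.card_dvd_of_le inf_le_left
  rcases (Nat.dvd_prime H.hs).1 hd with h | h
  · exact Subgroup.card_eq_one.1 h
  · exfalso
    have h3 : Subgroup.zpowers n ⊓ Subgroup.center N = Subgroup.zpowers n := by
      apply Subgroup.eq_of_le_of_card_ge inf_le_left
      rw [h, hc]
    have h4 : n ∈ Subgroup.zpowers n ⊓ Subgroup.center N := by
      rw [h3]
      exact Subgroup.mem_zpowers n
    exact h2 h4.2

theorem mem_sol_bot {n : N} : n ∈ sol s (⊥ : Subgroup N) ↔ n ^ s = 1 := by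
  constructor
  · exact fun h => h.2
  · intro h
    refine ⟨?_, h⟩
    rw [Subgroup.mem_centralizer_iff]
    intro x hx
    rw [SetLike.mem_coe, Subgroup.mem_bot] at hx
    rw [hx, one_mul, mul_one]

/-- **A4, the free vector**; `hcf` and `hce` are `Sym.card_fixp` and `Sym.card_eq` (A1). -/
theorem free_of_lt_aux (H : _root_.Cfsg.Agent.H662.HT.Sym s a N V)
    (hcf : ∀ S : Subgroup N, S ⊓ Subgroup.center N = ⊥ → Nat.card V = Nat.card (fixp V S) ^ Nat.card S)
    (hce : ∀ S : Subgroup N, S ⊓ Subgroup.center N = ⊥ → ∃ j ≤ a, Nat.card S = s ^ j)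
    {r F : ℕ} (hr : 1 ≤ r) (hF : Nat.card V = F ^ s)
    (hlt : (Nat.card (sol s (⊥ : Subgroup N)) - s) * (F - 1) <
      (s - 1) * (Nat.card V - 1) + (s ^ r - s) * Nat.card (spec s r N V)) :
    ∃ v : V, v ≠ 0 ∧ MulAction.stabilizer N v = ⊥ := by
  classical
  have hfin := H.fin
  have hfinV := H.finV
  have : Fintype N := Fintype.ofFinite N
  have : Fintype V := Fintype.ofFinite V
  by_contra hno
  push Not at hno
  have hs1 := H.hs.one_lt
  -- the two finite sets
  let A : Finset N := univ.filter fun n => n ≠ 1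
  let B : Finset V := univ.filter fun v => v ≠ 0
  have hdc := Finset.sum_card_bipartiteAbove_eq_sum_card_bipartiteBelow (s := A) (t := B)
    (fun n v => n • v = v)
  -- lower bound
  have hlow : ∀ v ∈ B, (s - 1) + (if v ∈ spec s r N V then s ^ r - s else 0) ≤
      #(A.bipartiteBelow (fun n v => n • v = v) v) := by
    intro v hv
    have hv0 : v ≠ 0 := (Finset.mem_filter.1 hv).2
    have hcard : #(A.bipartiteBelow (fun n v => n • v = v) v) + 1 = Nat.card (MulAction.stabilizer N v) := by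
      have e1 : insert 1 (A.bipartiteBelow (fun n v => n • v = v) v) =
          univ.filter fun n : N => n ∈ MulAction.stabilizer N v := by
        ext n
        simp only [A, Finset.mem_insert, Finset.mem_bipartiteBelow, Finset.mem_filter, Finset.mem_univ, true_and,
          MulAction.mem_stabilizer_iff]
        constructor
        · rintro (rfl | h)
          · exact one_smul _ _
          · exact h.2
        · intro h
          by_cases hn : n = 1
          · exact Or.inl hn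
          · exact Or.inr ⟨hn, h⟩
      rw [← Finset.card_insert_of_notMem (a := (1 : N)), e1]
      · rw [Nat.card_eq_fintype_card, Fintype.card_subtype]
      · simp only [A, Finset.mem_bipartiteBelow, _root_.ne_eq, _root_.Finset.mem_filter, _root_.Finset.mem_univ, _root_.not_true_eq_false, _root_.and_false, _root_.one_smul, _root_.and_true, _root_.not_false_eq_true]
    obtain ⟨j, -, hj⟩ := hce _ (H.stab_inf hv0)
    have hj0 : j ≠ 0 := by
      rintro rfl
      rw [pow_zero] at hj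
      exact hno v hv0 (Subgroup.card_eq_one.1 hj)
    have h1 : s ≤ s ^ j := Nat.le_self_pow hj0 s
    split_ifs with hsp
    · have h2 := hsp.2
      have h3 : s ≤ s ^ r := Nat.le_self_pow (by omega) s
      omega
    · omega
  -- upper bound
  have hup : ∀ n ∈ A, #(B.bipartiteAbove (fun n v => n • v = v) n) ≤
      if n ^ s = 1 ∧ n ∉ Subgroup.center N then F - 1 else 0 := by
    intro n hn
    have hn1 : n ≠ 1 := (Finset.mem_filter.1 hn).2
    split_ifs with h
    · obtain ⟨h1, h2⟩ := zpowers_inf H h.1 h.2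
      have h3 := hcf _ h1
      rw [h2, hF] at h3
      have h4 : F = Nat.card (fixp V (Subgroup.zpowers n)) := Nat.pow_left_injective H.hs.ne_zero h3
      have e1 : insert 0 (B.bipartiteAbove (fun n v => n • v = v) n) =
          univ.filter fun v : V => v ∈ fixp V (Subgroup.zpowers n) := by
        ext v
        simp only [B, Finset.mem_insert, Finset.mem_bipartiteAbove, Finset.mem_filter, Finset.mem_univ, true_and,
          mem_fixp]
        constructor
        · rintro (rfl | h)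
          · exact fun g _ => smul_zero g
          · intro g hg
            have : Subgroup.zpowers n ≤ MulAction.stabilizer N v := by
              rw [Subgroup.zpowers_le]
              exact h.2
            exact this hg
        · intro h
          by_cases hv : v = 0
          · exact Or.inl hv
          · exact Or.inr ⟨hv, h n (Subgroup.mem_zpowers n)⟩
      have h5 : #(B.bipartiteAbove (fun n v => n • v = v) n) + 1 = F := by
        rw [h4, ← Finset.card_insert_of_notMem (a := (0 : V)), e1]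
        · rw [Nat.card_eq_fintype_card, Fintype.card_subtype]
        · simp only [B, Finset.mem_bipartiteAbove, _root_.ne_eq, _root_.Finset.mem_filter, _root_.Finset.mem_univ, _root_.not_true_eq_false, _root_.and_false, _root_.smul_zero, _root_.and_true, _root_.not_false_eq_true]
      omega
    · rw [Nat.le_zero, Finset.card_eq_zero, Finset.eq_empty_iff_forall_notMem]
      intro v hv
      rw [Finset.mem_bipartiteAbove] at hv
      have hv0 : v ≠ 0 := (Finset.mem_filter.1 hv.1).2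
      apply h
      have hmem : n ∈ MulAction.stabilizer N v := hv.2
      refine ⟨H.expS (H.stab_inf hv0) hmem, fun hc => hv0 (H.semi n hc hn1 v hv.2)⟩
  have hsum1 := Finset.sum_le_sum hup
  have hsum2 := Finset.sum_le_sum hlow
  rw [hdc] at hsum1
  have hmain := hsum2.trans hsum1
  rw [Finset.sum_add_distrib, Finset.sum_const, ← Finset.sum_filter, ← Finset.sum_filter, Finset.sum_const,
    Finset.sum_const, smul_eq_mul, smul_eq_mul, smul_eq_mul] at hmain
  -- the cardinalities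
  have c1 : #B = Nat.card V - 1 := by
    have : #B + 1 = Nat.card V := by
      rw [← Finset.card_insert_of_notMem (a := (0 : V)) (s := B) (by simp only [B, _root_.ne_eq, _root_.Finset.mem_filter, _root_.Finset.mem_univ, _root_.not_true_eq_false, _root_.and_false, _root_.not_false_eq_true]), Nat.card_eq_fintype_card,
        ← Finset.card_univ]
      congr 1
      ext v
      by_cases hv : v = 0 <;> simp only [B, hv, _root_.ne_eq, _root_.Finset.mem_insert, _root_.Finset.mem_filter, _root_.Finset.mem_univ, _root_.not_true_eq_false, _root_.and_false, _root_.or_false, _root_.not_false_eq_true, _root_.and_self, _root_.or_true]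
    omega
  have c2 : #(B.filter fun v => v ∈ spec s r N V) = Nat.card (spec s r N V) := by
    rw [Nat.card_eq_fintype_card, ← Set.toFinset_card]
    congr 1
    ext v
    simp only [B, Finset.mem_filter, Finset.mem_univ, true_and, Set.mem_toFinset, and_iff_right_iff_imp]
    exact fun h => h.1
  have c3 : #(A.filter fun n => n ^ s = 1 ∧ n ∉ Subgroup.center N) + s ≤ Nat.card (sol s (⊥ : Subgroup N)) := by
    obtain ⟨w, hw, ho⟩ := exists_omega H
    have e1 : Nat.card (sol s (⊥ : Subgroup N)) = #(univ.filter fun n : N => n ^ s = 1) := by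
      rw [Nat.card_eq_fintype_card, ← Set.toFinset_card]
      congr 1
      ext n
      rw [Set.mem_toFinset, mem_sol_bot]
      simp
    have e2 : #(univ.filter fun n : N => n ∈ Subgroup.zpowers w) = s := by
      rw [← Fintype.card_subtype, ← Nat.card_eq_fintype_card]
      exact (Nat.card_zpowers w).trans ho
    have e3 : #(A.filter fun n => n ^ s = 1 ∧ n ∉ Subgroup.center N) +
        #(univ.filter fun n : N => n ∈ Subgroup.zpowers w) ≤ #(univ.filter fun n : N => n ^ s = 1) := by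
      rw [← Finset.card_union_of_disjoint]
      · refine Finset.card_le_card fun n hn => ?_
        rw [Finset.mem_union] at hn
        simp only [A, Finset.mem_filter, Finset.mem_univ, true_and] at hn ⊢
        rcases hn with hn | hn
        · exact hn.2.1
        · have := orderOf_dvd_of_mem_zpowers hn
          rw [ho] at this
          exact orderOf_dvd_iff_pow_eq_one.1 this
      · rw [Finset.disjoint_left]
        intro n hn hn'
        simp only [A, Finset.mem_filter, Finset.mem_univ, true_and] at hn hn'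
        exact hn.2.2 ((Subgroup.zpowers_le.2 hw) hn')
    rw [e1]
    omega
  rw [c1, c2] at hmain
  have hfinal : #(A.filter fun n => n ^ s = 1 ∧ n ∉ Subgroup.center N) * (F - 1) ≤
      (Nat.card (sol s (⊥ : Subgroup N)) - s) * (F - 1) := Nat.mul_le_mul_right _ (by omega)
  have e3 := Nat.mul_comm (Nat.card V - 1) (s - 1)
  have e4 := Nat.mul_comm (Nat.card (spec s r N V)) (s ^ r - s)
  rw [e3, e4] at hmain
  omega

end Cfsg.Agent.H177.HT
end

-- part: H177/HT/Full
section
/-!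
# TEAM HT-E (S3540, S3577), A4 part 2: the numbers of a full group of symplectic type (helper177)
-/

set_option autoImplicit false

open scoped commutatorElement
open Finset Cfsg.Agent.H662.HT

namespace Cfsg.Agent.H177.HT

universe u v

variable {s a : ℕ} {N : Type u} {V : Type v} [Group N] [AddCommGroup V] [DistribMulAction N V]

/-- the subgroup `S <n>` for `n` centralising `S` -/
def adj (S : Subgroup N) (n : N) (hn : ∀ x ∈ S, x * n = n * x) : Subgroup N where
  carrier := {y | ∃ x ∈ S, ∃ k : ℤ, y = x * n ^ k}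
  one_mem' := ⟨1, S.one_mem, 0, by simp⟩
  mul_mem' := by
    rintro _ _ ⟨x, hx, k, rfl⟩ ⟨y, hy, l, rfl⟩
    refine ⟨x * y, S.mul_mem hx hy, k + l, ?_⟩
    have h1 : Commute y (n ^ k) := (show Commute y n from hn y hy).zpow_right k
    rw [zpow_add, mul_assoc x, ← mul_assoc (n ^ k), ← h1.eq, mul_assoc, mul_assoc]
  inv_mem' := by
    rintro _ ⟨x, hx, k, rfl⟩
    refine ⟨x⁻¹, S.inv_mem hx, -k, ?_⟩
    have h1 : Commute x (n ^ k) := (show Commute x n from hn x hx).zpow_right k
    rw [h1.eq, mul_inv_rev, zpow_neg]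

/-- elements of `S Z` in the set of solutions -/
theorem sol_le (H : _root_.Cfsg.Agent.H662.HT.Sym s a N V) {S : Subgroup N} (hS : S ⊓ Subgroup.center N = ⊥)
    (h : ∀ n ∈ sol s S, ∃ x ∈ S, ∃ c ∈ Subgroup.center N, n = x * c) :
    Nat.card (sol s S) ≤ Nat.card S * s := by
  classical
  have hfin := H.fin
  have hcyc := H.cyc
  have : Fintype N := Fintype.ofFinite N
  let O : Finset (Subgroup.center N) := univ.filter fun c => c ^ s = 1
  have hO : #O ≤ s := IsCyclic.card_pow_eq_one_le H.hs.pos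
  have h' : ∀ n : sol s S, ∃ p : S × O, (n : N) = (p.1 : N) * ((p.2 : Subgroup.center N) : N) := by
    rintro ⟨n, hn⟩
    obtain ⟨x, hx, c, hc, e⟩ := h n hn
    have h1 : c ^ s = 1 := by
      have h2 := hn.2
      have h3 : Commute x c := (Subgroup.mem_center_iff.1 hc x)
      rw [e, h3.mul_pow, H.expS hS hx, one_mul] at h2
      exact h2
    refine ⟨⟨⟨x, hx⟩, ⟨⟨c, hc⟩, ?_⟩⟩, e⟩
    rw [Finset.mem_filter]
    exact ⟨Finset.mem_univ _, Subtype.ext h1⟩
  choose p hp using h'
  have hinj : Function.Injective p := by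
    intro m n hmn
    apply Subtype.ext
    rw [hp m, hp n, hmn]
  have h1 := Nat.card_le_card_of_injective p hinj
  rw [Nat.card_prod, Nat.card_eq_finsetCard] at h1
  exact h1.trans (Nat.mul_le_mul_left _ hO)

/-- a subgroup of order `s ^ a` meeting the centre trivially -/
theorem exists_max (H : _root_.Cfsg.Agent.H662.HT.Sym s a N V)
    (hce : ∀ S : Subgroup N, S ⊓ Subgroup.center N = ⊥ → ∃ j ≤ a, Nat.card S = s ^ j)
    (hsf : ∀ S : Subgroup N, S ⊓ Subgroup.center N = ⊥ → Nat.card (sol s S) * Nat.card S = s ^ (2 * a + 1)) :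
    ∃ S : Subgroup N, S ⊓ Subgroup.center N = ⊥ ∧ Nat.card S = s ^ a := by
  classical
  have hfin := H.fin
  obtain ⟨S, hS, hmax⟩ := Set.exists_max_image {S : Subgroup N | S ⊓ Subgroup.center N = ⊥}
    (fun S => Nat.card S) (Set.toFinite _) ⟨⊥, bot_inf_eq _⟩
  have hS' : S ⊓ Subgroup.center N = ⊥ := hS
  refine ⟨S, hS', ?_⟩
  obtain ⟨j, hj, hc⟩ := hce S hS'
  rcases Nat.eq_or_lt_of_le hj with rfl | hlt
  · exact hc
  exfalso
  have hsp := H.hs.pos
  have h1 : Nat.card (sol s S) = s ^ (2 * a + 1 - j) := by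
    have h2 := hsf S hS'
    rw [hc] at h2
    have h3 : s ^ (2 * a + 1) = s ^ (2 * a + 1 - j) * s ^ j := by
      rw [← pow_add]
      congr 1
      omega
    rw [h3] at h2
    exact Nat.eq_of_mul_eq_mul_right (pow_pos hsp j) h2
  have h2 : ∃ n ∈ sol s S, ∀ x ∈ S, ∀ c ∈ Subgroup.center N, n ≠ x * c := by
    by_contra hno
    push Not at hno
    have h3 := sol_le H hS' hno
    rw [h1, hc, ← pow_succ] at h3
    have h4 := (Nat.pow_le_pow_iff_right H.hs.one_lt).1 h3
    omega
  obtain ⟨n, hn, hnot⟩ := h2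
  have hcomm : ∀ x ∈ S, x * n = n * x := fun x hx => (Subgroup.mem_centralizer_iff.1 hn.1 x hx)
  have hnS : n ∉ S := fun h => hnot n h 1 (Subgroup.one_mem _) (mul_one n).symm
  let T := adj S n hcomm
  have hST : S ≤ T := fun x hx => ⟨x, hx, 0, by simp⟩
  have hnT : n ∈ T := ⟨1, S.one_mem, 1, by simp⟩
  have hT : T ⊓ Subgroup.center N = ⊥ := by
    rw [eq_bot_iff]
    rintro y ⟨⟨x, hx, k, rfl⟩, hy⟩
    have hns : n ^ (s : ℤ) = 1 := by rw [zpow_natCast]; exact hn.2
    by_cases hk : (s : ℤ) ∣ k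
    · obtain ⟨m, rfl⟩ := hk
      rw [zpow_mul, hns, one_zpow, mul_one] at hy ⊢
      have : x ∈ S ⊓ Subgroup.center N := ⟨hx, hy⟩
      rwa [hS'] at this
    · exfalso
      have hcop : IsCoprime k (s : ℤ) :=
        ((Prime.coprime_iff_not_dvd (Nat.prime_iff_prime_int.1 H.hs)).2 hk).symm
      obtain ⟨u, v, huv⟩ := hcop
      have e1 : n = (x⁻¹) ^ u * (x * n ^ k) ^ u := by
        have c1 : Commute x (n ^ k) := (show Commute x n from hcomm x hx).zpow_right k
        rw [c1.mul_zpow, inv_zpow, ← mul_assoc, inv_mul_cancel, one_mul, ← zpow_mul]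
        calc n = n ^ (1 : ℤ) := (zpow_one n).symm
          _ = n ^ (u * k + v * s) := by rw [huv]
          _ = n ^ (k * u) := by
            rw [zpow_add, mul_comm v, zpow_mul n (s : ℤ), hns, one_zpow, mul_one, mul_comm u]
      exact hnot _ (S.zpow_mem (S.inv_mem hx) u) _ (Subgroup.zpow_mem _ hy u) e1
  have h3 : Nat.card S < Nat.card T := by
    rcases lt_or_eq_of_le (Subgroup.card_le_of_le hST) with h | h
    · exact h
    · exfalso
      have h4 : S = T := Subgroup.eq_of_le_of_card_ge hST h.ge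
      rw [← h4] at hnT
      exact hnS hnT
  exact absurd (hmax T hT) (not_le.2 h3)

/-- the centre acts semiregularly on the non-zero fixed vectors of `S` -/
theorem center_dvd (H : _root_.Cfsg.Agent.H662.HT.Sym s a N V) (S : Subgroup N) :
    Nat.card (Subgroup.center N) ∣ Nat.card (fixp V S) - 1 := by
  classical
  have hfin := H.fin
  have hfinV := H.finV
  let X := {v : V // v ∈ fixp V S ∧ v ≠ 0}
  let act : MulAction (Subgroup.center N) X :=
    { smul := fun c v => ⟨(c : N) • v.1, fun g hg => by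
          rw [← mul_smul, Subgroup.mem_center_iff.1 c.2 g, mul_smul, v.2.1 g hg],
        fun h => v.2.2 ((smul_eq_zero_iff_eq _).1 h)⟩
      one_smul := fun v => Subtype.ext (one_smul N v.1)
      mul_smul := fun c d v => Subtype.ext (mul_smul (c : N) (d : N) v.1) }
  have hfree : ∀ v : X, MulAction.stabilizer (Subgroup.center N) v = ⊥ := by
    intro v
    rw [eq_bot_iff]
    intro c hc
    rw [Subgroup.mem_bot]
    by_contra hne
    have h1 : (c : N) • v.1 = v.1 := congrArg Subtype.val hc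
    exact v.2.2 (H.semi c c.2 (fun h => hne (Subtype.ext h)) v.1 h1)
  have e := MulAction.selfEquivSigmaOrbitsQuotientStabilizer (Subgroup.center N) X
  have : Fintype (Quotient (MulAction.orbitRel (Subgroup.center N) X)) := Fintype.ofFinite _
  have h1 : Nat.card X = Nat.card (Subgroup.center N) *
      Fintype.card (Quotient (MulAction.orbitRel (Subgroup.center N) X)) := by
    rw [Nat.card_congr e, Nat.card_sigma]
    have : ∀ w : Quotient (MulAction.orbitRel (Subgroup.center N) X),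
        Nat.card (↥(Subgroup.center N) ⧸ MulAction.stabilizer (↥(Subgroup.center N)) w.out) =
          Nat.card (Subgroup.center N) := by
      intro w
      rw [hfree]
      exact Nat.card_congr (QuotientGroup.quotientBot (G := Subgroup.center N)).toEquiv
    rw [Finset.sum_congr rfl fun w _ => this w, Finset.sum_const, smul_eq_mul, Finset.card_univ, mul_comm]
  have h2 : Nat.card X = Nat.card (fixp V S) - 1 := by
    have : Fintype V := Fintype.ofFinite V
    have e1 : Nat.card X = #(univ.filter fun v : V => v ∈ fixp V S ∧ v ≠ 0) := by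
      rw [Nat.card_eq_fintype_card, Fintype.card_subtype]
    have e2 : Nat.card (fixp V S) = #(univ.filter fun v : V => v ∈ fixp V S) := by
      rw [Nat.card_eq_fintype_card, Fintype.card_subtype]
    have e3 : insert 0 (univ.filter fun v : V => v ∈ fixp V S ∧ v ≠ 0) =
        univ.filter fun v : V => v ∈ fixp V S := by
      ext v
      simp only [Finset.mem_insert, Finset.mem_filter, Finset.mem_univ, true_and]
      constructor
      · rintro (rfl | h)
        · exact (fixp V S).zero_mem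
        · exact h.1
      · intro h
        by_cases hv : v = 0
        · exact Or.inl hv
        · exact Or.inr ⟨h, hv⟩
    rw [e1, e2, ← e3, Finset.card_insert_of_notMem (by simp only [_root_.ne_eq, _root_.Finset.mem_filter, _root_.Finset.mem_univ, _root_.ZeroMemClass.zero_mem, _root_.not_true_eq_false, _root_.and_false, _root_.not_false_eq_true])]
    rfl
  exact ⟨_, h2 ▸ h1⟩

/-- the product formula -/
theorem prod_formula {s a : ℕ} (hs : 1 ≤ s) :
    ∏ j ∈ range a, (s ^ (2 * a - j + 1) - s ^ (j + 1)) =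
      (∏ j ∈ range a, (s ^ a - s ^ j)) * (s ^ a * ∏ i ∈ range a, (s ^ (i + 1) + 1)) := by
  have h1 : ∀ j ∈ range a, s ^ (2 * a - j + 1) - s ^ (j + 1) = (s ^ a - s ^ j) * (s * (s ^ (a - j) + 1)) := by
    intro j hj
    have hj' := Finset.mem_range.1 hj
    have e1 : s ^ (2 * a - j + 1) = s * (s ^ j * (s ^ (a - j) * s ^ (a - j))) := by
      rw [← pow_add, ← pow_add, ← pow_succ']
      congr 1
      omega
    have e2 : s ^ a = s ^ j * s ^ (a - j) := by
      rw [← pow_add]
      congr 1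
      omega
    have e3 : 1 ≤ s ^ (a - j) := Nat.one_le_pow _ _ hs
    rw [e1, e2, pow_succ']
    zify
    rw [Nat.cast_sub, Nat.cast_sub]
    · push_cast
      ring
    · exact Nat.le_mul_of_pos_right _ (by omega)
    · exact Nat.mul_le_mul_left _ (Nat.le_mul_of_pos_right _ (by positivity))
  rw [Finset.prod_congr rfl h1, Finset.prod_mul_distrib, Finset.prod_mul_distrib, Finset.prod_const,
    Finset.card_range]
  congr 2
  rw [← Finset.prod_range_reflect (fun i => s ^ (i + 1) + 1)]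
  refine Finset.prod_congr rfl fun j hj => ?_
  have hj' := Finset.mem_range.1 hj
  have : a - 1 - j + 1 = a - j := by omega
  rw [this]

/-- the inequality for the free vector -/
theorem ineq {s a Q : ℕ} (hs : 2 ≤ s) (ha : 1 ≤ a) (hQ : s + 1 ≤ Q) (big : 3 ≤ s ∨ 2 ≤ a) :
    (s ^ (2 * a + 1) - s) * (Q ^ (s ^ (a - 1)) - 1) <
      (s - 1) * ((Q ^ (s ^ (a - 1))) ^ s - 1) +
        (s ^ a - s) * (s ^ a * (∏ i ∈ range a, (s ^ (i + 1) + 1)) * (Q - 1)) := by
  -- a sufficient condition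
  have key : ∀ F K : ℕ, 2 ≤ F → K < F + 1 → K * (F - 1) < F ^ 2 - 1 := by
    intro F K hF hK
    obtain ⟨G, rfl⟩ : ∃ G, F = G + 1 := ⟨F - 1, by omega⟩
    have e1 : (G + 1) ^ 2 - 1 = G * (G + 2) := by
      have : (G + 1) ^ 2 = G * (G + 2) + 1 := by ring
      omega
    rw [e1, Nat.add_sub_cancel, mul_comm]
    exact Nat.mul_lt_mul_of_pos_left (by omega) (by omega)
  have key3 : ∀ F K : ℕ, 2 ≤ F → 3 ≤ s → K < F ^ 2 + F + 1 → K * (F - 1) < F ^ s - 1 := by
    intro F K hF hs3 hK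
    obtain ⟨G, rfl⟩ : ∃ G, F = G + 1 := ⟨F - 1, by omega⟩
    have e1 : (G + 1) ^ 3 = G * ((G + 1) ^ 2 + (G + 1) + 1) + 1 := by ring
    have e2 : (G + 1) ^ 3 ≤ (G + 1) ^ s := Nat.pow_le_pow_right (by omega) hs3
    have e3 : K * G < G * ((G + 1) ^ 2 + (G + 1) + 1) := by
      rw [mul_comm]
      exact Nat.mul_lt_mul_of_pos_left hK (by omega)
    rw [Nat.add_sub_cancel]
    omega
  rcases Nat.lt_or_ge 2 s with h3 | h2
  · -- `s ≥ 3`
    refine lt_of_lt_of_le ?_ (Nat.le_add_right _ _)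
    rcases Nat.eq_or_lt_of_le ha with rfl | ha2
    · have e1 : s ^ (2 * 1 + 1) - s = (s - 1) * (s * (s + 1)) := by
        obtain ⟨t, rfl⟩ : ∃ t, s = t + 1 := ⟨s - 1, by omega⟩
        have : (t + 1) ^ (2 * 1 + 1) = t * ((t + 1) * (t + 1 + 1)) + (t + 1) := by ring
        rw [this, Nat.add_sub_cancel, Nat.add_sub_cancel]
      rw [e1, Nat.sub_self, pow_zero, pow_one, mul_assoc]
      refine Nat.mul_lt_mul_of_pos_left (key3 Q _ (by omega) (by omega) ?_) (by omega)
      nlinarith only [hQ]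
    · have hF : s ^ (2 * a + 1) ≤ (Q ^ (s ^ (a - 1))) ^ 2 := by
        rw [← pow_mul]
        calc s ^ (2 * a + 1) ≤ s ^ (s ^ (a - 1) * 2) := by
              refine Nat.pow_le_pow_right (by omega) ?_
              have h5 : ∀ b, 1 ≤ b → b + 2 ≤ 3 ^ b := by
                intro b hb
                induction b, hb using Nat.le_induction with
                | base => norm_num
                | succ b hb ih => rw [pow_succ]; omega
              have h6 := h5 (a - 1) (by omega)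
              have h7 : 3 ^ (a - 1) ≤ s ^ (a - 1) := Nat.pow_le_pow_left (by omega) _
              omega
          _ ≤ Q ^ (s ^ (a - 1) * 2) := Nat.pow_le_pow_left (by omega) _
      have hF2 : 2 ≤ Q ^ (s ^ (a - 1)) := by
        calc 2 ≤ Q := by omega
          _ ≤ Q ^ (s ^ (a - 1)) := Nat.le_self_pow (by positivity) Q
      have h8 := key3 (Q ^ (s ^ (a - 1))) (s ^ (2 * a + 1) - s) hF2 (by omega) (by omega)
      refine lt_of_lt_of_le h8 ?_
      exact Nat.le_mul_of_pos_left _ (by omega)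
  · -- `s = 2`
    obtain rfl : s = 2 := by omega
    have ha2 : 2 ≤ a := by omega
    have hc : a = 2 ∨ a = 3 ∨ 4 ≤ a := by omega
    rcases hc with rfl | rfl | ha4
    · obtain ⟨R, rfl⟩ : ∃ R, Q = R + 3 := ⟨Q - 3, by omega⟩
      have e1 : ∏ i ∈ range 2, (2 ^ (i + 1) + 1) = 15 := by decide
      rw [e1]
      have e2 : (R + 3) ^ 2 ^ (2 - 1) = (R + 3) ^ 2 := by norm_num
      rw [e2]
      have e3 : (R + 3) ^ 2 - 1 = R ^ 2 + 6 * R + 8 := by
        have : (R + 3) ^ 2 = R ^ 2 + 6 * R + 8 + 1 := by ring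
        omega
      have e4 : ((R + 3) ^ 2) ^ 2 - 1 = R ^ 4 + 12 * R ^ 3 + 54 * R ^ 2 + 108 * R + 80 := by
        have : ((R + 3) ^ 2) ^ 2 = R ^ 4 + 12 * R ^ 3 + 54 * R ^ 2 + 108 * R + 80 + 1 := by ring
        omega
      have e5 : R + 3 - 1 = R + 2 := by omega
      rw [e3, e4, e5]
      norm_num
      linarith only [Nat.zero_le (R ^ 4), Nat.zero_le (R ^ 3), _root_.sq_nonneg (↑R : ℤ), _root_.Nat.cast_nonneg (α := ℤ) (R)]
    · have e1 : ∏ i ∈ range 3, (2 ^ (i + 1) + 1) = 135 := by decide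
      rw [e1]
      rcases Nat.eq_or_lt_of_le hQ with h | h
      · subst h
        norm_num
      · refine lt_of_lt_of_le ?_ (Nat.le_add_right _ _)
        have e2 : Q ^ 2 ^ (3 - 1) = Q ^ 4 := by norm_num
        rw [e2]
        have e3 : 4 ^ 4 ≤ Q ^ 4 := Nat.pow_le_pow_left (by omega) 4
        have h8 := key (Q ^ 4) (2 ^ (2 * 3 + 1) - 2) (by omega) (by omega)
        omega
    · refine lt_of_lt_of_le ?_ (Nat.le_add_right _ _)
      have h5 : ∀ b, 4 ≤ b → 2 ^ (2 * b + 1) ≤ 3 ^ (2 ^ (b - 1)) := by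
        intro b hb
        induction b, hb using Nat.le_induction with
        | base => norm_num
        | succ b hb ih =>
          have e1 : 2 ^ (b + 1 - 1) = 2 ^ (b - 1) * 2 := by
            rw [← pow_succ]
            congr 1
            omega
          rw [e1, pow_mul]
          calc 2 ^ (2 * (b + 1) + 1) ≤ 2 ^ ((2 * b + 1) * 2) := Nat.pow_le_pow_right (by omega) (by omega)
            _ = (2 ^ (2 * b + 1)) ^ 2 := by rw [pow_mul]
            _ ≤ _ := Nat.pow_le_pow_left ih 2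
      have h6 : 3 ^ (2 ^ (a - 1)) ≤ Q ^ (2 ^ (a - 1)) := Nat.pow_le_pow_left (by omega) _
      have h7 := h5 a ha4
      have h9 : 2 ^ 1 ≤ 2 ^ (2 * a + 1) := Nat.pow_le_pow_right (by omega) (by omega)
      have h8 := key (Q ^ (2 ^ (a - 1))) (2 ^ (2 * a + 1) - 2) (by omega) (by omega)
      omega

/-- **A4, the numbers**; `hcf`, `hce`, `hsf`, `hsp` are `Sym.card_fixp`, `Sym.card_eq`, `Sym.sol_full`, `Sym.card_spec`. -/
theorem numbers_full_aux (H : _root_.Cfsg.Agent.H662.HT.Sym s a N V)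
    (hcf : ∀ S : Subgroup N, S ⊓ Subgroup.center N = ⊥ → Nat.card V = Nat.card (fixp V S) ^ Nat.card S)
    (hce : ∀ S : Subgroup N, S ⊓ Subgroup.center N = ⊥ → ∃ j ≤ a, Nat.card S = s ^ j)
    (hsf : ∀ S : Subgroup N, S ⊓ Subgroup.center N = ⊥ → Nat.card (sol s S) * Nat.card S = s ^ (2 * a + 1))
    (hsp : ∀ (r Q : ℕ) (f : ℕ → ℕ),
      (∀ S : Subgroup N, S ⊓ Subgroup.center N = ⊥ → ∀ j ≤ r, Nat.card S = s ^ j → Nat.card (sol s S) = f j) →
      f r = s ^ (r + 1) →
      (∀ S : Subgroup N, S ⊓ Subgroup.center N = ⊥ → Nat.card S = s ^ r → Nat.card (fixp V S) = Q) →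
      Nat.card (spec s r N V) * ∏ j ∈ range r, (s ^ r - s ^ j) = (Q - 1) * ∏ j ∈ range r, (f j - s ^ (j + 1)))
    (big : 3 ≤ s ∨ 2 ≤ a) :
    ∃ Q : ℕ, 1 < Q ∧ Nat.card V = Q ^ (s ^ a) ∧ Nat.card (Subgroup.center N) ∣ Q - 1 ∧
      Nat.card (spec s a N V) = s ^ a * (∏ i ∈ range a, (s ^ (i + 1) + 1)) * (Q - 1) ∧
      ∃ v : V, v ≠ 0 ∧ MulAction.stabilizer N v = ⊥ := by
  have hfin := H.fin
  have hfinV := H.finV
  have hs0 := H.hs.pos
  have hs1 := H.hs.one_lt
  have ha := H.ha
  obtain ⟨S, hS, hSc⟩ := exists_max H hce hsf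
  have hV := hcf S hS
  rw [hSc] at hV
  set Q := Nat.card (fixp V S) with hQdef
  have hV1 : 1 < Nat.card V := by
    have := H.nt
    exact Finite.one_lt_card
  have hQ1 : 1 < Q := by
    by_contra h
    have h1 : Q = 0 ∨ Q = 1 := by omega
    rcases h1 with h1 | h1
    · rw [h1, zero_pow (by positivity)] at hV
      omega
    · rw [h1, one_pow] at hV
      omega
  have hz := center_dvd (V := V) H S
  rw [← hQdef] at hz
  have hsQ : s ∣ Q - 1 := (dvd_center H).trans hz
  have hQs : s + 1 ≤ Q := by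
    have := Nat.le_of_dvd (by omega) hsQ
    omega
  have hspec := hsp a Q (fun j => s ^ (2 * a - j + 1)) (by
      intro T hT j hj hTc
      have h1 := hsf T hT
      rw [hTc] at h1
      have h2 : s ^ (2 * a + 1) = s ^ (2 * a - j + 1) * s ^ j := by
        rw [← pow_add]
        congr 1
        omega
      rw [h2] at h1
      exact Nat.eq_of_mul_eq_mul_right (pow_pos hs0 j) h1) (by
      show s ^ (2 * a - a + 1) = s ^ (a + 1)
      congr 1
      omega) (by
      intro T hT hTc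
      have h1 := hcf T hT
      rw [hTc, hV] at h1
      exact (Nat.pow_left_injective (by positivity) h1).symm)
  have hP : 0 < ∏ j ∈ range a, (s ^ a - s ^ j) := by
    refine Finset.prod_pos fun j hj => ?_
    have := Nat.pow_lt_pow_right hs1 (Finset.mem_range.1 hj)
    omega
  have hspec' : Nat.card (spec s a N V) = s ^ a * (∏ i ∈ range a, (s ^ (i + 1) + 1)) * (Q - 1) := by
    have h1 : Nat.card (spec s a N V) * ∏ j ∈ range a, (s ^ a - s ^ j) =
        (Q - 1) * ∏ j ∈ range a, (s ^ (2 * a - j + 1) - s ^ (j + 1)) := hspec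
    rw [prod_formula hs0] at h1
    refine Nat.eq_of_mul_eq_mul_right hP ?_
    rw [h1]
    ring
  refine ⟨Q, hQ1, hV, hz, hspec', ?_⟩
  refine free_of_lt_aux H hcf hce (r := a) (F := Q ^ (s ^ (a - 1))) ha ?_ ?_
  · rw [hV, ← pow_mul, ← pow_succ]
    congr 2
    omega
  · have h1 := hsf ⊥ (bot_inf_eq _)
    rw [Subgroup.card_bot, mul_one] at h1
    have h2 : Nat.card V = (Q ^ (s ^ (a - 1))) ^ s := by
      rw [hV, ← pow_mul, ← pow_succ]
      congr 2
      omega
    rw [h1, hspec', h2]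
    exact ineq hs1 ha hQs big

end Cfsg.Agent.H177.HT
end

-- part: H990/HT/Sol
section
/-!
# S3540/S3577, task A2 (helper990): the number of solutions of `n ^ s = 1` in the centraliser of `S`

`sol_full_of`, `sol_two_of` : with the hypothesis `|C_N(S)| |S| = |N|` (task A1).
-/

set_option autoImplicit false

open scoped commutatorElement
open Finset

namespace Cfsg.Agent.H990.HT

open Cfsg.Agent.H662.HT

universe u v

variable {s a : ℕ} {N : Type u} {V : Type v} [Group N] [AddCommGroup V] [DistribMulAction N V]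

/-- the central elements of order dividing `s` -/
def Om (s : ℕ) (N : Type u) [Group N] : Set N := {c | c ∈ Subgroup.center N ∧ c ^ s = 1}

/-- `N` is not abelian -/
theorem exists_comm_ne (H : _root_.Cfsg.Agent.H662.HT.Sym s a N V) : ∃ x y : N, ⁅x, y⁆ ≠ 1 := by
  have := H.fin
  by_contra hcon
  push Not at hcon
  have h1 : Subgroup.center N = ⊤ := by
    rw [eq_top_iff]
    intro x _
    rw [Subgroup.mem_center_iff]
    intro y
    exact commutatorElement_eq_one_iff_mul_comm.1 (hcon y x)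
  have h2 := H.card
  rw [h1, Subgroup.card_top] at h2
  have h3 : 1 < s ^ (2 * a) := Nat.one_lt_pow (by have := H.ha; omega) H.hs.one_lt
  have h4 : 0 < Nat.card N := Nat.card_pos
  nlinarith

theorem card_Om (H : _root_.Cfsg.Agent.H662.HT.Sym s a N V) : Nat.card (Om s N) = s := by
  classical
  have := H.fin
  have := H.cyc
  have := Fintype.ofFinite N
  have := Fintype.ofFinite (Subgroup.center N)
  obtain ⟨x, y, hxy⟩ := exists_comm_ne H
  have hs := H.hs
  set w : Subgroup.center N := ⟨⁅x, y⁆, H.comm x y⟩ with hw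
  have hw1 : w ^ s = 1 := Subtype.ext (H.comm_pow x y)
  have hwne : w ≠ 1 := fun h => hxy (congrArg Subtype.val h)
  have hsf : Fact s.Prime := ⟨hs⟩
  have hwo : orderOf w = s := orderOf_eq_prime hw1 hwne
  have e : Om s N ≃ {c : Subgroup.center N | c ^ s = 1} :=
    { toFun := fun c => ⟨⟨c.1, c.2.1⟩, Subtype.ext c.2.2⟩
      invFun := fun c => ⟨c.1.1, c.1.2, congrArg Subtype.val c.2⟩
      left_inv := fun _ => rfl
      right_inv := fun _ => rfl }
  rw [Nat.card_congr e]
  apply le_antisymm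
  · have h1 := IsCyclic.card_pow_eq_one_le (α := Subgroup.center N) (n := s) hs.pos
    rw [Nat.card_eq_fintype_card, Fintype.card_subtype]
    refine le_trans (le_of_eq ?_) h1
    congr 1
  · have h2 : ((Subgroup.zpowers w : Subgroup (Subgroup.center N)) : Set (Subgroup.center N)) ⊆
        {c : Subgroup.center N | c ^ s = 1} := by
      intro c hc
      obtain ⟨k, rfl⟩ := Subgroup.mem_zpowers_iff.1 hc
      change (w ^ k) ^ s = 1
      rw [← zpow_natCast, ← zpow_mul, mul_comm, zpow_mul, zpow_natCast, hw1, one_zpow]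
    have h3 := Nat.card_mono (Set.toFinite _) h2
    have h4 : Nat.card ((Subgroup.zpowers w : Subgroup (Subgroup.center N)) : Set (Subgroup.center N)) = s := by
      rw [← hwo, ← Nat.card_zpowers]
      rfl
    exact h4.symm.le.trans h3

/-- **A2, first part** -/
theorem sol_full_of (H : _root_.Cfsg.Agent.H662.HT.Sym s a N V) (hF : Full s N) {S : Subgroup N}
    (hcen : Nat.card (Subgroup.centralizer (S : Set N)) * Nat.card S = Nat.card N) :
    Nat.card (sol s S) * Nat.card S = s ^ (2 * a + 1) := by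
  have := H.fin
  choose f hf hfs using hF
  have hmulpow : ∀ (x c : N), c ∈ Subgroup.center N → (x * c) ^ s = x ^ s * c ^ s := fun x c hc =>
    (show Commute x c from (Subgroup.mem_center_iff.1 hc x)).mul_pow s
  have hcc : ∀ c : N, c ∈ Subgroup.center N → c ∈ Subgroup.centralizer (S : Set N) := fun c hc => by
    rw [Subgroup.mem_centralizer_iff]
    exact fun g _ => Subgroup.mem_center_iff.1 hc g
  let e : (Subgroup.centralizer (S : Set N)) × (Om s N) ≃ (sol s S) × (Subgroup.center N) :=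
    { toFun := fun x => (⟨(x.1 : N) * f x.1 * x.2, by
          refine ⟨mul_mem (mul_mem x.1.2 (hcc _ (hf _))) (hcc _ x.2.2.1), ?_⟩
          rw [hmulpow _ _ x.2.2.1, hfs, x.2.2.2, one_mul]⟩,
        ⟨(f x.1 * x.2)⁻¹, inv_mem (mul_mem (hf _) x.2.2.1)⟩)
      invFun := fun y => (⟨(y.1 : N) * y.2, mul_mem y.1.2.1 (hcc _ y.2.2)⟩,
        ⟨(f ((y.1 : N) * y.2))⁻¹ * (y.2 : N)⁻¹, by
          refine ⟨mul_mem (inv_mem (hf _)) (inv_mem y.2.2), ?_⟩
          have h1 := hfs ((y.1 : N) * y.2)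
          rw [mul_assoc, hmulpow _ _ (mul_mem y.2.2 (hf _)), y.1.2.2, one_mul] at h1
          rw [← mul_inv_rev, inv_pow, h1, inv_one]⟩)
      left_inv := by
        rintro ⟨x, w⟩
        have h1 : (x : N) * f x * w * (f x * w)⁻¹ = x := by
          rw [mul_assoc (x : N), mul_inv_cancel_right]
        refine Prod.ext (Subtype.ext h1) (Subtype.ext ?_)
        change (f ((x : N) * f x * w * (f x * w)⁻¹))⁻¹ * ((f x * w)⁻¹ : N)⁻¹ = w
        rw [h1, inv_inv, inv_mul_cancel_left]
      right_inv := by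
        rintro ⟨y, c⟩
        have h0 : (f ((y : N) * c))⁻¹ * (c : N)⁻¹ = (c : N)⁻¹ * (f ((y : N) * c))⁻¹ :=
          (Subgroup.mem_center_iff.1 (inv_mem c.2) _)
        have h1 : (y : N) * c * f (y * c) * ((f ((y : N) * c))⁻¹ * (c : N)⁻¹) = y := by
          rw [mul_assoc ((y : N) * c), mul_inv_cancel_left, mul_inv_cancel_right]
        refine Prod.ext (Subtype.ext h1) (Subtype.ext ?_)
        change (f ((y : N) * c) * ((f ((y : N) * c))⁻¹ * (c : N)⁻¹))⁻¹ = c
        rw [mul_inv_cancel_left, inv_inv] }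
  have h1 := Nat.card_congr e
  rw [Nat.card_prod, Nat.card_prod, card_Om H] at h1
  have h2 := H.card
  have h3 : 0 < Nat.card (Subgroup.center N) := Nat.card_pos
  have h4 : Nat.card (Subgroup.center N) * (Nat.card (sol s S) * Nat.card S) =
      Nat.card (Subgroup.center N) * s ^ (2 * a + 1) := by
    calc Nat.card (Subgroup.center N) * (Nat.card (sol s S) * Nat.card S)
        = (Nat.card (sol s S) * Nat.card (Subgroup.center N)) * Nat.card S := by ring
      _ = Nat.card (Subgroup.centralizer (S : Set N)) * s * Nat.card S := by rw [h1]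
      _ = (Nat.card (Subgroup.centralizer (S : Set N)) * Nat.card S) * s := by ring
      _ = Nat.card (Subgroup.center N) * s ^ (2 * a) * s := by rw [hcen, h2]
      _ = Nat.card (Subgroup.center N) * s ^ (2 * a + 1) := by ring
  exact Nat.eq_of_mul_eq_mul_left h3 h4

section two

open Classical in
/-- the character of a central subgroup of order 2 -/
noncomputable def sgn (c : N) : ℤ := if c = 1 then 1 else -1

theorem sgn_one : sgn (1 : N) = 1 := if_pos rfl

theorem sgn_mul_self (c : N) : sgn c * sgn c = 1 := by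
  unfold sgn
  split_ifs <;> rfl

theorem sgn_mul (hz : Nat.card (Subgroup.center N) = 2) {c d : N} (hc : c ∈ Subgroup.center N)
    (hd : d ∈ Subgroup.center N) : sgn (c * d) = sgn c * sgn d := by
  have key : ∀ x ∈ Subgroup.center N, ∀ y ∈ Subgroup.center N, x ≠ 1 → y ≠ 1 → x = y := by
    intro x hx y hy hx1 hy1
    by_contra hne
    have : Finite (Subgroup.center N) := Nat.finite_of_card_ne_zero (by rw [hz]; norm_num)
    have h3 : Function.Injective (![⟨1, one_mem _⟩, ⟨x, hx⟩, ⟨y, hy⟩] : Fin 3 → Subgroup.center N) := by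
      intro i j hij
      fin_cases i <;> fin_cases j <;> simp_all only [Subtype.ext_iff, _root_.ne_eq, _root_.Nat.succ_eq_add_one, _root_.Nat.reduceAdd, _root_.Fin.zero_eta, _root_.Fin.isValue, _root_.Matrix.cons_val_zero, _root_.Fin.mk_one, _root_.Matrix.cons_val_one, _root_.zero_ne_one, _root_.not_true_eq_false, _root_.Fin.reduceFinMk, _root_.Matrix.cons_val, _root_.Fin.reduceEq, _root_.not_false_eq_true]
    have h4 := Nat.card_le_card_of_injective _ h3
    rw [hz, Nat.card_eq_fintype_card, Fintype.card_fin] at h4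
    omega
  by_cases h1 : c = 1
  · subst h1
    rw [one_mul, sgn_one, one_mul]
  · by_cases h2 : d = 1
    · subst h2
      rw [mul_one, sgn_one, mul_one]
    · have h3 : d⁻¹ = c := key _ (inv_mem hd) _ hc (inv_ne_one.2 h2) h1
      have h4 : sgn c = -1 := if_neg h1
      have h5 : sgn d = -1 := if_neg h2
      rw [h4, h5, ← h3, inv_mul_cancel, sgn_one]
      rfl

/-- the quadratic form: `1` if `x ^ 2 = 1`, `-1` otherwise -/
noncomputable def gq (x : N) : ℤ := sgn (x ^ 2)

/-- the symplectic form -/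
noncomputable def kap (x y : N) : ℤ := sgn ⁅x, y⁆

theorem gq_mul_self (x : N) : gq x * gq x = 1 := sgn_mul_self _

variable (H : Sym 2 a N V) (hz : Nat.card (Subgroup.center N) = 2)

include H hz

theorem kap_mul_left (x y z : N) : kap (x * y) z = kap x z * kap y z := by
  unfold kap
  rw [H.comm_mul_left, sgn_mul hz (H.comm _ _) (H.comm _ _)]

theorem kap_comm (x y : N) : kap x y = kap y x := by
  unfold kap
  have h1 : sgn (⁅y, x⁆ * ⁅x, y⁆) = sgn ⁅y, x⁆ * sgn ⁅x, y⁆ := sgn_mul hz (H.comm _ _) (H.comm _ _)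
  have h2 : ⁅y, x⁆ * ⁅x, y⁆ = 1 := by rw [← commutatorElement_inv x y, inv_mul_cancel]
  rw [h2, sgn_one] at h1
  have h3 := sgn_mul_self ⁅y, x⁆
  calc sgn ⁅x, y⁆ = sgn ⁅y, x⁆ * sgn ⁅y, x⁆ * sgn ⁅x, y⁆ := by rw [h3, one_mul]
    _ = sgn ⁅y, x⁆ * (sgn ⁅y, x⁆ * sgn ⁅x, y⁆) := by ring
    _ = sgn ⁅y, x⁆ := by rw [← h1, mul_one]

theorem gq_mul (x y : N) : gq (x * y) = gq x * gq y * kap x y := by
  have h1 : (x * y) ^ 2 = x ^ 2 * y ^ 2 * ⁅y⁻¹, x⁻¹⁆ := by
    simp only [commutatorElement_def, pow_two]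
    have h2 : y * x = x * y * ⁅y⁻¹, x⁻¹⁆ := by
      simp only [commutatorElement_def]; group
    have h3 := Subgroup.mem_center_iff.1 (H.comm y⁻¹ x⁻¹) y
    simp only [commutatorElement_def] at h2 h3
    calc x * y * (x * y) = x * (y * x) * y := by group
      _ = x * (x * y * (y⁻¹ * x⁻¹ * y⁻¹⁻¹ * x⁻¹⁻¹)) * y := by rw [h2]
      _ = x * x * y * ((y⁻¹ * x⁻¹ * y⁻¹⁻¹ * x⁻¹⁻¹) * y) := by group
      _ = x * x * y * (y * (y⁻¹ * x⁻¹ * y⁻¹⁻¹ * x⁻¹⁻¹)) := by rw [h3]
      _ = x * x * (y * y) * (y⁻¹ * x⁻¹ * y⁻¹⁻¹ * x⁻¹⁻¹) := by group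
  have h4 : kap y⁻¹ x⁻¹ = kap x y := by
    have h5 : ∀ u v : N, kap u⁻¹ v = kap u v := by
      intro u v
      have h6 := kap_mul_left H hz u⁻¹ u v
      rw [inv_mul_cancel] at h6
      have h7 : kap (1 : N) v = 1 := by
        unfold kap
        rw [commutatorElement_one_left, sgn_one]
      rw [h7] at h6
      have h8 : kap u v * kap u v = 1 := sgn_mul_self _
      calc kap u⁻¹ v = kap u⁻¹ v * (kap u v * kap u v) := by rw [h8, mul_one]
        _ = (kap u⁻¹ v * kap u v) * kap u v := by ring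
        _ = kap u v := by rw [← h6, one_mul]
    rw [h5, kap_comm H hz, h5]
  unfold gq
  rw [h1, sgn_mul hz (mul_mem (H.exp _) (H.exp _)) (H.comm _ _), sgn_mul hz (H.exp _) (H.exp _)]
  change sgn (x ^ 2) * sgn (y ^ 2) * kap y⁻¹ x⁻¹ = _
  rw [h4]

open Classical in
/-- the sum over a subgroup of a non-trivial `kap (·, d)` vanishes -/
theorem sum_kap [Fintype N] (K : Subgroup N) [Fintype K] (d : N) :
    ∑ x : K, kap (x : N) d = if d ∈ Subgroup.centralizer (K : Set N) then (Nat.card K : ℤ) else 0 := by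
  classical
  by_cases h : d ∈ Subgroup.centralizer (K : Set N)
  · rw [if_pos h]
    have h1 : ∀ x : K, kap (x : N) d = 1 := by
      intro x
      unfold kap
      rw [commutatorElement_eq_one_iff_mul_comm.2 (Subgroup.mem_centralizer_iff.1 h x x.2), sgn_one]
    rw [Finset.sum_congr rfl fun x _ => h1 x]
    simp only [Nat.card_eq_fintype_card, _root_.Finset.sum_const, _root_.Finset.card_univ, _root_.Int.nsmul_eq_mul, _root_.mul_one]
  · rw [if_neg h]
    obtain ⟨y, hy, hne⟩ : ∃ y ∈ K, ⁅y, d⁆ ≠ 1 := by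
      by_contra hcon
      push Not at hcon
      exact h (Subgroup.mem_centralizer_iff.2 fun g hg => commutatorElement_eq_one_iff_mul_comm.1 (hcon g hg))
    have h1 : kap y d = -1 := if_neg hne
    have h2 : ∑ x : K, kap (x : N) d = ∑ x : K, kap (((⟨y, hy⟩ : K) * x : K) : N) d :=
      (Fintype.sum_equiv (Equiv.mulLeft (⟨y, hy⟩ : K)) _ _ fun _ => rfl).symm
    have h3 : ∑ x : K, kap (((⟨y, hy⟩ : K) * x : K) : N) d = -∑ x : K, kap (x : N) d := by
      rw [← Finset.sum_neg_distrib]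
      refine Finset.sum_congr rfl fun x _ => ?_
      rw [Subgroup.coe_mul, kap_mul_left H hz, h1, neg_one_mul]
    rw [h3] at h2
    linarith only [h2]

omit hz in
theorem gq_eq_one {S : Subgroup N} (hS : S ⊓ Subgroup.center N = ⊥) {x : N} (hx : x ∈ S) : gq x = 1 := by
  unfold gq
  rw [H.expS hS hx, sgn_one]

open Classical in
/-- `T(S) = T(1)` -/
theorem sum_gq [Fintype N] {S : Subgroup N} (hS : S ⊓ Subgroup.center N = ⊥) :
    ∑ x : N with x ∈ Subgroup.centralizer (S : Set N), gq x = ∑ x : N, gq x := by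
  have h1 : ∀ t : S, ∑ x : N, gq (x * t) = ∑ x : N, gq x := fun t =>
    Fintype.sum_equiv (Equiv.mulRight (t : N)) _ _ fun _ => rfl
  have h2 : ∑ t : S, ∑ x : N, gq (x * t) = (Nat.card S : ℤ) * ∑ x : N, gq x := by
    rw [Finset.sum_congr rfl fun t _ => h1 t, Finset.sum_const, Finset.card_univ, nsmul_eq_mul,
      Nat.card_eq_fintype_card]
  have h3 : ∑ t : S, ∑ x : N, gq (x * t) =
      ∑ x : N, gq x * (if x ∈ Subgroup.centralizer (S : Set N) then (Nat.card S : ℤ) else 0) := by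
    rw [Finset.sum_comm]
    refine Finset.sum_congr rfl fun x _ => ?_
    rw [← sum_kap H hz S x, Finset.mul_sum]
    refine Finset.sum_congr rfl fun t _ => ?_
    rw [gq_mul H hz, gq_eq_one H hS t.2, mul_one, kap_comm H hz]
  rw [h3] at h2
  have h4 : ∑ x : N, gq x * (if x ∈ Subgroup.centralizer (S : Set N) then (Nat.card S : ℤ) else 0) =
      (Nat.card S : ℤ) * ∑ x : N with x ∈ Subgroup.centralizer (S : Set N), gq x := by
    rw [Finset.mul_sum, Finset.sum_filter]
    refine Finset.sum_congr rfl fun x _ => ?_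
    split_ifs
    · rw [mul_comm]
    · rw [mul_zero]
  rw [h4] at h2
  have h5 : (Nat.card S : ℤ) ≠ 0 := by
    have := H.fin
    exact_mod_cast Nat.card_pos.ne'
  exact mul_left_cancel₀ h5 h2

open Classical in
/-- `T(1) ^ 2 = 2 |N|` -/
theorem sum_gq_sq [Fintype N] : (∑ x : N, gq x) ^ 2 = 2 * Nat.card N := by
  have h1 : (∑ x : N, gq x) ^ 2 = ∑ x : N, ∑ d : N, gq x * gq (x * d) := by
    rw [pow_two, Finset.sum_mul]
    refine Finset.sum_congr rfl fun x _ => ?_
    rw [Finset.mul_sum]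
    exact (Fintype.sum_equiv (Equiv.mulLeft x) _ _ fun _ => rfl).symm
  have h2 : ∀ x d : N, gq x * gq (x * d) = gq d * kap x d := by
    intro x d
    rw [gq_mul H hz]
    have := gq_mul_self (x := x)
    calc gq x * (gq x * gq d * kap x d) = (gq x * gq x) * (gq d * kap x d) := by ring
      _ = gq d * kap x d := by rw [this, one_mul]
  rw [h1, Finset.sum_comm]
  have h3 : ∀ d : N, ∑ x : N, gq x * gq (x * d) =
      gq d * (if d ∈ Subgroup.center N then (Nat.card N : ℤ) else 0) := by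
    intro d
    rw [Finset.sum_congr rfl fun x _ => h2 x d, ← Finset.mul_sum]
    congr 1
    have h4 := sum_kap H hz (⊤ : Subgroup N) d
    have h5 : ∑ x : (⊤ : Subgroup N), kap (x : N) d = ∑ x : N, kap x d :=
      Fintype.sum_equiv (Subgroup.topEquiv (G := N)).toEquiv _ _ fun _ => rfl
    rw [← h5, h4, Subgroup.card_top]
    have h6 : d ∈ Subgroup.centralizer (((⊤ : Subgroup N) : Set N)) ↔ d ∈ Subgroup.center N := by
      rw [Subgroup.coe_top, Subgroup.centralizer_univ]
    by_cases h : d ∈ Subgroup.center N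
    · rw [if_pos h, if_pos (h6.2 h)]
    · rw [if_neg h, if_neg fun h' => h (h6.1 h')]
  rw [Finset.sum_congr rfl fun d _ => h3 d]
  have h4 : ∀ d ∈ Subgroup.center N, gq d = 1 := by
    intro d hd
    have h5 : d ^ 2 = 1 := by
      have := pow_card_eq_one' (x := (⟨d, hd⟩ : Subgroup.center N))
      rw [hz] at this
      exact congrArg Subtype.val this
    unfold gq
    rw [h5, sgn_one]
  have h5 : ∑ d : N, gq d * (if d ∈ Subgroup.center N then (Nat.card N : ℤ) else 0) =
      ∑ d : N with d ∈ Subgroup.center N, (Nat.card N : ℤ) := by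
    rw [Finset.sum_filter]
    refine Finset.sum_congr rfl fun d _ => ?_
    split_ifs with h
    · rw [h4 d h, one_mul]
    · rw [mul_zero]
  rw [h5, Finset.sum_const, nsmul_eq_mul]
  congr 1
  have h6 : #{d : N | d ∈ Subgroup.center N} = 2 := by
    rw [← hz, Nat.card_eq_fintype_card, Fintype.card_subtype]
  rw [h6]
  rfl

/-- **A2, second part** -/
theorem sol_two_of (hcen : ∀ S : Subgroup N, S ⊓ Subgroup.center N = ⊥ →
      Nat.card (Subgroup.centralizer (S : Set N)) * Nat.card S = Nat.card N) :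
    ∃ σ : ℤ, (σ = 2 ^ a ∨ σ = -2 ^ a) ∧ ∀ S : Subgroup N, S ⊓ Subgroup.center N = ⊥ →
      (Nat.card (sol 2 S) : ℤ) * Nat.card S = 2 ^ (2 * a) + σ * Nat.card S := by
  classical
  have := H.fin
  have := Fintype.ofFinite N
  have hN : (Nat.card N : ℤ) = 2 ^ (2 * a + 1) := by
    have h1 := H.card
    rw [hz] at h1
    rw [h1]
    push_cast
    ring
  have hT := sum_gq_sq H hz
  set T : ℤ := ∑ x : N, gq x with hTd
  have hT2 : T ^ 2 = (2 ^ (a + 1)) ^ 2 := by
    rw [hT, hN]
    ring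
  obtain ⟨σ, hσ, hσT⟩ : ∃ σ : ℤ, (σ = 2 ^ a ∨ σ = -2 ^ a) ∧ T = 2 * σ := by
    rcases sq_eq_sq_iff_eq_or_eq_neg.1 hT2 with h | h
    · exact ⟨2 ^ a, Or.inl rfl, by rw [h]; ring⟩
    · exact ⟨-2 ^ a, Or.inr rfl, by rw [h]; ring⟩
  refine ⟨σ, hσ, fun S hS => ?_⟩
  have h1 := sum_gq H hz hS
  rw [← hTd, hσT] at h1
  -- `2 |sol| = |C| + T`
  have h2 : 2 * (Nat.card (sol 2 S) : ℤ) = Nat.card (Subgroup.centralizer (S : Set N)) + 2 * σ := by
    rw [← h1]
    have h3 : (Nat.card (Subgroup.centralizer (S : Set N)) : ℤ) =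
        ∑ x : N with x ∈ Subgroup.centralizer (S : Set N), (1 : ℤ) := by
      rw [Finset.sum_const, nsmul_eq_mul, mul_one, Nat.card_eq_fintype_card, Fintype.card_subtype]
    have h4 : (Nat.card (sol 2 S) : ℤ) =
        ∑ x : N with x ∈ Subgroup.centralizer (S : Set N), (if x ^ 2 = 1 then (1 : ℤ) else 0) := by
      rw [Finset.sum_ite, Finset.sum_const_zero, add_zero, Finset.sum_const, nsmul_eq_mul, mul_one,
        Finset.filter_filter]
      congr 1
      have h7 : Nat.card (sol 2 S) = Nat.card {x : N // x ∈ Subgroup.centralizer (S : Set N) ∧ x ^ 2 = 1} := rfl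
      rw [h7, Nat.card_eq_fintype_card, Fintype.card_subtype]
    rw [h3, h4, Finset.mul_sum, ← Finset.sum_add_distrib]
    refine Finset.sum_congr rfl fun x _ => ?_
    unfold gq sgn
    split_ifs <;> norm_num
  have h5 := hcen S hS
  have h6 : (Nat.card (Subgroup.centralizer (S : Set N)) : ℤ) * Nat.card S = 2 ^ (2 * a + 1) := by
    rw [← hN]
    exact_mod_cast h5
  have h7 : 2 * ((Nat.card (sol 2 S) : ℤ) * Nat.card S) = 2 * (2 ^ (2 * a) + σ * Nat.card S) := by
    calc 2 * ((Nat.card (sol 2 S) : ℤ) * Nat.card S) = (2 * (Nat.card (sol 2 S) : ℤ)) * Nat.card S := by ring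
      _ = (Nat.card (Subgroup.centralizer (S : Set N)) : ℤ) * Nat.card S + 2 * σ * Nat.card S := by rw [h2]; ring
      _ = 2 * (2 ^ (2 * a) + σ * Nat.card S) := by rw [h6]; ring
  exact mul_left_cancel₀ two_ne_zero h7

end two

end Cfsg.Agent.H990.HT
end

-- part: H486/HT/CardSpec
section
/-!
# S3540 / S3577, task A3 (helper486): the number of special vectors

`card_spec` : double counting of the special vectors by downward induction on the order of `S`.
-/

set_option autoImplicit false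

open scoped commutatorElement
open Finset

namespace Cfsg.Agent.H486.HT

open Cfsg.Agent.H662.HT

universe u v

variable {s a : ℕ} {N : Type u} {V : Type v} [Group N] [AddCommGroup V] [DistribMulAction N V]

/-- a subgroup of order `s` of the centre containing all elements of order dividing `s` of the centre -/
theorem exists_omega (H : _root_.Cfsg.Agent.H662.HT.Sym s a N V) : ∃ ω : N, ω ∈ Subgroup.center N ∧ orderOf ω = s ∧
    ∀ z ∈ Subgroup.center N, z ^ s = 1 → z ∈ Subgroup.zpowers ω := by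
  classical
  have := H.fin
  have hs := H.hs
  have : Fact s.Prime := ⟨hs⟩
  obtain ⟨x, y, hxy⟩ : ∃ x y : N, ⁅x, y⁆ ≠ 1 := by
    by_contra hcon
    push Not at hcon
    have h1 : Subgroup.center N = ⊤ := by
      rw [eq_top_iff]
      intro x _
      rw [Subgroup.mem_center_iff]
      intro y
      exact (commutatorElement_eq_one_iff_mul_comm.1 (hcon y x))
    have h2 := H.card
    rw [h1, Subgroup.card_top] at h2
    have h3 : 1 < s ^ (2 * a) := Nat.one_lt_pow (by have := H.ha; omega) hs.one_lt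
    have h4 : 0 < Nat.card N := Nat.card_pos
    nlinarith
  refine ⟨⁅x, y⁆, H.comm x y, orderOf_eq_prime (H.comm_pow x y) hxy, fun z hz hzs => ?_⟩
  -- both generate the subgroup of order `s` of the cyclic group
  have hcyc := H.cyc
  let A := Subgroup.center N
  have : Fintype A := Fintype.ofFinite _
  let w : A := ⟨⁅x, y⁆, H.comm x y⟩
  have hw : orderOf w = s := by
    rw [Subgroup.orderOf_mk]
    exact orderOf_eq_prime (H.comm_pow x y) hxy
  have h5 : (univ.filter fun z : A => z ^ s = 1).card ≤ s := IsCyclic.card_pow_eq_one_le hs.pos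
  have h6 : (univ.filter fun z : A => z ∈ Subgroup.zpowers w).card = s := by
    have h7 : Nat.card (Subgroup.zpowers w) = s := by rw [Nat.card_zpowers, hw]
    rw [← h7, Nat.card_eq_fintype_card, Fintype.card_subtype]
  have h8 : (univ.filter fun z : A => z ∈ Subgroup.zpowers w) ⊆ univ.filter fun z : A => z ^ s = 1 := by
    intro z hz
    rw [mem_filter] at hz ⊢
    refine ⟨mem_univ _, ?_⟩
    obtain ⟨i, rfl⟩ := hz.2
    change (w ^ i) ^ s = 1
    rw [← zpow_natCast, ← zpow_mul, mul_comm, zpow_mul, zpow_natCast, ← hw, pow_orderOf_eq_one, one_zpow]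
  have h9 := Finset.eq_of_subset_of_card_le h8 (by rw [h6]; exact h5)
  have h10 : (⟨z, hz⟩ : A) ∈ univ.filter fun z : A => z ∈ Subgroup.zpowers w := by
    rw [h9, mem_filter]
    exact ⟨mem_univ _, Subtype.ext hzs⟩
  obtain ⟨i, hi⟩ := (mem_filter.1 h10).2
  exact ⟨i, congrArg Subtype.val hi⟩

/-- the product of a subgroup and a cyclic group of order `s` centralising it -/
theorem card_sup (H : _root_.Cfsg.Agent.H662.HT.Sym s a N V) {S : Subgroup N} {n : N} (hn : n ∈ Subgroup.centralizer (S : Set N))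
    (hs1 : n ^ s = 1) (hnS : n ∉ S) : Nat.card ↥(S ⊔ Subgroup.zpowers n) = Nat.card S * s ∧
      ∀ x ∈ S ⊔ Subgroup.zpowers n, ∃ t ∈ S, ∃ i : ℤ, x = t * n ^ i := by
  have := H.fin
  have hs := H.hs
  have : Fact s.Prime := ⟨hs⟩
  have ho : orderOf n = s := orderOf_eq_prime hs1 (fun h => hnS (h ▸ S.one_mem))
  have hcomm : ∀ (t : S) (m : Subgroup.zpowers n), Commute (S.subtype t) ((Subgroup.zpowers n).subtype m) := by
    rintro ⟨t, ht⟩ ⟨m, i, rfl⟩
    have h1 : t * n = n * t := (Subgroup.mem_centralizer_iff.1 hn t ht)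
    exact Commute.zpow_right h1 i
  let φ := MonoidHom.noncommCoprod S.subtype (Subgroup.zpowers n).subtype hcomm
  have hφ : ∀ x, φ x = (x.1 : N) * (x.2 : N) := fun x => rfl
  have hr : φ.range = S ⊔ Subgroup.zpowers n := by
    rw [MonoidHom.noncommCoprod_range, Subgroup.range_subtype, Subgroup.range_subtype]
  have hinj : Function.Injective φ := by
    rw [injective_iff_map_eq_one]
    rintro ⟨⟨t, ht⟩, ⟨m, i, rfl⟩⟩ hx
    rw [hφ] at hx
    change t * n ^ i = 1 at hx
    have h1 : n ^ i ∈ S := by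
      have : n ^ i = t⁻¹ := eq_inv_of_mul_eq_one_right hx
      rw [this]; exact S.inv_mem ht
    by_cases hd : (s : ℤ) ∣ i
    · have h2 : n ^ i = 1 := by rwa [← orderOf_dvd_iff_zpow_eq_one, ho]
      rw [h2, mul_one] at hx
      refine Prod.ext (Subtype.ext hx) (Subtype.ext h2)
    · exfalso
      apply hnS
      have h3 : IsCoprime (s : ℤ) i := (Nat.prime_iff_prime_int.1 hs).coprime_iff_not_dvd.2 hd
      obtain ⟨u, v, huv⟩ := h3
      have h4 : n = (n ^ i) ^ v := by
        rw [← zpow_mul]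
        have : n ^ (u * (s : ℤ) + v * i) = n := by rw [huv, zpow_one]
        rw [zpow_add, zpow_mul' n u s, zpow_natCast, hs1, one_zpow, one_mul] at this
        rw [mul_comm i v]; exact this.symm
      rw [h4]
      exact S.zpow_mem h1 v
  refine ⟨?_, fun x hx => ?_⟩
  · rw [← hr, ← Nat.card_congr (MonoidHom.ofInjective hinj).toEquiv, Nat.card_prod, Nat.card_zpowers, ho]
  · rw [← hr] at hx
    obtain ⟨⟨t, m⟩, rfl⟩ := hx
    obtain ⟨i, hi⟩ := m.2
    refine ⟨t, t.2, i, ?_⟩
    rw [hφ, ← hi]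

/-- elements of a stabiliser outside `S` are new solutions -/
theorem stab_sol (H : _root_.Cfsg.Agent.H662.HT.Sym s a N V) {S : Subgroup N} {v : V} (hv : v ≠ 0) (hS : S ≤ MulAction.stabilizer N v) {n : N}
    (hn : n ∈ MulAction.stabilizer N v) : n ∈ sol s S := by
  have h0 := H.stab_inf hv
  refine ⟨?_, H.expS h0 hn⟩
  rw [Subgroup.mem_centralizer_iff]
  intro t ht
  exact H.commS h0 (hS ht) hn

/-- `S Ω` -/
def SO (S : Subgroup N) (ω : N) : Subgroup N := S ⊔ Subgroup.zpowers ω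

section

variable {ω : N}

theorem mem_SO {S : Subgroup N} (hω : ω ∈ Subgroup.center N) {x : N} :
    x ∈ SO S ω ↔ ∃ t ∈ S, ∃ i : ℤ, x = t * ω ^ i := by
  constructor
  · intro hx
    have h1 : (Subgroup.zpowers ω).Normal := by
      constructor
      rintro _ ⟨i, rfl⟩ g
      refine ⟨i, ?_⟩
      have h2 := Subgroup.mem_center_iff.1 ((Subgroup.center N).zpow_mem hω i) g
      change ω ^ i = g * ω ^ i * g⁻¹
      rw [h2, mul_inv_cancel_right]
    obtain ⟨t, ht, m, ⟨i, rfl⟩, rfl⟩ := Subgroup.mem_sup_of_normal_right.1 hx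
    exact ⟨t, ht, i, rfl⟩
  · rintro ⟨t, ht, i, rfl⟩
    exact Subgroup.mul_mem_sup ht ⟨i, rfl⟩

end

section count

variable [Fintype N] [Fintype V] {ω : N} {r : ℕ}

open Classical in
/-- the special vectors fixed by `S` -/
noncomputable def X (s r : ℕ) {N : Type u} (V : Type v) [Group N] [AddCommGroup V] [DistribMulAction N V] [Fintype V]
    (S : Subgroup N) : Finset V :=
  univ.filter fun v => v ∈ fixp V S ∧ v ∈ spec s r N V

open Classical in
/-- the new solutions -/
noncomputable def TS (s : ℕ) {N : Type u} [Group N] [Fintype N] (S : Subgroup N) (ω : N) : Finset N :=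
  univ.filter fun n => n ∈ sol s S ∧ n ∉ SO S ω

omit [Fintype N] in
theorem mem_X {S : Subgroup N} {v : V} : v ∈ X s r V S ↔ v ∈ fixp V S ∧ v ∈ spec s r N V := by
  classical
  rw [X, mem_filter]
  exact ⟨fun h => h.2, fun h => ⟨mem_univ _, h⟩⟩

theorem mem_TS {S : Subgroup N} {n : N} : n ∈ TS s S ω ↔ n ∈ sol s S ∧ n ∉ SO S ω := by
  classical
  rw [TS, mem_filter]
  exact ⟨fun h => h.2, fun h => ⟨mem_univ _, h⟩⟩

omit [Fintype N] [Fintype V] in
theorem SO_sub (H : _root_.Cfsg.Agent.H662.HT.Sym s a N V) {S : Subgroup N} (hS : S ⊓ Subgroup.center N = ⊥) (hω : ω ∈ Subgroup.center N)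
    (ho : orderOf ω = s) : ∀ x ∈ SO S ω, x ∈ sol s S := by
  intro x hx
  obtain ⟨t, ht, i, rfl⟩ := (mem_SO hω).1 hx
  have hc := (Subgroup.center N).zpow_mem hω i
  refine ⟨?_, ?_⟩
  · rw [Subgroup.mem_centralizer_iff]
    intro u hu
    have h1 : u * t = t * u := H.commS hS hu ht
    have h2 := Subgroup.mem_center_iff.1 hc u
    rw [← mul_assoc, h1, mul_assoc, h2, mul_assoc]
  · have hcomm : Commute t (ω ^ i) := Subgroup.mem_center_iff.1 hc t
    rw [hcomm.mul_pow, H.expS hS ht, one_mul, ← zpow_natCast, ← zpow_mul, mul_comm, zpow_mul, zpow_natCast, ← ho,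
      pow_orderOf_eq_one, one_zpow]

omit [Fintype N] [Fintype V] in
theorem card_SO (H : _root_.Cfsg.Agent.H662.HT.Sym s a N V) {S : Subgroup N} (hS : S ⊓ Subgroup.center N = ⊥) (hω : ω ∈ Subgroup.center N)
    (ho : orderOf ω = s) : Nat.card (SO S ω) = Nat.card S * s := by
  refine (card_sup H ?_ ?_ ?_).1
  · rw [Subgroup.mem_centralizer_iff]
    intro u _
    exact Subgroup.mem_center_iff.1 hω u
  · rw [← ho]; exact pow_orderOf_eq_one ω
  · intro h
    have h1 : ω ∈ S ⊓ Subgroup.center N := Subgroup.mem_inf.2 ⟨h, hω⟩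
    rw [hS, Subgroup.mem_bot] at h1
    rw [h1, orderOf_one] at ho
    exact H.hs.one_lt.ne ho

omit [Fintype V] in
theorem card_TS (H : _root_.Cfsg.Agent.H662.HT.Sym s a N V) {S : Subgroup N} (hS : S ⊓ Subgroup.center N = ⊥) (hω : ω ∈ Subgroup.center N)
    (ho : orderOf ω = s) : (TS s S ω).card = Nat.card (sol s S) - Nat.card S * s := by
  classical
  have h1 : TS s S ω = (univ.filter fun n => n ∈ sol s S) \ (univ.filter fun n => n ∈ SO S ω) := by
    ext n
    rw [mem_TS, mem_sdiff, mem_filter, mem_filter]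
    simp
  have h2 : (univ.filter fun n => n ∈ SO S ω) ⊆ (univ.filter fun n => n ∈ sol s S) := by
    intro n hn
    rw [mem_filter] at hn ⊢
    exact ⟨hn.1, SO_sub H hS hω ho n hn.2⟩
  rw [h1, card_sdiff_of_subset h2, ← card_SO H hS hω ho, ← Fintype.card_subtype, ← Fintype.card_subtype,
    ← Nat.card_eq_fintype_card, ← Nat.card_eq_fintype_card]

omit [Fintype V] in
theorem not_mem_of_TS {S : Subgroup N} {n : N} (hn : n ∈ TS s S ω) : n ∉ S := by
  intro h
  exact (mem_TS.1 hn).2 (le_sup_left (a := S) h)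

omit [Fintype V] in
theorem inf_TS (H : _root_.Cfsg.Agent.H662.HT.Sym s a N V) {S : Subgroup N} (hS : S ⊓ Subgroup.center N = ⊥) (hω : ω ∈ Subgroup.center N)
    (ho : ∀ z ∈ Subgroup.center N, z ^ s = 1 → z ∈ Subgroup.zpowers ω) {n : N} (hn : n ∈ TS s S ω) :
    (S ⊔ Subgroup.zpowers n) ⊓ Subgroup.center N = ⊥ := by
  have hs := H.hs
  obtain ⟨⟨hc, hns⟩, hnO⟩ := mem_TS.1 hn
  rw [eq_bot_iff]
  rintro x ⟨hx, hxc⟩
  obtain ⟨t, ht, i, rfl⟩ := (card_sup H hc hns (not_mem_of_TS hn)).2 x hx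
  have hcomm : Commute t n := Subgroup.mem_centralizer_iff.1 hc t ht
  by_cases hd : (s : ℤ) ∣ i
  · obtain ⟨k, rfl⟩ := hd
    have h2 : n ^ ((s : ℤ) * k) = 1 := by rw [zpow_mul, zpow_natCast, hns, one_zpow]
    rw [h2, mul_one] at hxc ⊢
    rw [← hS]
    exact ⟨ht, hxc⟩
  · exfalso
    apply hnO
    obtain ⟨u, v, huv⟩ := (Nat.prime_iff_prime_int.1 hs).coprime_iff_not_dvd.2 hd
    have h4 : (n ^ i) ^ v = n := by
      rw [← zpow_mul]
      have : n ^ (u * (s : ℤ) + v * i) = n := by rw [huv, zpow_one]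
      rw [zpow_add, zpow_mul' n u s, zpow_natCast, hns, one_zpow, one_mul] at this
      rw [mul_comm i v]; exact this
    have h5 : (t * n ^ i) ^ v = t ^ v * n := by
      rw [(hcomm.zpow_right i).mul_zpow, h4]
    have h6 : (t ^ v * n) ∈ Subgroup.center N := by rw [← h5]; exact (Subgroup.center N).zpow_mem hxc v
    have h7 : (t ^ v * n) ^ s = 1 := by
      rw [(hcomm.zpow_left v).mul_pow, hns, mul_one]
      exact H.expS hS (S.zpow_mem ht v)
    obtain ⟨k, hk⟩ := ho _ h6 h7
    refine (mem_SO hω).2 ⟨(t ^ v)⁻¹, S.inv_mem (S.zpow_mem ht v), k, ?_⟩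
    change ω ^ k = t ^ v * n at hk
    rw [hk, inv_mul_cancel_left]

omit [Fintype N] [Fintype V] in
theorem mem_fixp_sup {S : Subgroup N} {n : N} {v : V} :
    v ∈ fixp V (S ⊔ Subgroup.zpowers n) ↔ v ∈ fixp V S ∧ n • v = v := by
  constructor
  · intro h
    exact ⟨fun g hg => h g (le_sup_left (a := S) hg),
      h n (le_sup_right (a := S) (Subgroup.mem_zpowers n))⟩
  · rintro ⟨h1, h2⟩
    have h3 : S ⊔ Subgroup.zpowers n ≤ MulAction.stabilizer N v := by
      rw [sup_le_iff]
      refine ⟨fun g hg => h1 g hg, ?_⟩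
      rw [Subgroup.zpowers_le]
      exact h2
    exact fun g hg => h3 hg

omit [Fintype V] in
theorem stab_diff (H : _root_.Cfsg.Agent.H662.HT.Sym s a N V) {S : Subgroup N} (hω : ω ∈ Subgroup.center N) {v : V} (hv : v ≠ 0)
    (hf : v ∈ fixp V S) {n : N} : (n ∈ TS s S ω ∧ n • v = v) ↔ (n ∈ MulAction.stabilizer N v ∧ n ∉ S) := by
  have hle : S ≤ MulAction.stabilizer N v := fun g hg => hf g hg
  constructor
  · rintro ⟨h1, h2⟩
    exact ⟨h2, not_mem_of_TS h1⟩
  · rintro ⟨h1, h2⟩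
    refine ⟨mem_TS.2 ⟨stab_sol H hv hle h1, fun h3 => h2 ?_⟩, h1⟩
    obtain ⟨t, ht, i, rfl⟩ := (mem_SO hω).1 h3
    have h4 : ω ^ i ∈ MulAction.stabilizer N v ⊓ Subgroup.center N := by
      refine ⟨?_, (Subgroup.center N).zpow_mem hω i⟩
      have := (MulAction.stabilizer N v).mul_mem ((MulAction.stabilizer N v).inv_mem (hle ht)) h1
      rwa [inv_mul_cancel_left] at this
    rw [H.stab_inf hv, Subgroup.mem_bot] at h4
    rw [h4, mul_one]; exact ht

open Classical in
theorem card_stab_diff (H : _root_.Cfsg.Agent.H662.HT.Sym s a N V) {S : Subgroup N} (hω : ω ∈ Subgroup.center N) {v : V}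
    (hv : v ∈ X s r V S) : ((TS s S ω).filter fun n => n • v = v).card = s ^ r - Nat.card S := by
  obtain ⟨hf, hv0, hc⟩ := mem_X.1 hv
  have hle : S ≤ MulAction.stabilizer N v := fun g hg => hf g hg
  have h1 : ((TS s S ω).filter fun n => n • v = v) =
      (univ.filter fun n => n ∈ MulAction.stabilizer N v) \ (univ.filter fun n => n ∈ S) := by
    ext n
    rw [mem_filter, stab_diff H hω hv0 hf, mem_sdiff, mem_filter, mem_filter]
    simp
  have h2 : (univ.filter fun n => n ∈ S) ⊆ (univ.filter fun n => n ∈ MulAction.stabilizer N v) := by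
    intro n hn
    rw [mem_filter] at hn ⊢
    exact ⟨hn.1, hle hn.2⟩
  rw [h1, card_sdiff_of_subset h2, ← hc, ← Fintype.card_subtype, ← Fintype.card_subtype,
    ← Nat.card_eq_fintype_card, ← Nat.card_eq_fintype_card]

/-- the double counting -/
theorem step (H : _root_.Cfsg.Agent.H662.HT.Sym s a N V) {S : Subgroup N} (hω : ω ∈ Subgroup.center N) :
    ∑ n ∈ TS s S ω, (X s r V (S ⊔ Subgroup.zpowers n)).card = (X s r V S).card * (s ^ r - Nat.card S) := by
  classical
  have h1 := Finset.sum_card_bipartiteAbove_eq_sum_card_bipartiteBelow (s := TS s S ω) (t := X s r V S)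
    (fun (n : N) (v : V) => n • v = v)
  have h2 : ∀ n ∈ TS s S ω, (Finset.bipartiteAbove (fun (n : N) (v : V) => n • v = v) (X s r V S) n).card =
      (X s r V (S ⊔ Subgroup.zpowers n)).card := by
    intro n _
    congr 1
    ext v
    rw [Finset.bipartiteAbove, mem_filter, mem_X, mem_X, mem_fixp_sup]
    (clear * - s N V r S n v; tauto)
  have h3 : ∀ v ∈ X s r V S, (Finset.bipartiteBelow (fun (n : N) (v : V) => n • v = v) (TS s S ω) v).card =
      s ^ r - Nat.card S := fun v hv => card_stab_diff H hω hv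
  rw [Finset.sum_congr rfl h2, Finset.sum_congr rfl h3, Finset.sum_const, smul_eq_mul] at h1
  exact h1

/-- the base of the induction -/
theorem base (H : _root_.Cfsg.Agent.H662.HT.Sym s a N V) {S : Subgroup N} (hS : S ⊓ Subgroup.center N = ⊥) (hω : ω ∈ Subgroup.center N)
    (ho : orderOf ω = s) (hc : Nat.card S = s ^ r) (hsol : Nat.card (sol s S) = s ^ (r + 1)) :
    (X s r V S).card = Nat.card (fixp V S) - 1 := by
  classical
  have hT : TS s S ω = ∅ := by
    rw [← card_eq_zero, card_TS H hS hω ho, hsol, hc, pow_succ, Nat.sub_self]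
  have h1 : X s r V S = (univ.filter fun v => v ∈ fixp V S).erase 0 := by
    ext v
    rw [mem_X, mem_erase, mem_filter]
    constructor
    · rintro ⟨h1, h2, -⟩
      exact ⟨h2, mem_univ _, h1⟩
    · rintro ⟨h1, -, h2⟩
      refine ⟨h2, h1, ?_⟩
      have h3 : MulAction.stabilizer N v = S := by
        refine le_antisymm (fun n hn => ?_) (fun g hg => h2 g hg)
        by_contra hnS
        have := ((stab_diff (ω := ω) H hω h1 h2).2 ⟨hn, hnS⟩).1
        rw [hT] at this
        exact absurd this (notMem_empty n)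
      rw [h3, hc]
  rw [h1, card_erase_of_mem (mem_filter.2 ⟨mem_univ _, (fixp V S).zero_mem⟩), ← Fintype.card_subtype,
    ← Nat.card_eq_fintype_card]

end count

/-- A3 -/
theorem card_spec (H : _root_.Cfsg.Agent.H662.HT.Sym s a N V) {r Q : ℕ} {f : ℕ → ℕ}
    (h1 : ∀ S : Subgroup N, S ⊓ Subgroup.center N = ⊥ → ∀ j ≤ r, Nat.card S = s ^ j → Nat.card (sol s S) = f j)
    (h2 : f r = s ^ (r + 1))
    (h3 : ∀ S : Subgroup N, S ⊓ Subgroup.center N = ⊥ → Nat.card S = s ^ r → Nat.card (fixp V S) = Q) :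
    Nat.card (spec s r N V) * ∏ j ∈ range r, (s ^ r - s ^ j) = (Q - 1) * ∏ j ∈ range r, (f j - s ^ (j + 1)) := by
  classical
  have := H.fin
  have := H.finV
  have : Fintype N := Fintype.ofFinite N
  have : Fintype V := Fintype.ofFinite V
  obtain ⟨ω, hω, ho, hΩ⟩ := exists_omega H
  have key : ∀ d j : ℕ, j + d = r → ∀ S : Subgroup N, S ⊓ Subgroup.center N = ⊥ → Nat.card S = s ^ j →
      (X s r V S).card * ∏ i ∈ Ico j r, (s ^ r - s ^ i) = (Q - 1) * ∏ i ∈ Ico j r, (f i - s ^ (i + 1)) := by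
    intro d
    induction d with
    | zero =>
      intro j hj S hS hc
      rw [add_zero] at hj
      subst hj
      rw [Ico_self, prod_empty, prod_empty, mul_one, mul_one, base H hS hω ho hc, h3 S hS hc]
      rw [h1 S hS j le_rfl hc, h2]
    | succ d ih =>
      intro j hj S hS hc
      have hjr : j < r := by omega
      rw [prod_eq_prod_Ico_succ_bot hjr, prod_eq_prod_Ico_succ_bot hjr, ← mul_assoc]
      have h4 := step (r := r) H (S := S) hω
      rw [hc] at h4
      rw [← h4, sum_mul]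
      have h5 : ∀ n ∈ TS s S ω, (X s r V (S ⊔ Subgroup.zpowers n)).card * ∏ i ∈ Ico (j + 1) r, (s ^ r - s ^ i) =
          (Q - 1) * ∏ i ∈ Ico (j + 1) r, (f i - s ^ (i + 1)) := by
        intro n hn
        obtain ⟨⟨hcn, hns⟩, hnO⟩ := mem_TS.1 hn
        refine ih (j + 1) (by omega) _ (inf_TS H hS hω hΩ hn) ?_
        rw [(card_sup H hcn hns (not_mem_of_TS hn)).1, hc, pow_succ]
      rw [sum_congr rfl h5, sum_const, smul_eq_mul, card_TS H hS hω ho, h1 S hS j hjr.le hc, hc, ← pow_succ]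
      ring
  have h4 := key r 0 (zero_add r) ⊥ (bot_inf_eq _) (by rw [Subgroup.card_bot, pow_zero])
  rw [← range_eq_Ico] at h4
  rw [← h4]
  congr 1
  have h5 : X s r V (⊥ : Subgroup N) = univ.filter fun v => v ∈ spec s r N V := by
    ext v
    rw [mem_X, mem_filter]
    constructor
    · rintro ⟨-, h⟩
      exact ⟨mem_univ _, h⟩
    · rintro ⟨-, h⟩
      refine ⟨?_, h⟩
      rw [mem_fixp]
      intro g hg
      rw [Subgroup.mem_bot] at hg
      rw [hg, one_smul]
  rw [h5, ← Fintype.card_subtype, ← Nat.card_eq_fintype_card]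

end Cfsg.Agent.H486.HT
end

-- part: H177/HT/Main
section
/-!
# TEAM HT-E (S3540, S3577), A4: `Sym_free_of_lt`, `Sym_numbers_full` (helper177)
-/

set_option autoImplicit false

open Finset Cfsg.Agent.H662.HT

namespace Cfsg.Agent.H177.HT

universe u v

variable {s a : ℕ} {N : Type u} {V : Type v} [Group N] [AddCommGroup V] [DistribMulAction N V]

/-- A4 -/
theorem Sym_free_of_lt (H : _root_.Cfsg.Agent.H662.HT.Sym s a N V) {r F : ℕ} (hr : 1 ≤ r) (hF : Nat.card V = F ^ s)
    (hlt : (Nat.card (sol s (⊥ : Subgroup N)) - s) * (F - 1) <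
      (s - 1) * (Nat.card V - 1) + (s ^ r - s) * Nat.card (spec s r N V)) :
    ∃ v : V, v ≠ 0 ∧ MulAction.stabilizer N v = ⊥ :=
  free_of_lt_aux H (fun _ hS => Cfsg.Agent.H813.HT.Sym_card_fixp H hS)
    (fun _ hS => Cfsg.Agent.H813.HT.Sym_card_eq H hS) hr hF hlt

/-- A4 -/
theorem Sym_numbers_full (H : _root_.Cfsg.Agent.H662.HT.Sym s a N V) (hF : Full s N) (big : 3 ≤ s ∨ 2 ≤ a) :
    ∃ Q : ℕ, 1 < Q ∧ Nat.card V = Q ^ (s ^ a) ∧ Nat.card (Subgroup.center N) ∣ Q - 1 ∧
      Nat.card (spec s a N V) = s ^ a * (∏ i ∈ range a, (s ^ (i + 1) + 1)) * (Q - 1) ∧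
      ∃ v : V, v ≠ 0 ∧ MulAction.stabilizer N v = ⊥ :=
  numbers_full_aux H (fun _ hS => Cfsg.Agent.H813.HT.Sym_card_fixp H hS)
    (fun _ hS => Cfsg.Agent.H813.HT.Sym_card_eq H hS)
    (fun _ hS => Cfsg.Agent.H990.HT.sol_full_of H hF (Cfsg.Agent.H813.HT.Sym_card_cen H hS))
    (fun _ _ _ h1 h2 h3 => Cfsg.Agent.H486.HT.card_spec H h1 h2 h3) big

end Cfsg.Agent.H177.HT
end

-- part: H755/HT/Numbers
section
/-!
# S3540 / S3577, HT-E A5 (helper755): the numbers for `|Z(N)| = 2`

`Sym_numbers_plus`, `Sym_numbers_minus`.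
-/

set_option autoImplicit false

open scoped commutatorElement
open Finset

namespace Cfsg.Agent.H755.HT

open Cfsg.Agent.H662.HT

universe u v

section grp

variable {a : ℕ} {N : Type u} {V : Type v} [Group N] [AddCommGroup V] [DistribMulAction N V]

theorem sq_center (hz : Nat.card (Subgroup.center N) = 2) {z : N} (h : z ∈ Subgroup.center N) : z ^ 2 = 1 := by
  have h1 : (⟨z, h⟩ : Subgroup.center N) ^ 2 = 1 := by rw [← hz]; exact pow_card_eq_one'
  exact congrArg Subtype.val h1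

/-- products of elements of `S` and of the centre -/
def mp (S : Subgroup N) : ↥S × ↥(Subgroup.center N) → N := fun x => (x.1 : N) * (x.2 : N)

theorem mp_inj {S : Subgroup N} (hS : S ⊓ Subgroup.center N = ⊥) : Function.Injective (mp S) := by
  rintro ⟨⟨x, hx⟩, ⟨z, hz⟩⟩ ⟨⟨y, hy⟩, ⟨w, hw⟩⟩ h
  have h' : x * z = y * w := h
  have h1 : y⁻¹ * x = w * z⁻¹ := by
    rw [inv_mul_eq_iff_eq_mul, ← mul_assoc, ← h', mul_inv_cancel_right]
  have h2 : y⁻¹ * x ∈ S ⊓ Subgroup.center N :=
    ⟨S.mul_mem (S.inv_mem hy) hx, by rw [h1]; exact Subgroup.mul_mem _ hw (Subgroup.inv_mem _ hz)⟩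
  rw [hS, Subgroup.mem_bot] at h2
  have h3 : x = y := (inv_mul_eq_one.1 h2).symm
  subst h3
  have h4 : z = w := mul_left_cancel h'
  subst h4
  rfl

theorem mp_mem (H : Sym 2 a N V) (hz : Nat.card (Subgroup.center N) = 2) {S : Subgroup N}
    (hS : S ⊓ Subgroup.center N = ⊥) (x : ↥S × ↥(Subgroup.center N)) : mp S x ∈ sol 2 S := by
  obtain ⟨⟨x, hx⟩, ⟨z, hzz⟩⟩ := x
  show x * z ∈ sol 2 S
  have hc := Subgroup.mem_center_iff.1 hzz
  refine ⟨?_, ?_⟩
  · rw [Subgroup.mem_centralizer_iff]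
    intro y hy
    rw [← mul_assoc, H.commS hS hy hx, mul_assoc, hc y, ← mul_assoc]
  · rw [pow_two]
    have h1 := H.expS hS hx
    have h2 := sq_center hz hzz
    rw [pow_two] at h1 h2
    rw [mul_assoc, ← mul_assoc z, ← hc x, mul_assoc, h2, mul_one, h1]

theorem card_prod (hz : Nat.card (Subgroup.center N) = 2) (S : Subgroup N) :
    Nat.card (↥S × ↥(Subgroup.center N)) = Nat.card S * 2 := by
  rw [Nat.card_prod, hz]

/-- more solutions than `2 |S|` -/
theorem exists_not (H : Sym 2 a N V) (hz : Nat.card (Subgroup.center N) = 2) {S : Subgroup N}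
    (hlt : Nat.card S * 2 < Nat.card (sol 2 S)) : ∃ n ∈ sol 2 S, n ∉ Set.range (mp S) := by
  have := H.fin
  by_contra hcon
  push Not at hcon
  have h1 : sol 2 S ⊆ Set.range (mp S) := hcon
  have h2 : Nat.card (sol 2 S) ≤ Nat.card (Set.range (mp S)) := Nat.card_mono (Set.toFinite _) h1
  have h3 : Nat.card (Set.range (mp S)) ≤ Nat.card (↥S × ↥(Subgroup.center N)) := Finite.card_range_le _
  rw [card_prod hz] at h3
  omega

theorem lt_of_not (H : Sym 2 a N V) (hz : Nat.card (Subgroup.center N) = 2) {S : Subgroup N}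
    (hS : S ⊓ Subgroup.center N = ⊥) {n : N} (hn : n ∈ sol 2 S) (hn' : n ∉ Set.range (mp S)) :
    Nat.card S * 2 < Nat.card (sol 2 S) := by
  have := H.fin
  rw [← card_prod hz, ← Nat.card_range_of_injective (mp_inj hS)]
  have h1 : Set.range (mp S) ⊂ sol 2 S := by
    refine ⟨?_, fun h => hn' (h hn)⟩
    rintro _ ⟨x, rfl⟩
    exact mp_mem H hz hS x
  exact Set.ncard_lt_ncard h1 (Set.toFinite _)

/-- the subgroup generated by `S` and an involution `n` -/
def ext (S : Subgroup N) (n : N) (hn : n ∈ sol 2 S) : Subgroup N where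
  carrier := {x | x ∈ S ∨ x * n ∈ S}
  one_mem' := Or.inl S.one_mem
  mul_mem' := by
    have hc := Subgroup.mem_centralizer_iff.1 hn.1
    have h2 : n * n = 1 := by rw [← pow_two]; exact hn.2
    rintro x y (hx | hx) (hy | hy)
    · exact Or.inl (S.mul_mem hx hy)
    · exact Or.inr (by rw [mul_assoc]; exact S.mul_mem hx hy)
    · refine Or.inr ?_
      have h3 : x * y * n = (x * n) * y := by rw [mul_assoc, hc y hy, ← mul_assoc]
      rw [h3]
      exact S.mul_mem hx hy
    · refine Or.inl ?_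
      have h3 : x * y = (x * n) * (y * n) := by
        have h4 := hc _ hy
        rw [mul_assoc x n, ← h4, mul_assoc y n n, h2, mul_one]
      rw [h3]
      exact S.mul_mem hx hy
  inv_mem' := by
    have hc := Subgroup.mem_centralizer_iff.1 hn.1
    have h2 : n * n = 1 := by rw [← pow_two]; exact hn.2
    have h2' : n⁻¹ = n := inv_eq_of_mul_eq_one_left h2
    rintro x (hx | hx)
    · exact Or.inl (S.inv_mem hx)
    · refine Or.inr ?_
      have h3 : x⁻¹ * n = (x * n)⁻¹ := by
        have h4 := hc _ (S.inv_mem hx)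
        rw [mul_inv_rev, h2'] at h4 ⊢
        have h5 : n * x⁻¹ * n = x⁻¹ := by
          rw [h4, ← mul_assoc, h2, one_mul]
        have h6 : x⁻¹ * n = n * (n * x⁻¹ * n) := by
          rw [← mul_assoc, ← mul_assoc, h2, one_mul]
        rw [h6, h5]
      rw [h3]
      exact S.inv_mem hx

theorem ext_inf {S : Subgroup N} (hS : S ⊓ Subgroup.center N = ⊥) {n : N} (hn : n ∈ sol 2 S)
    (hn' : n ∉ Set.range (mp S)) : ext S n hn ⊓ Subgroup.center N = ⊥ := by
  rw [eq_bot_iff]
  rintro x ⟨hx, hxz⟩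
  rcases hx with hx | hx
  · rw [← hS]
    exact ⟨hx, hxz⟩
  · exfalso
    apply hn'
    refine ⟨(⟨x * n, hx⟩, ⟨x⁻¹, Subgroup.inv_mem _ hxz⟩), ?_⟩
    show x * n * x⁻¹ = n
    rw [← Subgroup.mem_center_iff.1 hxz n, mul_inv_cancel_right]

/-- a subgroup `S` with few solutions -/
theorem exists_max (H : Sym 2 a N V) (hz : Nat.card (Subgroup.center N) = 2) :
    ∃ S : Subgroup N, S ⊓ Subgroup.center N = ⊥ ∧ Nat.card (sol 2 S) ≤ Nat.card S * 2 := by
  have := H.fin
  obtain ⟨S, hS⟩ := (Set.toFinite {S : Subgroup N | S ⊓ Subgroup.center N = ⊥}).exists_maximal ⟨⊥, bot_inf_eq _⟩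
  refine ⟨S, hS.1, ?_⟩
  by_contra hlt
  rw [not_le] at hlt
  obtain ⟨n, hn, hn'⟩ := exists_not H hz hlt
  have h1 : S ≤ ext S n hn := fun x hx => Or.inl hx
  have h2 := hS.2 (ext_inf hS.1 hn hn') h1
  have h3 : n ∈ ext S n hn := Or.inr (by
    have : n * n = 1 := by rw [← pow_two]; exact hn.2
    rw [this]
    exact S.one_mem)
  apply hn'
  exact ⟨(⟨n, h2 h3⟩, 1), by show n * 1 = n; rw [mul_one]⟩

end grp

section arith

theorem prod_plus (a : ℕ) : ∏ j ∈ range a, (2 ^ (2 * a - j) + 2 ^ a - 2 ^ (j + 1)) =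
    (∏ j ∈ range a, (2 ^ a - 2 ^ j)) * (2 ^ a * ∏ i ∈ range a, (2 ^ i + 1)) := by
  have h1 : (2 : ℕ) ^ a * ∏ i ∈ range a, (2 ^ i + 1) = ∏ j ∈ range a, (2 * (2 ^ (a - 1 - j) + 1)) := by
    rw [prod_mul_distrib, prod_const, card_range, prod_range_reflect (fun i => 2 ^ i + 1)]
  rw [h1, ← prod_mul_distrib]
  refine prod_congr rfl fun j hj => ?_
  rw [mem_range] at hj
  obtain ⟨k, rfl⟩ : ∃ k, a = j + k + 1 := ⟨a - 1 - j, by omega⟩
  have e1 : 2 * (j + k + 1) - j = j + (k + 1) * 2 := by omega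
  have e2 : j + k + 1 - 1 - j = k := by omega
  rw [e1, e2]
  obtain ⟨t, ht⟩ : ∃ t, t = 2 ^ j := ⟨_, rfl⟩
  obtain ⟨y, hy⟩ : ∃ y, y + 1 = 2 ^ k := ⟨2 ^ k - 1, Nat.sub_add_cancel Nat.one_le_two_pow⟩
  have e3 : (2 : ℕ) ^ (j + (k + 1) * 2) = t * (2 * (y + 1)) ^ 2 := by
    rw [pow_add, pow_mul, pow_succ 2 k, ← hy, ← ht]; ring
  have e4 : (2 : ℕ) ^ (j + k + 1) = t * (2 * (y + 1)) := by
    rw [pow_succ, pow_add, ← hy, ← ht]; ring
  rw [e3, e4, pow_succ 2 j, ← ht, ← hy]
  have e5 : t * (2 * (y + 1)) ^ 2 + t * (2 * (y + 1)) = t * (2 * y + 1) * (2 * (y + 1 + 1)) + t * 2 := by ring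
  have e6 : t * (2 * (y + 1)) = t * (2 * y + 1) + t := by ring
  rw [e5, e6, Nat.add_sub_cancel, Nat.add_sub_cancel]

theorem prod_Icc (b : ℕ) : ∏ j ∈ range b, (2 ^ (j + 2) + 1) = ∏ i ∈ Icc 2 (b + 1), (2 ^ i + 1) := by
  induction b with
  | zero => simp
  | succ b ih =>
    rw [prod_range_succ, ih, ← prod_Icc_succ_top (a := 2) (b := b + 1) (by omega) (fun i => 2 ^ i + 1)]

theorem prod_minus (b : ℕ) : ∏ j ∈ range b, (2 ^ (2 * (b + 1) - j) - 2 ^ (b + 1) - 2 ^ (j + 1)) =
    (∏ j ∈ range b, (2 ^ b - 2 ^ j)) * (2 ^ b * ∏ i ∈ Icc 2 (b + 1), (2 ^ i + 1)) := by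
  have h1 : (2 : ℕ) ^ b * ∏ i ∈ Icc 2 (b + 1), (2 ^ i + 1) = ∏ j ∈ range b, (2 * (2 ^ (b - 1 - j + 2) + 1)) := by
    rw [prod_mul_distrib, prod_const, card_range, prod_range_reflect (fun i => 2 ^ (i + 2) + 1), prod_Icc]
  rw [h1, ← prod_mul_distrib]
  refine prod_congr rfl fun j hj => ?_
  rw [mem_range] at hj
  obtain ⟨k, rfl⟩ : ∃ k, b = j + k + 1 := ⟨b - 1 - j, by omega⟩
  have e1 : 2 * (j + k + 1 + 1) - j = j + (k + 2) * 2 := by omega
  have e2 : j + k + 1 - 1 - j = k := by omega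
  rw [e1, e2]
  obtain ⟨t, ht⟩ : ∃ t, t = 2 ^ j := ⟨_, rfl⟩
  obtain ⟨y, hy⟩ : ∃ y, y + 1 = 2 ^ k := ⟨2 ^ k - 1, Nat.sub_add_cancel Nat.one_le_two_pow⟩
  have e3 : (2 : ℕ) ^ (j + (k + 2) * 2) = t * (4 * (y + 1)) ^ 2 := by
    rw [pow_add, pow_mul, pow_add 2 k, ← hy, ← ht]; ring
  have e4 : (2 : ℕ) ^ (j + k + 1 + 1) = t * (4 * (y + 1)) := by
    rw [pow_succ, pow_succ, pow_add, ← hy, ← ht]; ring
  have e4' : (2 : ℕ) ^ (j + k + 1) = t * (2 * (y + 1)) := by
    rw [pow_succ, pow_add, ← hy, ← ht]; ring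
  have e7 : (2 : ℕ) ^ (k + 2) = 4 * (y + 1) := by rw [pow_succ, pow_succ, ← hy]; ring
  rw [e3, e4, e4', e7, pow_succ 2 j, ← ht]
  have e5 : t * (4 * (y + 1)) ^ 2 = t * (2 * y + 1) * (2 * (4 * (y + 1) + 1)) + t * 2 + t * (4 * (y + 1)) := by ring
  have e6 : t * (2 * (y + 1)) = t * (2 * y + 1) + t := by ring
  rw [e5, e6, Nat.add_sub_cancel, Nat.add_sub_cancel, Nat.add_sub_cancel]

theorem prod_pos' (a b : ℕ) (h : b ≤ a) : 0 < ∏ j ∈ range b, (2 ^ a - 2 ^ j) := by
  refine prod_pos fun j hj => ?_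
  rw [mem_range] at hj
  exact Nat.sub_pos_of_lt (Nat.pow_lt_pow_right (by norm_num) (by omega))

/-- `3 ^ (2 ^ (a - 1)) ≥ 4 ^ a + 2 ^ a` for `a ≥ 3` -/
theorem three_pow (a : ℕ) : 2 ^ (2 * (a + 3)) + 2 ^ (a + 3) ≤ 3 ^ (2 ^ (a + 2)) := by
  induction a with
  | zero => norm_num
  | succ a ih =>
    have h1 : (3 : ℕ) ^ (2 ^ (a + 1 + 2)) = (3 ^ (2 ^ (a + 2))) ^ 2 := by
      rw [← pow_mul, ← pow_succ]
    rw [h1]
    have h2 : (2 ^ (2 * (a + 3)) + 2 ^ (a + 3)) ^ 2 ≤ ((3 : ℕ) ^ (2 ^ (a + 2))) ^ 2 := Nat.pow_le_pow_left ih 2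
    refine le_trans ?_ h2
    obtain ⟨t, ht⟩ : ∃ t, t = 2 ^ (a + 3) := ⟨_, rfl⟩
    have h3 : (2 : ℕ) ^ (2 * (a + 3)) = t ^ 2 := by rw [ht, ← pow_mul, mul_comm]
    have h4 : (2 : ℕ) ^ (2 * (a + 1 + 3)) = 4 * t ^ 2 := by
      rw [← h3, show 2 * (a + 1 + 3) = 2 * (a + 3) + 2 by ring, pow_add]; ring
    have h5 : (2 : ℕ) ^ (a + 1 + 3) = 2 * t := by rw [ht]; ring
    have h6 : 8 ≤ t := by rw [ht, pow_add]; exact Nat.le_mul_of_pos_left _ (by positivity)
    rw [h3, h4, h5, ← ht]
    nlinarith only [h6, sq_nonneg (t : ℤ)]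

end arith

section main

variable {a : ℕ} {N : Type u} {V : Type v} [Group N] [AddCommGroup V] [DistribMulAction N V]

theorem card_V (H : Sym 2 a N V) : 1 < Nat.card V := by
  have := H.finV
  have := H.nt
  exact Finite.one_lt_card

theorem one_lt_of_pow (H : Sym 2 a N V) {Q k : ℕ} (h : Nat.card V = Q ^ k) (hk : k ≠ 0) : 1 < Q := by
  have h1 := card_V H
  rw [h] at h1
  rcases Nat.lt_or_ge 1 Q with h2 | h2
  · exact h2
  · interval_cases Q
    · rw [zero_pow hk] at h1; omega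
    · rw [one_pow] at h1; omega

/-- the stabiliser of a nonzero fixed vector of a subgroup without further solutions -/
theorem stab_eq (H : Sym 2 a N V) (hz : Nat.card (Subgroup.center N) = 2) {S : Subgroup N}
    (hS : S ⊓ Subgroup.center N = ⊥) (hs : Nat.card (sol 2 S) ≤ Nat.card S * 2) {v : V} (hv : v ∈ fixp V S)
    (hv0 : v ≠ 0) : MulAction.stabilizer N v = S := by
  have hT := H.stab_inf hv0
  have hle : S ≤ MulAction.stabilizer N v := fun x hx => hv x hx
  refine le_antisymm (fun n hn => ?_) hle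
  by_contra hnS
  have h1 : n ∈ sol 2 S := by
    refine ⟨?_, H.expS hT hn⟩
    rw [Subgroup.mem_centralizer_iff]
    intro x hx
    exact H.commS hT (hle hx) hn
  have h2 : n ∉ Set.range (mp S) := by
    rintro ⟨⟨⟨x, hx⟩, ⟨z, hzz⟩⟩, h⟩
    have h' : x * z = n := h
    have h3 : z ∈ MulAction.stabilizer N v ⊓ Subgroup.center N := by
      refine ⟨?_, hzz⟩
      have : z = x⁻¹ * n := by rw [← h', inv_mul_cancel_left]
      rw [this]
      exact Subgroup.mul_mem _ (Subgroup.inv_mem _ (hle hx)) hn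
    rw [hT, Subgroup.mem_bot] at h3
    rw [h3, mul_one] at h'
    exact hnS (h' ▸ hx)
  have := lt_of_not H hz hS h1 h2
  omega

/-- the centraliser of `S` acts on the nonzero fixed vectors of `S` -/
def act (S : Subgroup N) : SubMulAction (Subgroup.centralizer (S : Set N)) V where
  carrier := {v | v ∈ fixp V S ∧ v ≠ 0}
  smul_mem' := by
    rintro ⟨g, hg⟩ v ⟨hv, hv0⟩
    rw [Subgroup.mem_centralizer_iff] at hg
    refine ⟨fun x hx => ?_, ?_⟩
    · show x • g • v = g • v
      rw [← mul_smul, hg x hx, mul_smul, hv x hx]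
    · show g • v ≠ 0
      exact fun h => hv0 (by rwa [smul_eq_zero_iff_eq] at h)

theorem dvd_act (H : Sym 2 a N V) (hz : Nat.card (Subgroup.center N) = 2) {S : Subgroup N}
    (hS : S ⊓ Subgroup.center N = ⊥) (hs : Nat.card (sol 2 S) ≤ Nat.card S * 2) {k : ℕ}
    (hk : Nat.card (Subgroup.centralizer (S : Set N)) = k * Nat.card S) : k ∣ Nat.card (fixp V S) - 1 := by
  classical
  have := H.fin
  have := H.finV
  have hSC : S ≤ Subgroup.centralizer (S : Set N) := by
    intro x hx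
    rw [Subgroup.mem_centralizer_iff]
    intro y hy
    exact H.commS hS hy hx
  have hS0 : 0 < Nat.card S := Nat.card_pos
  have hstab : ∀ x : ↥(act (V := V) S), Nat.card (MulAction.stabilizer (Subgroup.centralizer (S : Set N)) x) =
      Nat.card S := by
    rintro ⟨v, hv, hv0⟩
    have h1 : MulAction.stabilizer (Subgroup.centralizer (S : Set N)) (⟨v, hv, hv0⟩ : ↥(act (V := V) S)) =
        S.subgroupOf (Subgroup.centralizer (S : Set N)) := by
      ext ⟨g, hg⟩
      rw [MulAction.mem_stabilizer_iff, Subgroup.mem_subgroupOf]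
      have h2 := stab_eq H hz hS hs hv hv0
      constructor
      · intro h
        have h3 : g ∈ MulAction.stabilizer N v := congrArg Subtype.val h
        rwa [h2] at h3
      · intro h
        apply Subtype.ext
        exact hv g h
    rw [h1]
    exact Nat.card_congr (Subgroup.subgroupOfEquivOfLe hSC).toEquiv
  have hcard : Nat.card (fixp V S) - 1 = Nat.card ↥(act (V := V) S) := by
    have e : {x : fixp V S // x ≠ 0} ≃ ↥(act (V := V) S) :=
      { toFun := fun x => ⟨x.1.1, x.1.2, fun h => x.2 (Subtype.ext h)⟩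
        invFun := fun x => ⟨⟨x.1, x.2.1⟩, fun h => x.2.2 (congrArg Subtype.val h)⟩
        left_inv := fun _ => rfl
        right_inv := fun _ => rfl }
    rw [← Nat.card_congr e]
    have : Fintype (fixp V S) := Fintype.ofFinite _
    rw [Nat.card_eq_fintype_card, Nat.card_eq_fintype_card, Fintype.card_subtype_compl, Fintype.card_subtype_eq]
  rw [hcard]
  have : Fintype ↥(act (V := V) S) := Fintype.ofFinite _
  have : Fintype (Subgroup.centralizer (S : Set N)) := Fintype.ofFinite _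
  rw [Nat.card_eq_fintype_card, MulAction.card_eq_sum_card_group_div_card_stabilizer
    (Subgroup.centralizer (S : Set N)) ↥(act (V := V) S)]
  refine Finset.dvd_sum fun w _ => ?_
  rw [← Nat.card_eq_fintype_card, ← Nat.card_eq_fintype_card, hstab, hk, Nat.mul_div_cancel _ hS0]

theorem sub_pow_pos {x y k : ℕ} (hk : k ≠ 0) (h : x ^ k = y ^ k) : x = y := Nat.pow_left_injective hk h

/-- **A5, plus type** -/
theorem Sym_numbers_plus (H : Sym 2 a N V) (hz : Nat.card (Subgroup.center N) = 2) (ha : 2 ≤ a)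
    (hσ : Nat.card (sol 2 (⊥ : Subgroup N)) = 2 ^ (2 * a) + 2 ^ a) :
    ∃ Q : ℕ, 1 < Q ∧ Nat.card V = Q ^ (2 ^ a) ∧
      Nat.card (spec 2 a N V) = 2 ^ a * (∏ i ∈ range a, (2 ^ i + 1)) * (Q - 1) ∧
      ∃ v : V, v ≠ 0 ∧ MulAction.stabilizer N v = ⊥ := by
  obtain ⟨σ, -, hsol⟩ := Cfsg.Agent.H990.HT.sol_two_of H hz (fun _ hS => Cfsg.Agent.H813.HT.Sym_card_cen H hS)
  have hσ2 : σ = 2 ^ a := by
    have h1 := hsol ⊥ (bot_inf_eq _)
    rw [hσ, Subgroup.card_bot] at h1
    push_cast at h1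
    linarith only [h1]
  subst hσ2
  -- the numbers of solutions
  have hf : ∀ S : Subgroup N, S ⊓ Subgroup.center N = ⊥ → ∀ j ≤ a, Nat.card S = 2 ^ j →
      Nat.card (sol 2 S) = 2 ^ (2 * a - j) + 2 ^ a := by
    intro S hS j hj hSj
    have h1 := hsol S hS
    rw [hSj] at h1
    have h2 : Nat.card (sol 2 S) * 2 ^ j = (2 ^ (2 * a - j) + 2 ^ a) * 2 ^ j := by
      rw [add_mul, ← pow_add, Nat.sub_add_cancel (by omega)]
      exact_mod_cast h1
    exact Nat.eq_of_mul_eq_mul_right (by positivity) h2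
  obtain ⟨S, hS, hSmax⟩ := exists_max H hz
  obtain ⟨j, hj, hSj⟩ := Cfsg.Agent.H813.HT.Sym_card_eq H hS
  have hja : j = a := by
    by_contra hne
    rw [hf S hS j hj hSj, hSj, ← pow_succ] at hSmax
    have h1 : (2 : ℕ) ^ (j + 1) ≤ 2 ^ a := Nat.pow_le_pow_right (by norm_num) (by omega)
    have h2 : 0 < (2 : ℕ) ^ (2 * a - j) := by positivity
    omega
  subst hja
  obtain ⟨Q, hQ⟩ : ∃ Q, Q = Nat.card (fixp V S) := ⟨_, rfl⟩
  have hV : Nat.card V = Q ^ 2 ^ j := by rw [hQ, ← hSj]; exact Cfsg.Agent.H813.HT.Sym_card_fixp H hS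
  have hQ1 : 1 < Q := one_lt_of_pow H hV (by positivity)
  have hspec := Cfsg.Agent.H486.HT.card_spec H (r := j) (Q := Q) (f := fun i => 2 ^ (2 * j - i) + 2 ^ j) hf
    (by
      show 2 ^ (2 * j - j) + 2 ^ j = 2 ^ (j + 1)
      rw [two_mul, Nat.add_sub_cancel, pow_succ, mul_two])
    (by
      intro S' hS' hS'j
      apply sub_pow_pos (k := 2 ^ j) (by positivity)
      rw [← hV, ← hS'j]
      exact (Cfsg.Agent.H813.HT.Sym_card_fixp H hS').symm)
  rw [prod_plus] at hspec
  have hsp : Nat.card (spec 2 j N V) = 2 ^ j * (∏ i ∈ range j, (2 ^ i + 1)) * (Q - 1) := by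
    have h1 := prod_pos' j j le_rfl
    have h2 : Nat.card (spec 2 j N V) * ∏ i ∈ range j, (2 ^ j - 2 ^ i) =
        (2 ^ j * (∏ i ∈ range j, (2 ^ i + 1)) * (Q - 1)) * ∏ i ∈ range j, (2 ^ j - 2 ^ i) := by
      rw [hspec]; ring
    exact Nat.eq_of_mul_eq_mul_right h1 h2
  refine ⟨Q, hQ1, hV, hsp, ?_⟩
  have hF : Nat.card V = (Q ^ 2 ^ (j - 1)) ^ 2 := by
    rw [hV, ← pow_mul, ← pow_succ, Nat.sub_add_cancel (by omega)]
  refine Cfsg.Agent.H177.HT.Sym_free_of_lt H (r := j) (by omega) hF ?_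
  rw [hσ, hF, hsp]
  rcases Nat.lt_or_ge 2 j with h3 | h3
  · -- `j ≥ 3`
    obtain ⟨k, rfl⟩ : ∃ k, j = k + 3 := ⟨j - 3, by omega⟩
    have hQ3 : 3 ≤ Q := by
      have h4 := H.cop
      rcases Nat.lt_or_ge Q 3 with h5 | h5
      · exfalso
        apply h4
        have h6 : Q = 2 := by omega
        rw [hV, h6]
        exact dvd_pow_self 2 (by positivity)
      · exact h5
    have h4 := three_pow k
    have h5 : 3 ^ 2 ^ (k + 2) ≤ Q ^ 2 ^ (k + 3 - 1) := Nat.pow_le_pow_left hQ3 _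
    obtain ⟨F, hFd⟩ : ∃ F, F + 1 = Q ^ 2 ^ (k + 3 - 1) := ⟨Q ^ 2 ^ (k + 3 - 1) - 1, Nat.sub_add_cancel
      (Nat.one_le_pow _ _ (by omega))⟩
    rw [← hFd] at h5 ⊢
    have h6 : (F + 1) ^ 2 - 1 = F * (F + 2) := by
      have : (F + 1) ^ 2 = F * (F + 2) + 1 := by ring
      rw [this, Nat.add_sub_cancel]
    have hF0 : 0 < F := by
      have : 0 < (2 : ℕ) ^ (2 * (k + 3)) := by positivity
      have : 0 < (2 : ℕ) ^ (k + 3) := by positivity
      omega
    rw [h6, Nat.add_sub_cancel]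
    have h7 : (2 ^ (2 * (k + 3)) + 2 ^ (k + 3) - 2) * F < F * (F + 2) := by
      rw [mul_comm]
      exact Nat.mul_lt_mul_of_pos_left (by omega) hF0
    have h8 : (2 - 1) * (F * (F + 2)) = F * (F + 2) := by norm_num
    rw [h8]
    omega
  · -- `j = 2`
    have h4 : j = 2 := by omega
    subst h4
    obtain ⟨x, rfl⟩ : ∃ x, Q = x + 2 := ⟨Q - 2, by omega⟩
    have e1 : ((x + 2) ^ 2 ^ (2 - 1)) ^ 2 = (x + 2) ^ 4 := by rw [← pow_mul]; norm_num
    have e2 : (x + 2) ^ 2 ^ (2 - 1) = (x + 2) ^ 2 := rfl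
    rw [e1, e2]
    have e3 : (x + 2) ^ 2 - 1 = (x + 1) * (x + 3) := by
      have : (x + 2) ^ 2 = (x + 1) * (x + 3) + 1 := by ring
      rw [this, Nat.add_sub_cancel]
    have e4 : (x + 2) ^ 4 - 1 = (x + 1) * (x + 3) * ((x + 2) ^ 2 + 1) := by
      have : (x + 2) ^ 4 = (x + 1) * (x + 3) * ((x + 2) ^ 2 + 1) + 1 := by ring
      rw [this, Nat.add_sub_cancel]
    have e5 : x + 2 - 1 = x + 1 := rfl
    rw [e3, e4, e5, prod_range_succ, prod_range_one]
    have e6 : (2 ^ (2 * 2) + 2 ^ 2 - 2) * ((x + 1) * (x + 3)) = (x + 1) * (18 * (x + 3)) := by norm_num; ring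
    have e7 : (2 - 1) * ((x + 1) * (x + 3) * ((x + 2) ^ 2 + 1)) +
        (2 ^ 2 - 2) * (2 ^ 2 * ((2 ^ 0 + 1) * (2 ^ 1 + 1)) * (x + 1)) =
        (x + 1) * ((x + 3) * ((x + 2) ^ 2 + 1) + 48) := by norm_num; ring
    rw [e6, e7]
    refine Nat.mul_lt_mul_of_pos_left ?_ (by omega)
    zify
    linarith only [sq_nonneg ((x : ℤ) - 1), sq_nonneg ((x : ℤ)), mul_nonneg (Int.natCast_nonneg x) (sq_nonneg ((x : ℤ) - 1))]

/-- **A5, minus type** -/
theorem Sym_numbers_minus (H : Sym 2 a N V) (hz : Nat.card (Subgroup.center N) = 2) (ha : 2 ≤ a)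
    (hσ : Nat.card (sol 2 (⊥ : Subgroup N)) + 2 ^ a = 2 ^ (2 * a)) :
    ∃ Q : ℕ, 1 < Q ∧ 8 ∣ Q - 1 ∧ Nat.card V = Q ^ (2 ^ (a - 1)) ∧
      Nat.card (spec 2 (a - 1) N V) = 2 ^ (a - 1) * (∏ i ∈ Icc 2 a, (2 ^ i + 1)) * (Q - 1) ∧
      ((a = 2 ∧ Q = 9) ∨ ∃ v : V, v ≠ 0 ∧ MulAction.stabilizer N v = ⊥) := by
  obtain ⟨b, rfl⟩ : ∃ b, a = b + 1 := ⟨a - 1, by omega⟩
  rw [Nat.add_sub_cancel]
  have := H.fin
  obtain ⟨σ, -, hsol⟩ := Cfsg.Agent.H990.HT.sol_two_of H hz (fun _ hS => Cfsg.Agent.H813.HT.Sym_card_cen H hS)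
  have hσ2 : σ = -2 ^ (b + 1) := by
    have h1 := hsol ⊥ (bot_inf_eq _)
    rw [Subgroup.card_bot] at h1
    have h2 : (Nat.card (sol 2 (⊥ : Subgroup N)) : ℤ) + 2 ^ (b + 1) = 2 ^ (2 * (b + 1)) := by exact_mod_cast hσ
    push_cast at h1
    linarith only [hσ, h1]
  subst hσ2
  -- the numbers of solutions
  have hf' : ∀ S : Subgroup N, S ⊓ Subgroup.center N = ⊥ → ∀ j ≤ b + 1, Nat.card S = 2 ^ j →
      Nat.card (sol 2 S) + 2 ^ (b + 1) = 2 ^ (2 * (b + 1) - j) := by
    intro S hS j hj hSj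
    have h1 := hsol S hS
    rw [hSj] at h1
    have h2 : (Nat.card (sol 2 S) + 2 ^ (b + 1)) * 2 ^ j = 2 ^ (2 * (b + 1) - j) * 2 ^ j := by
      rw [← pow_add, Nat.sub_add_cancel (by omega)]
      zify
      push_cast at h1
      linarith only [h1]
    exact Nat.eq_of_mul_eq_mul_right (by positivity) h2
  have hf : ∀ S : Subgroup N, S ⊓ Subgroup.center N = ⊥ → ∀ j ≤ b, Nat.card S = 2 ^ j →
      Nat.card (sol 2 S) = 2 ^ (2 * (b + 1) - j) - 2 ^ (b + 1) := by
    intro S hS j hj hSj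
    have := hf' S hS j (by omega) hSj
    omega
  obtain ⟨S, hS, hSmax⟩ := exists_max H hz
  obtain ⟨j, hj, hSj⟩ := Cfsg.Agent.H813.HT.Sym_card_eq H hS
  have hjb : j = b := by
    have h0 := hf' S hS j hj hSj
    rw [hSj, ← pow_succ] at hSmax
    rcases Nat.lt_or_ge b j with h1 | h1
    · exfalso
      have h2 : j = b + 1 := by omega
      rw [h2, two_mul, Nat.add_sub_cancel] at h0
      have h3 : Nat.card (sol 2 S) = 0 := by omega
      have h4 : Nonempty (sol 2 S) := ⟨⟨1, Subgroup.one_mem _, one_pow _⟩⟩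
      have h5 : 0 < Nat.card (sol 2 S) := Nat.card_pos
      omega
    · by_contra hne
      have h2 : (2 : ℕ) ^ (j + 1) ≤ 2 ^ b := Nat.pow_le_pow_right (by norm_num) (by omega)
      have h3 : (2 : ℕ) ^ (b + 3) ≤ 2 ^ (2 * (b + 1) - j) := Nat.pow_le_pow_right (by norm_num) (by omega)
      have h4 : (2 : ℕ) ^ (b + 3) = 8 * 2 ^ b := by ring
      have h5 : (2 : ℕ) ^ (b + 1) = 2 * 2 ^ b := by ring
      have h6 : 0 < (2 : ℕ) ^ b := by positivity
      omega
  subst hjb
  obtain ⟨Q, hQ⟩ : ∃ Q, Q = Nat.card (fixp V S) := ⟨_, rfl⟩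
  have hV : Nat.card V = Q ^ 2 ^ j := by rw [hQ, ← hSj]; exact Cfsg.Agent.H813.HT.Sym_card_fixp H hS
  have hQ1 : 1 < Q := one_lt_of_pow H hV (by positivity)
  have hspec := Cfsg.Agent.H486.HT.card_spec H (r := j) (Q := Q) (f := fun i => 2 ^ (2 * (j + 1) - i) - 2 ^ (j + 1)) hf
    (by
      show 2 ^ (2 * (j + 1) - j) - 2 ^ (j + 1) = 2 ^ (j + 1)
      have e : 2 * (j + 1) - j = j + 1 + 1 := by omega
      rw [e, pow_succ 2 (j + 1), mul_two, Nat.add_sub_cancel])
    (by
      intro S' hS' hS'j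
      apply sub_pow_pos (k := 2 ^ j) (by positivity)
      rw [← hV, ← hS'j]
      exact (Cfsg.Agent.H813.HT.Sym_card_fixp H hS').symm)
  rw [prod_minus] at hspec
  have hsp : Nat.card (spec 2 j N V) = 2 ^ j * (∏ i ∈ Icc 2 (j + 1), (2 ^ i + 1)) * (Q - 1) := by
    have h1 := prod_pos' j j le_rfl
    have h2 : Nat.card (spec 2 j N V) * ∏ i ∈ range j, (2 ^ j - 2 ^ i) =
        (2 ^ j * (∏ i ∈ Icc 2 (j + 1), (2 ^ i + 1)) * (Q - 1)) * ∏ i ∈ range j, (2 ^ j - 2 ^ i) := by
      rw [hspec]; ring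
    exact Nat.eq_of_mul_eq_mul_right h1 h2
  have h8 : 8 ∣ Q - 1 := by
    rw [hQ]
    refine dvd_act H hz hS hSmax ?_
    have h1 := Cfsg.Agent.H813.HT.Sym_card_cen H hS
    rw [H.card, hz, hSj] at h1
    rw [hSj]
    have h2 : Nat.card (Subgroup.centralizer (S : Set N)) * 2 ^ j = 8 * 2 ^ j * 2 ^ j := by
      rw [h1]; ring
    exact Nat.eq_of_mul_eq_mul_right (by positivity) h2
  refine ⟨Q, hQ1, h8, hV, hsp, ?_⟩
  have hQ9 : 9 ≤ Q := by omega
  have hF : Nat.card V = (Q ^ 2 ^ (j - 1)) ^ 2 := by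
    rw [hV, ← pow_mul, ← pow_succ, Nat.sub_add_cancel (by omega)]
  rcases Nat.lt_or_ge 1 j with h3 | h3
  · -- `j ≥ 2`
    right
    refine Cfsg.Agent.H177.HT.Sym_free_of_lt H (r := j) (by omega) hF ?_
    rw [hF, hsp]
    obtain ⟨k, rfl⟩ : ∃ k, j = k + 2 := ⟨j - 2, by omega⟩
    have h4 := three_pow k
    have h5 : 3 ^ 2 ^ (k + 2) ≤ Q ^ 2 ^ (k + 2 - 1) := by
      have e : (3 : ℕ) ^ 2 ^ (k + 2) = 9 ^ 2 ^ (k + 2 - 1) := by
        rw [show (9 : ℕ) = 3 ^ 2 by norm_num, ← pow_mul, ← pow_succ']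
        rfl
      rw [e]
      exact Nat.pow_le_pow_left hQ9 _
    obtain ⟨F, hFd⟩ : ∃ F, F + 1 = Q ^ 2 ^ (k + 2 - 1) := ⟨Q ^ 2 ^ (k + 2 - 1) - 1, Nat.sub_add_cancel
      (Nat.one_le_pow _ _ (by omega))⟩
    rw [← hFd] at h5 ⊢
    have h6 : (F + 1) ^ 2 - 1 = F * (F + 2) := by
      have : (F + 1) ^ 2 = F * (F + 2) + 1 := by ring
      rw [this, Nat.add_sub_cancel]
    have hF0 : 0 < F := by
      have : 0 < (2 : ℕ) ^ (2 * (k + 3)) := by positivity
      have : 0 < (2 : ℕ) ^ (k + 3) := by positivity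
      omega
    have h9 : Nat.card (sol 2 (⊥ : Subgroup N)) ≤ 2 ^ (2 * (k + 3)) := by
      have e : 2 * (k + 2 + 1) = 2 * (k + 3) := rfl
      rw [← e]
      omega
    rw [h6, Nat.add_sub_cancel]
    have h10 : 0 < (2 : ℕ) ^ (k + 3) := by positivity
    have h7 : (Nat.card (sol 2 (⊥ : Subgroup N)) - 2) * F < F * (F + 2) := by
      rw [mul_comm]
      exact Nat.mul_lt_mul_of_pos_left (by omega) hF0
    have h8 : (2 - 1) * (F * (F + 2)) = F * (F + 2) := by norm_num
    rw [h8]
    omega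
  · -- `j = 1`
    have h4 : j = 1 := by omega
    subst h4
    rcases Nat.lt_or_ge 9 Q with h5 | h5
    · right
      refine Cfsg.Agent.H177.HT.Sym_free_of_lt H (r := 1) le_rfl hF ?_
      have h6 : Nat.card (sol 2 (⊥ : Subgroup N)) = 12 := by
        have h7 : (2 : ℕ) ^ (1 + 1) = 4 := by norm_num
        have h8 : (2 : ℕ) ^ (2 * (1 + 1)) = 16 := by norm_num
        rw [h7, h8] at hσ
        omega
      rw [hF, h6]
      obtain ⟨x, rfl⟩ : ∃ x, Q = x + 10 := ⟨Q - 10, by omega⟩
      have e1 : ((x + 10) ^ 2 ^ (1 - 1)) ^ 2 = (x + 10) ^ 2 := by norm_num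
      have e2 : (x + 10) ^ 2 ^ (1 - 1) = x + 10 := by norm_num
      rw [e1, e2]
      have e3 : (x + 10) ^ 2 - 1 = (x + 9) * (x + 11) := by
        have : (x + 10) ^ 2 = (x + 9) * (x + 11) + 1 := by ring
        rw [this, Nat.add_sub_cancel]
      have e5 : x + 10 - 1 = x + 9 := rfl
      rw [e3, e5]
      have e6 : (2 - 1) * ((x + 9) * (x + 11)) = (x + 9) * (x + 11) := by norm_num
      rw [e6]
      have e7 : (12 - 2) * (x + 9) < (x + 9) * (x + 11) := by
        rw [mul_comm]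
        exact Nat.mul_lt_mul_of_pos_left (by omega) (by omega)
      (clear * - e7; omega)
    · left
      exact ⟨rfl, by omega⟩

end main

end Cfsg.Agent.H755.HT
end

-- part: H990/HT/SolFull
section
/-!
# S3540/S3577, task A2 (helper990)
-/

set_option autoImplicit false

namespace Cfsg.Agent.H990.HT

open Cfsg.Agent.H662.HT

universe u v

variable {s a : ℕ} {N : Type u} {V : Type v} [Group N] [AddCommGroup V] [DistribMulAction N V]

/-- A2 -/
theorem Sym_sol_two (H : Sym 2 a N V) (hz : Nat.card (Subgroup.center N) = 2) :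
    ∃ σ : ℤ, (σ = 2 ^ a ∨ σ = -2 ^ a) ∧ ∀ S : Subgroup N, S ⊓ Subgroup.center N = ⊥ →
      (Nat.card (sol 2 S) : ℤ) * Nat.card S = 2 ^ (2 * a) + σ * Nat.card S :=
  sol_two_of H hz fun _ hS => H813.HT.Sym_card_cen H hS

end Cfsg.Agent.H990.HT
end

-- part: H669/HT/Frame5
section
/-!
# Five pairwise anticommuting involutions: the definition `Frame5` (S3540 / S3577, TEAM HT-E, B1 and B2)
-/

set_option autoImplicit false

namespace Cfsg.Agent.H669.HT

universe u

variable {p : ℕ} [Fact p.Prime] {M : Type u} [AddCommGroup M] [Module (ZMod p) M]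

/-- five pairwise anticommuting involutions with scalar product `± 1` -/
structure Frame5 (t : Fin 5 → (M ≃ₗ[ZMod p] M)) : Prop where
  sq : ∀ k, t k * t k = 1
  anti : ∀ j k, j ≠ k → ∀ v : M, (t j * t k) v = -(t k * t j) v
  prod : (∀ v : M, (t 0 * t 1 * t 2 * t 3 * t 4) v = v) ∨ (∀ v : M, (t 0 * t 1 * t 2 * t 3 * t 4) v = -v)

end Cfsg.Agent.H669.HT
end

-- part: H669/HT/Frame
section
/-!
# The minus type group `2^(1+4)` has a frame of five anticommuting involutions (TEAM HT-E, B1)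

`exists_frame`.
-/

set_option autoImplicit false

namespace Cfsg.Agent.H669.HT

open Finset

section abstract

variable {E : Type*} [Group E] [Fintype E] [DecidableEq E]

/-- the extraspecial group of order `32` with twelve solutions of `x ^ 2 = 1` -/
structure ES (z : E) : Prop where
  z1 : z ≠ 1
  zc : ∀ x, z * x = x * z
  zz : z * z = 1
  cen : ∀ x, (∀ y, x * y = y * x) → x = 1 ∨ x = z
  comm : ∀ x y, x * y = y * x ∨ x * y = z * (y * x)
  card : Fintype.card E = 32
  sol : (univ.filter (fun x : E => x * x = 1)).card = 12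
  sq : ∀ x : E, x * x = 1 ∨ x * x = z

variable {z : E}

theorem ES.ne_z (h : ES z) (x : E) : z * x ≠ x := fun e => h.z1 (mul_eq_right.1 e)

/-- a non-central involution -/
def Inv (z : E) (t : E) : Prop := t * t = 1 ∧ t ≠ 1 ∧ t ≠ z

theorem ES.half (h : ES z) {t : E} (ht : Inv z t) :
    (univ.filter (fun x : E => ¬ x * t = t * x)).card = 16 := by
  classical
  obtain ⟨y, hy⟩ : ∃ y, ¬ t * y = y * t := by
    by_contra hcon
    push Not at hcon
    rcases h.cen t hcon with h1 | h1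
    · exact ht.2.1 h1
    · exact ht.2.2 h1
  have hy' : y * t = z * (t * y) := (h.comm y t).resolve_left fun e => hy e.symm
  have h1 : (univ.filter (fun x : E => ¬ x * t = t * x)).card = (univ.filter (fun x : E => x * t = t * x)).card := by
    refine Finset.card_bij' (fun x _ => x * y) (fun x _ => x * y⁻¹) ?_ ?_ ?_ ?_
    · intro x hx
      simp only [mem_filter, mem_univ, true_and] at hx ⊢
      have hx' : x * t = z * (t * x) := (h.comm x t).resolve_left hx
      calc x * y * t = x * (y * t) := mul_assoc _ _ _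
        _ = x * (z * (t * y)) := by rw [hy']
        _ = z * (x * t * y) := by rw [← mul_assoc, ← h.zc x]; simp only [mul_assoc]
        _ = z * (z * (t * x) * y) := by rw [hx']
        _ = (z * z) * (t * (x * y)) := by simp only [mul_assoc]
        _ = t * (x * y) := by rw [h.zz, one_mul]
    · intro x hx
      simp only [mem_filter, mem_univ, true_and] at hx ⊢
      intro e
      -- y⁻¹ t = z t y⁻¹
      have h2 : y⁻¹ * t = z * (t * y⁻¹) := by
        have h3 : t * y = z * (y * t) := by rw [hy', ← mul_assoc, h.zz, one_mul]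
        rw [inv_mul_eq_iff_eq_mul]
        calc t = t * y * y⁻¹ := by group
          _ = z * (y * t) * y⁻¹ := by rw [h3]
          _ = y * (z * (t * y⁻¹)) := by rw [← mul_assoc y z, ← h.zc y]; simp only [mul_assoc]
      have h4 : x * y⁻¹ * t = z * (t * (x * y⁻¹)) := by
        calc x * y⁻¹ * t = x * (y⁻¹ * t) := mul_assoc _ _ _
          _ = x * (z * (t * y⁻¹)) := by rw [h2]
          _ = z * (x * t * y⁻¹) := by rw [← mul_assoc, ← h.zc x]; simp only [mul_assoc]
          _ = z * (t * (x * y⁻¹)) := by rw [hx]; simp only [mul_assoc]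
      rw [e] at h4
      exact h.ne_z _ h4.symm
    · intro x _; simp
    · intro x _; simp
  have h2 := Finset.card_filter_add_card_filter_not (s := (univ : Finset E)) (fun x : E => x * t = t * x)
  rw [Finset.card_univ, h.card] at h2
  omega

theorem ES.four (h : ES z) {t : E} (ht : Inv z t) :
    (univ.filter (fun x : E => x * x = 1 ∧ x * t = t * x)).card = 4 := by
  classical
  -- outside of the centralizer
  have h1 : (univ.filter (fun x : E => x * x = 1 ∧ ¬ x * t = t * x)).card =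
      (univ.filter (fun x : E => ¬ x * x = 1 ∧ ¬ x * t = t * x)).card := by
    have key : ∀ x : E, ¬ x * t = t * x → x * t * (x * t) = z * (x * x) := by
      intro x hx
      have hx' : t * x = z * (x * t) := (h.comm t x).resolve_left fun e => hx e.symm
      calc x * t * (x * t) = x * (t * x) * t := by simp only [mul_assoc]
        _ = x * (z * (x * t)) * t := by rw [hx']
        _ = z * (x * x * (t * t)) := by
            rw [← mul_assoc x z, ← h.zc x]; simp only [mul_assoc]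
        _ = z * (x * x) := by rw [ht.1, mul_one]
    have key2 : ∀ x : E, ¬ x * t = t * x → ¬ x * t * t = t * (x * t) := by
      intro x hx e
      apply hx
      rw [← mul_assoc] at e
      exact mul_right_cancel e
    refine Finset.card_bij' (fun x _ => x * t) (fun x _ => x * t) ?_ ?_ ?_ ?_
    · intro x hx
      simp only [mem_filter, mem_univ, true_and] at hx ⊢
      refine ⟨?_, key2 x hx.2⟩
      rw [key x hx.2, hx.1, mul_one]
      exact h.z1
    · intro x hx
      simp only [mem_filter, mem_univ, true_and] at hx ⊢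
      refine ⟨?_, key2 x hx.2⟩
      rw [key x hx.2, (h.sq x).resolve_left hx.1, h.zz]
    · intro x _; simp [mul_assoc, ht.1]
    · intro x _; simp [mul_assoc, ht.1]
  have h2 := h.half ht
  have h3 := h.sol
  have h4 := Finset.card_filter_add_card_filter_not (s := univ.filter (fun x : E => x * x = 1))
    (fun x : E => x * t = t * x)
  have h5 := Finset.card_filter_add_card_filter_not (s := univ.filter (fun x : E => ¬ x * t = t * x))
    (fun x : E => x * x = 1)
  rw [Finset.filter_filter, Finset.filter_filter] at h4 h5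
  have h6 : (univ.filter (fun x : E => ¬ x * t = t * x ∧ x * x = 1)) =
      (univ.filter (fun x : E => x * x = 1 ∧ ¬ x * t = t * x)) := by
    ext x; simp only [and_comm, _root_.Finset.mem_filter, _root_.Finset.mem_univ, _root_.true_and]
  have h7 : (univ.filter (fun x : E => ¬ x * t = t * x ∧ ¬ x * x = 1)) =
      (univ.filter (fun x : E => ¬ x * x = 1 ∧ ¬ x * t = t * x)) := by
    ext x; simp only [and_comm, _root_.Finset.mem_filter, _root_.Finset.mem_univ, _root_.true_and]
  rw [h6, h7] at h5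
  omega

theorem ES.eq_of_comm (h : ES z) {t y : E} (ht : Inv z t) (hy : Inv z y) (hc : y * t = t * y) :
    y = t ∨ y = z * t := by
  classical
  have hsub : ({1, z, t, z * t} : Finset E) ⊆ univ.filter (fun x : E => x * x = 1 ∧ x * t = t * x) := by
    intro x hx
    simp only [mem_insert, mem_singleton] at hx
    simp only [mem_filter, mem_univ, true_and]
    rcases hx with rfl | rfl | rfl | rfl
    · simp
    · exact ⟨h.zz, h.zc t⟩
    · exact ⟨ht.1, rfl⟩
    · refine ⟨?_, ?_⟩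
      · calc z * t * (z * t) = z * (t * z) * t := by simp only [mul_assoc]
          _ = (z * z) * (t * t) := by rw [← h.zc t]; simp only [mul_assoc]
          _ = 1 := by rw [h.zz, ht.1, one_mul]
      · rw [← mul_assoc, ← h.zc t]
  have hcard : ({1, z, t, z * t} : Finset E).card = 4 := by
    have e1 : (1 : E) ≠ z := h.z1.symm
    have e2 : (1 : E) ≠ t := ht.2.1.symm
    have e3 : (1 : E) ≠ z * t := by
      intro e
      apply ht.2.2
      have : z * 1 = z * (z * t) := by rw [← e]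
      rw [mul_one, ← mul_assoc, h.zz, one_mul] at this
      exact this.symm
    have e4 : z ≠ t := ht.2.2.symm
    have e5 : z ≠ z * t := by
      intro e
      exact ht.2.1 (left_eq_mul.1 e)
    have e6 : t ≠ z * t := (h.ne_z t).symm
    rw [Finset.card_insert_of_notMem, Finset.card_insert_of_notMem, Finset.card_insert_of_notMem,
      Finset.card_singleton]
    · simpa using e6
    · simp only [mem_insert, mem_singleton, not_or]; exact ⟨e4, e5⟩
    · simp only [mem_insert, mem_singleton, not_or]; exact ⟨e1, e2, e3⟩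
  have heq := Finset.eq_of_subset_of_card_le hsub (by rw [hcard, h.four ht])
  have hy' : y ∈ univ.filter (fun x : E => x * x = 1 ∧ x * t = t * x) := by
    simp only [mem_filter, mem_univ, true_and]
    exact ⟨hy.1, hc⟩
  rw [← heq] at hy'
  simp only [mem_insert, mem_singleton] at hy'
  rcases hy' with h1 | h1 | h1 | h1
  · exact absurd h1 hy.2.1
  · exact absurd h1 hy.2.2
  · exact Or.inl h1
  · exact Or.inr h1

theorem ES.card_inv (h : ES z) : (univ.filter (fun x : E => x * x = 1 ∧ x ≠ 1 ∧ x ≠ z)).card = 10 := by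
  classical
  have h1 : univ.filter (fun x : E => x * x = 1 ∧ x ≠ 1 ∧ x ≠ z) =
      (univ.filter (fun x : E => x * x = 1)) \ {1, z} := by
    ext x
    simp only [not_or, _root_.ne_eq, _root_.Finset.mem_filter, _root_.Finset.mem_univ, _root_.true_and, _root_.Finset.mem_sdiff, _root_.Finset.mem_insert, _root_.Finset.mem_singleton]
  rw [h1, Finset.card_sdiff_of_subset, h.sol, Finset.card_insert_of_notMem, Finset.card_singleton]
  · simpa using h.z1.symm
  · intro x hx
    simp only [mem_insert, mem_singleton] at hx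
    simp only [mem_filter, mem_univ, true_and]
    rcases hx with rfl | rfl
    · simp
    · exact h.zz

/-- `k` representatives of the pairs `{t, z t}` -/
structure Fam (z : E) {k : ℕ} (t : Fin k → E) : Prop where
  inv : ∀ i, Inv z (t i)
  ne : ∀ i j, i ≠ j → t i ≠ t j
  ne' : ∀ i j, i ≠ j → t i ≠ z * t j

theorem ES.exists_fam (h : ES z) : ∀ k ≤ 5, ∃ t : Fin k → E, Fam z t := by
  classical
  intro k
  induction k with
  | zero => intro _; exact ⟨fun i => i.elim0, fun i => i.elim0, fun i => i.elim0, fun i => i.elim0⟩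
  | succ k ih =>
    intro hk
    obtain ⟨t, ht⟩ := ih (by omega)
    obtain ⟨x, hx, hx'⟩ : ∃ x ∈ univ.filter (fun x : E => x * x = 1 ∧ x ≠ 1 ∧ x ≠ z),
        x ∉ univ.image t ∪ univ.image (fun i => z * t i) := by
      apply Finset.exists_mem_notMem_of_card_lt_card
      rw [h.card_inv]
      calc (univ.image t ∪ univ.image (fun i => z * t i)).card
          ≤ (univ.image t).card + (univ.image (fun i => z * t i)).card := Finset.card_union_le _ _
        _ ≤ k + k := by
            refine Nat.add_le_add ?_ ?_ <;>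
            · refine Finset.card_image_le.trans ?_
              simp only [_root_.Finset.card_univ, _root_.Fintype.card_fin, _root_.Std.le_refl]
        _ < 10 := by omega
    simp only [mem_filter, mem_univ, true_and] at hx
    simp only [mem_union, mem_image, mem_univ, true_and, not_or, not_exists] at hx'
    obtain ⟨hx1, hx2⟩ := hx'
    have hx3 : ∀ i, t i ≠ z * x := by
      intro i e
      apply hx2 i
      rw [e, ← mul_assoc, h.zz, one_mul]
    refine ⟨Fin.cons x t, ?_, ?_, ?_⟩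
    · intro i
      refine Fin.cases ?_ (fun i => ?_) i
      · exact hx
      · simpa using ht.inv i
    · intro i j
      refine Fin.cases ?_ (fun i => ?_) i <;> refine Fin.cases ?_ (fun j => ?_) j
      · intro hne; exact absurd rfl hne
      · intro _; simpa using fun e => hx1 j e.symm
      · intro _; simpa using hx1 i
      · intro hne
        have : i ≠ j := fun e => hne (by rw [e])
        simpa using ht.ne i j this
    · intro i j
      refine Fin.cases ?_ (fun i => ?_) i <;> refine Fin.cases ?_ (fun j => ?_) j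
      · intro hne; exact absurd rfl hne
      · intro _; simpa using fun e => hx2 j e.symm
      · intro _; simpa using hx3 i
      · intro hne
        have : i ≠ j := fun e => hne (by rw [e])
        simpa using ht.ne' i j this

theorem ES.all (h : ES z) {t : Fin 5 → E} (ht : Fam z t) {x : E} (hx : Inv z x) :
    ∃ k, x = t k ∨ x = z * t k := by
  classical
  let f : Fin 5 × Bool → E := fun q => if q.2 then z * t q.1 else t q.1
  have hf : Function.Injective f := by
    rintro ⟨i, b⟩ ⟨j, c⟩ e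
    by_cases hij : i = j
    · subst hij
      cases b <;> cases c <;> simp only [f, if_true, Bool.false_eq_true, if_false] at e
      · rfl
      · exact absurd e.symm (h.ne_z _)
      · exact absurd e (h.ne_z _)
      · rfl
    · exfalso
      cases b <;> cases c <;> simp only [f, if_true, Bool.false_eq_true, if_false] at e
      · exact ht.ne i j hij e
      · exact ht.ne' i j hij e
      · exact ht.ne' j i (Ne.symm hij) e.symm
      · exact ht.ne i j hij (mul_left_cancel e)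
  have hsub : univ.image f ⊆ univ.filter (fun x : E => x * x = 1 ∧ x ≠ 1 ∧ x ≠ z) := by
    intro y hy
    simp only [mem_image, mem_univ, true_and] at hy
    obtain ⟨⟨i, b⟩, rfl⟩ := hy
    simp only [mem_filter, mem_univ, true_and]
    have hi := ht.inv i
    cases b <;> simp only [f, if_true, Bool.false_eq_true, if_false]
    · exact hi
    · refine ⟨?_, ?_, ?_⟩
      · calc z * t i * (z * t i) = z * (t i * z) * t i := by simp only [mul_assoc]
          _ = (z * z) * (t i * t i) := by rw [← h.zc]; simp only [mul_assoc]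
          _ = 1 := by rw [h.zz, hi.1, one_mul]
      · intro e
        apply hi.2.2
        have : z * (z * t i) = z * 1 := by rw [e]
        rwa [← mul_assoc, h.zz, one_mul, mul_one] at this
      · intro e
        exact hi.2.1 (mul_eq_left.1 e)
  have heq := Finset.eq_of_subset_of_card_le hsub (by
    rw [h.card_inv, Finset.card_image_of_injective _ hf]
    simp)
  have hx' : x ∈ univ.filter (fun x : E => x * x = 1 ∧ x ≠ 1 ∧ x ≠ z) := by
    simp only [mem_filter, mem_univ, true_and]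
    exact hx
  rw [← heq] at hx'
  simp only [mem_image, mem_univ, true_and] at hx'
  obtain ⟨⟨i, b⟩, rfl⟩ := hx'
  refine ⟨i, ?_⟩
  cases b <;> simp [f]

/-- the elements of a family anticommute -/
theorem ES.anti (h : ES z) {k : ℕ} {t : Fin k → E} (ht : Fam z t) {i j : Fin k} (hij : i ≠ j) :
    t i * t j = z * (t j * t i) := by
  refine (h.comm _ _).resolve_left fun e => ?_
  rcases h.eq_of_comm (ht.inv j) (ht.inv i) e with h1 | h1
  · exact ht.ne i j hij h1
  · exact ht.ne' i j hij h1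

section signs

omit [Fintype E] [DecidableEq E] in
theorem co_co {a x y : E} (hx : a * x = x * a) (hy : a * y = y * a) : a * (x * y) = x * y * a := by
  rw [← mul_assoc, hx, mul_assoc, hy, mul_assoc]

theorem ES.co_an (h : ES z) {a x y : E} (hx : a * x = x * a) (hy : a * y = z * (y * a)) :
    a * (x * y) = z * (x * y * a) := by
  rw [← mul_assoc, hx, mul_assoc, hy, ← mul_assoc x z, ← h.zc x]
  simp only [mul_assoc]

theorem ES.an_co (_h : ES z) {a x y : E} (hx : a * x = z * (x * a)) (hy : a * y = y * a) :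
    a * (x * y) = z * (x * y * a) := by
  rw [← mul_assoc, hx, mul_assoc, mul_assoc, hy]
  simp only [mul_assoc]

theorem ES.an_an (h : ES z) {a x y : E} (hx : a * x = z * (x * a)) (hy : a * y = z * (y * a)) :
    a * (x * y) = x * y * a := by
  rw [← mul_assoc, hx, mul_assoc, mul_assoc, hy, ← mul_assoc x z, ← h.zc x, mul_assoc z x, ← mul_assoc z z, h.zz,
    one_mul]
  simp only [mul_assoc]

end signs

omit [DecidableEq E] in
theorem two_mul_card {A B : Subgroup E} (h : A < B) : 2 * Nat.card A ≤ Nat.card B := by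
  obtain ⟨k, hk⟩ := Subgroup.card_dvd_of_le h.le
  have hA : 0 < Nat.card A := Nat.card_pos
  have hk0 : k ≠ 0 := by
    rintro rfl
    rw [mul_zero] at hk
    have : 0 < Nat.card B := Nat.card_pos
    omega
  have hk1 : k ≠ 1 := by
    rintro rfl
    rw [mul_one] at hk
    exact h.ne (Subgroup.eq_of_le_of_card_ge h.le hk.le)
  rw [hk, mul_comm]
  exact Nat.mul_le_mul_left _ (by omega)

omit [DecidableEq E] in
/-- one step of the chain -/
theorem step {K : Subgroup E} {c t : E} (hK : K ≤ Subgroup.centralizer {c}) (ht : ¬ c * t = t * c) :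
    2 * Nat.card K ≤ Nat.card (K ⊔ Subgroup.zpowers t : Subgroup E) := by
  refine two_mul_card (lt_of_le_of_ne le_sup_left fun e => ht ?_)
  have h1 : t ∈ K := by
    rw [e]
    exact (le_sup_right : Subgroup.zpowers t ≤ _) (Subgroup.mem_zpowers t)
  exact (Subgroup.mem_centralizer_singleton_iff.1 (hK h1)).symm

omit [Fintype E] [DecidableEq E] in
theorem mem_cent {c t : E} (h : c * t = t * c) : Subgroup.zpowers t ≤ Subgroup.centralizer {c} := by
  rw [Subgroup.zpowers_le]
  exact Subgroup.mem_centralizer_singleton_iff.2 h.symm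

theorem ES.closure_eq (h : ES z) {t : Fin 5 → E} (ht : Fam z t) : Subgroup.closure (Set.range t) = ⊤ := by
  have an : ∀ i j, i ≠ j → t i * t j = z * (t j * t i) := fun i j => h.anti ht
  have nan : ∀ {a b : E}, a * b = z * (b * a) → ¬ a * b = b * a := fun e e' => by
    rw [e'] at e
    exact h.ne_z _ e.symm
  -- the chain
  set K1 : Subgroup E := Subgroup.zpowers z with hK1
  set K2 : Subgroup E := K1 ⊔ Subgroup.zpowers (t 0) with hK2
  set K3 : Subgroup E := K2 ⊔ Subgroup.zpowers (t 1) with hK3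
  set K4 : Subgroup E := K3 ⊔ Subgroup.zpowers (t 2) with hK4
  set K5 : Subgroup E := K4 ⊔ Subgroup.zpowers (t 3) with hK5
  have c1 : 2 ≤ Nat.card K1 := by
    have h0 : Nat.card K1 ≠ 1 := by
      intro e
      have h1 : z ∈ (⊥ : Subgroup E) := by
        rw [← Subgroup.card_eq_one.1 e]
        exact Subgroup.mem_zpowers z
      exact h.z1 (Subgroup.mem_bot.1 h1)
    have : 0 < Nat.card K1 := Nat.card_pos
    omega
  have z_cent : ∀ c, K1 ≤ Subgroup.centralizer {c} := fun c => mem_cent (h.zc c).symm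
  have c2 : 2 * Nat.card K1 ≤ Nat.card K2 :=
    step (c := t 1) (z_cent _) (nan (an 1 0 (by decide)))
  have c3 : 2 * Nat.card K2 ≤ Nat.card K3 :=
    step (c := t 0) (sup_le (z_cent _) (mem_cent rfl)) (nan (an 0 1 (by decide)))
  have c4 : 2 * Nat.card K3 ≤ Nat.card K4 := by
    have a0 : t 0 * (t 2 * t 3) = t 2 * t 3 * t 0 := h.an_an (an 0 2 (by decide)) (an 0 3 (by decide))
    have a1 : t 1 * (t 2 * t 3) = t 2 * t 3 * t 1 := h.an_an (an 1 2 (by decide)) (an 1 3 (by decide))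
    have a2 : t 2 * (t 2 * t 3) = z * (t 2 * t 3 * t 2) := h.co_an rfl (an 2 3 (by decide))
    refine step (c := t 2 * t 3) (sup_le (sup_le (z_cent _) (mem_cent a0.symm)) (mem_cent a1.symm)) ?_
    exact fun e => nan a2 e.symm
  have c5 : 2 * Nat.card K4 ≤ Nat.card K5 := by
    have a0 : t 0 * (t 0 * t 1 * t 2) = t 0 * t 1 * t 2 * t 0 :=
      h.an_an (h.co_an rfl (an 0 1 (by decide))) (an 0 2 (by decide))
    have a1 : t 1 * (t 0 * t 1 * t 2) = t 0 * t 1 * t 2 * t 1 :=
      h.an_an (h.an_co (an 1 0 (by decide)) rfl) (an 1 2 (by decide))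
    have a2 : t 2 * (t 0 * t 1 * t 2) = t 0 * t 1 * t 2 * t 2 :=
      co_co (h.an_an (an 2 0 (by decide)) (an 2 1 (by decide))) rfl
    have a3 : t 3 * (t 0 * t 1 * t 2) = z * (t 0 * t 1 * t 2 * t 3) :=
      h.co_an (h.an_an (an 3 0 (by decide)) (an 3 1 (by decide))) (an 3 2 (by decide))
    refine step (c := t 0 * t 1 * t 2) (sup_le (sup_le (sup_le (z_cent _) (mem_cent a0.symm)) (mem_cent a1.symm))
      (mem_cent a2.symm)) ?_
    exact fun e => nan a3 e.symm
  set H : Subgroup E := Subgroup.closure (Set.range t) with hH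
  have hm : ∀ i, t i ∈ H := fun i => Subgroup.subset_closure ⟨i, rfl⟩
  have hz : z ∈ H := by
    have h1 : z = t 0 * t 1 * (t 0 * t 1) := by
      calc z = z * (t 1 * t 1) := by rw [(ht.inv 1).1, mul_one]
        _ = z * (t 1 * (t 0 * t 0) * t 1) := by rw [(ht.inv 0).1, mul_one]
        _ = z * (t 1 * t 0) * (t 0 * t 1) := by simp only [mul_assoc]
        _ = t 0 * t 1 * (t 0 * t 1) := by rw [← an 0 1 (by decide)]
    rw [h1]
    exact H.mul_mem (H.mul_mem (hm 0) (hm 1)) (H.mul_mem (hm 0) (hm 1))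
  have hle : K5 ≤ H := by
    refine sup_le (sup_le (sup_le (sup_le ?_ ?_) ?_) ?_) ?_
    · exact (Subgroup.zpowers_le).2 hz
    · exact (Subgroup.zpowers_le).2 (hm 0)
    · exact (Subgroup.zpowers_le).2 (hm 1)
    · exact (Subgroup.zpowers_le).2 (hm 2)
    · exact (Subgroup.zpowers_le).2 (hm 3)
  have hE : Nat.card E = 32 := by rw [Nat.card_eq_fintype_card, h.card]
  have h5 : Nat.card K5 ≤ Nat.card H := Nat.le_of_dvd Nat.card_pos (Subgroup.card_dvd_of_le hle)
  refine Subgroup.eq_top_of_le_card H ?_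
  omega

theorem ES.prod (h : ES z) {t : Fin 5 → E} (ht : Fam z t) :
    t 0 * t 1 * t 2 * t 3 * t 4 = 1 ∨ t 0 * t 1 * t 2 * t 3 * t 4 = z := by
  have an : ∀ i j, i ≠ j → t i * t j = z * (t j * t i) := fun i j => h.anti ht
  refine h.cen _ fun y => ?_
  have hy : y ∈ Subgroup.closure (Set.range t) := by rw [h.closure_eq ht]; exact Subgroup.mem_top y
  have hle : Subgroup.closure (Set.range t) ≤ Subgroup.centralizer {t 0 * t 1 * t 2 * t 3 * t 4} := by
    rw [Subgroup.closure_le]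
    rintro _ ⟨i, rfl⟩
    refine Subgroup.mem_centralizer_singleton_iff.2 ?_
    fin_cases i
    · exact h.an_an (h.co_an (h.an_an (h.co_an rfl (an 0 1 (by decide))) (an 0 2 (by decide))) (an 0 3 (by decide)))
        (an 0 4 (by decide))
    · exact h.an_an (h.co_an (h.an_an (h.an_co (an 1 0 (by decide)) rfl) (an 1 2 (by decide))) (an 1 3 (by decide)))
        (an 1 4 (by decide))
    · exact h.an_an (h.co_an (co_co (h.an_an (an 2 0 (by decide)) (an 2 1 (by decide))) rfl) (an 2 3 (by decide)))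
        (an 2 4 (by decide))
    · exact h.an_an (h.an_co (h.co_an (h.an_an (an 3 0 (by decide)) (an 3 1 (by decide))) (an 3 2 (by decide))) rfl)
        (an 3 4 (by decide))
    · exact co_co (h.an_an (h.co_an (h.an_an (an 4 0 (by decide)) (an 4 1 (by decide))) (an 4 2 (by decide)))
        (an 4 3 (by decide))) rfl
  exact (Subgroup.mem_centralizer_singleton_iff.1 (hle hy)).symm

end abstract

section concrete

open Cfsg.Agent.H662.HT

universe u

variable {p : ℕ} [Fact p.Prime] {M : Type u} [AddCommGroup M] [Module (ZMod p) M] [Finite M]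

/-- **B1** -/
theorem exists_frame (_hp : 3 ≤ p) {E : Subgroup (M ≃ₗ[ZMod p] M)} (H : Sym 2 2 E M)
    (hz : Nat.card (Subgroup.center E) = 2) (hσ : Nat.card (sol 2 (⊥ : Subgroup E)) = 12) :
    ∃ t : Fin 5 → (M ≃ₗ[ZMod p] M), Frame5 t ∧ (∀ k, t k ∈ E) ∧ E = Subgroup.closure (Set.range t) ∧
      ∀ x ∈ E, x * x = 1 → (∀ v : M, x v = v) ∨ (∀ v : M, x v = -v) ∨ ∃ k, x = t k ∨ ∀ v : M, x v = -(t k v) := by
  classical
  have := H.fin
  let _ : Fintype E := Fintype.ofFinite E
  obtain ⟨z0, hz0, hz1⟩ := (Nat.card_eq_two_iff' (1 : Subgroup.center E)).1 hz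
  obtain ⟨z, hzc⟩ := z0
  have z1 : z ≠ 1 := fun e => hz0 (Subtype.ext e)
  have cen : ∀ x ∈ Subgroup.center E, x = 1 ∨ x = z := by
    intro x hx
    by_cases h1 : x = 1
    · exact Or.inl h1
    · right
      have h2 := hz1 ⟨x, hx⟩ fun e => h1 (congrArg Subtype.val e)
      exact congrArg Subtype.val h2
  have zc : ∀ x : E, z * x = x * z := fun x => (Subgroup.mem_center_iff.1 hzc x).symm
  have zz : z * z = 1 := by
    rcases cen (z * z) ((Subgroup.center E).mul_mem hzc hzc) with h | h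
    · exact h
    · exact absurd (mul_eq_left.1 h) z1
  have hES : ES z := by
    refine ⟨z1, zc, zz, ?_, ?_, ?_, ?_, ?_⟩
    · intro x hx
      exact cen x (Subgroup.mem_center_iff.2 fun y => (hx y).symm)
    · intro x y
      rcases cen _ (H.comm x y) with h | h
      · exact Or.inl (commutatorElement_eq_one_iff_mul_comm.1 h)
      · right
        rw [commutatorElement_def] at h
        rw [← h]
        group
    · rw [← Nat.card_eq_fintype_card, H.card, hz]
      norm_num
    · rw [← hσ]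
      have h1 : sol 2 (⊥ : Subgroup E) = ((univ.filter (fun x : E => x * x = 1) : Finset E) : Set E) := by
        ext x
        simp only [sol, Set.mem_ofPred_eq, coe_filter, mem_univ, true_and, pow_two]
        constructor
        · exact fun h => h.2
        · refine fun h => ⟨?_, h⟩
          rw [Subgroup.mem_centralizer_iff]
          intro y hy
          rw [SetLike.mem_coe, Subgroup.mem_bot] at hy
          rw [hy, one_mul, mul_one]
      rw [h1, Nat.card_coe_set_eq, Set.ncard_coe_finset]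
    · intro x
      have h := cen _ (H.exp x)
      rwa [pow_two] at h
  have zneg : ∀ v : M, (z : M ≃ₗ[ZMod p] M) v = -v := by
    intro v
    have h1 : z • z • v = v := by rw [← mul_smul, zz, one_smul]
    have h2 : z • (v + z • v) = v + z • v := by
      rw [smul_add, h1, add_comm]
    have h3 := H.semi z hzc z1 _ h2
    exact (neg_eq_of_add_eq_zero_right h3).symm
  obtain ⟨t, ht⟩ := hES.exists_fam 5 le_rfl
  have hmul : ∀ x : E, ∀ v : M, ((z * x : E) : M ≃ₗ[ZMod p] M) v = -((x : M ≃ₗ[ZMod p] M) v) := by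
    intro x v
    exact zneg _
  refine ⟨fun k => (t k : M ≃ₗ[ZMod p] M), ⟨?_, ?_, ?_⟩, fun k => (t k).2, ?_, ?_⟩
  · intro k
    exact congrArg Subtype.val (ht.inv k).1
  · intro j k hjk v
    have h1 := congrArg Subtype.val (hES.anti ht hjk)
    have h2 : ((t j : M ≃ₗ[ZMod p] M) * (t k : M ≃ₗ[ZMod p] M)) v = ((z * (t k * t j) : E) : M ≃ₗ[ZMod p] M) v :=
      congrArg (fun f : M ≃ₗ[ZMod p] M => f v) h1
    rw [h2, hmul]
    rfl
  · rcases hES.prod ht with h | h
    · left
      intro v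
      exact congrArg (fun f : M ≃ₗ[ZMod p] M => f v) (congrArg Subtype.val h)
    · right
      intro v
      rw [← zneg v]
      exact congrArg (fun f : M ≃ₗ[ZMod p] M => f v) (congrArg Subtype.val h)
  · have h1 := congrArg (Subgroup.map E.subtype) (hES.closure_eq ht)
    rw [MonoidHom.map_closure, ← MonoidHom.range_eq_map, Subgroup.range_subtype, ← Set.range_comp] at h1
    exact h1.symm
  · intro x hx hxx
    by_cases h1 : (⟨x, hx⟩ : E) = 1
    · left
      intro v
      have h2 : x = 1 := congrArg Subtype.val h1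
      rw [h2]
      rfl
    by_cases h2 : (⟨x, hx⟩ : E) = z
    · right; left
      intro v
      have h3 : x = z := congrArg Subtype.val h2
      rw [h3]
      exact zneg v
    right; right
    obtain ⟨k, hk⟩ := hES.all ht (x := ⟨x, hx⟩) ⟨Subtype.ext hxx, h1, h2⟩
    refine ⟨k, hk.imp (fun e => congrArg Subtype.val e) fun e v => ?_⟩
    have h3 : x = ((z * t k : E) : M ≃ₗ[ZMod p] M) := congrArg Subtype.val e
    rw [h3, hmul]

end concrete

end Cfsg.Agent.H669.HT
end

private theorem dce_3cd930fab7cc : _root_.True := by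
  try have : _root_.True := by simp only [_root_.Cfsg.Agent.H662.HT.sol.eq_1]
  try have : _root_.True := by simp only [_root_.Cfsg.Agent.H486.HT.TS.eq_1]
  try have : _root_.True := by simp only [_root_.Cfsg.Agent.H486.HT.X.eq_1]
  exact _root_.True.intro
end

-- part: H662/HT/Leaf
section
prune_inst 0xf1100301364010000004000040001ef793000100004800002824040405831e6280002820e22009060222000400300018131004300200000000000000013d068980281002a1490108800001000086400000000000000000000000000000041000200400000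
set_option linter.all false
open scoped Cfsg.Agent.FastGrp

-- part: H486/HT/Seven
section
/-!
# S3540 / S3577, task C3a (helper486): frames of five anticommuting involutions in dimension 4 over `F_7`

`seven_unique`, `seven_type`.
-/

set_option autoImplicit false

open scoped commutatorElement
open Finset

namespace Cfsg.Agent.H486.HT

open Cfsg.Agent.H662.HT Cfsg.Agent.H828.HT

universe u v

/-! ### the product relation -/

section prod

variable {p : ℕ} {M : Type u} [AddCommGroup M] [Module (ZMod p) M]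

/-- a frame, in terms of linear maps -/
structure Fr (T : Fin 5 → (M →ₗ[ZMod p] M)) : Prop where
  sq : ∀ k v, T k (T k v) = v
  anti : ∀ j k, j ≠ k → ∀ v, T j (T k v) = -T k (T j v)
  prod : (∀ v, T 0 (T 1 (T 2 (T 3 (T 4 v)))) = v) ∨ (∀ v, T 0 (T 1 (T 2 (T 3 (T 4 v)))) = -v)

/-- the product relation for the ordering `f` -/
def Pr (T : Fin 5 → (M →ₗ[ZMod p] M)) (f : Fin 5 → Fin 5) : Prop :=
  (∀ v, T (f 0) (T (f 1) (T (f 2) (T (f 3) (T (f 4) v)))) = v) ∨
    (∀ v, T (f 0) (T (f 1) (T (f 2) (T (f 3) (T (f 4) v)))) = -v)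

variable {T : Fin 5 → (M →ₗ[ZMod p] M)}

theorem pr_swap (h : Fr T) {f : Fin 5 → Fin 5} (hf : Function.Injective f) (hP : Pr T f) (i : Fin 4) :
    Pr T (f ∘ Equiv.swap i.castSucc i.succ) := by
  have key : ∀ j k : Fin 5, j ≠ k → ∀ v, T (f j) (T (f k) v) = -T (f k) (T (f j) v) :=
    fun j k hjk => h.anti _ _ (fun h => hjk (hf h))
  fin_cases i
  · change (∀ v, T (f 1) (T (f 0) (T (f 2) (T (f 3) (T (f 4) v)))) = v) ∨
      (∀ v, T (f 1) (T (f 0) (T (f 2) (T (f 3) (T (f 4) v)))) = -v)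
    rcases hP with h1 | h1
    · right; intro v; rw [key 1 0 (by decide), h1]
    · left; intro v; rw [key 1 0 (by decide), h1, neg_neg]
  · change (∀ v, T (f 0) (T (f 2) (T (f 1) (T (f 3) (T (f 4) v)))) = v) ∨
      (∀ v, T (f 0) (T (f 2) (T (f 1) (T (f 3) (T (f 4) v)))) = -v)
    rcases hP with h1 | h1
    · right; intro v; rw [key 2 1 (by decide), map_neg, h1]
    · left; intro v; rw [key 2 1 (by decide), map_neg, h1, neg_neg]
  · change (∀ v, T (f 0) (T (f 1) (T (f 3) (T (f 2) (T (f 4) v)))) = v) ∨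
      (∀ v, T (f 0) (T (f 1) (T (f 3) (T (f 2) (T (f 4) v)))) = -v)
    rcases hP with h1 | h1
    · right; intro v; rw [key 3 2 (by decide), map_neg, map_neg, h1]
    · left; intro v; rw [key 3 2 (by decide), map_neg, map_neg, h1, neg_neg]
  · change (∀ v, T (f 0) (T (f 1) (T (f 2) (T (f 4) (T (f 3) v)))) = v) ∨
      (∀ v, T (f 0) (T (f 1) (T (f 2) (T (f 4) (T (f 3) v)))) = -v)
    rcases hP with h1 | h1
    · right; intro v; rw [key 4 3 (by decide), map_neg, map_neg, map_neg, h1]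
    · left; intro v; rw [key 4 3 (by decide), map_neg, map_neg, map_neg, h1, neg_neg]

theorem prod_perm (h : Fr T) (τ : Equiv.Perm (Fin 5)) : Pr T τ := by
  have h1 : τ ∈ Submonoid.closure (Set.range fun i : Fin 4 => Equiv.swap i.castSucc i.succ) := by
    rw [Equiv.Perm.mclosure_swap_castSucc_succ]; trivial
  induction h1 using Submonoid.closure_induction_right with
  | one => exact h.prod
  | mul_right x hx y hy ih =>
    obtain ⟨i, rfl⟩ := hy
    exact pr_swap h x.injective ih i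

theorem inj_of {a b c d e : Fin 5} (hn : [a, b, c, d, e].Nodup) : Function.Injective ![a, b, c, d, e] :=
  List.nodup_ofFn.1 (by simpa only [_root_.Nat.succ_eq_add_one, _root_.zero_add, _root_.Nat.reduceAdd, _root_.List.ofFn_succ, _root_.Fin.isValue, _root_.Fin.cast_eq_self, _root_.Matrix.cons_val_zero, _root_.Matrix.cons_val_succ, _root_.Matrix.cons_val_fin_one, _root_.List.ofFn_zero, _root_.List.nodup_cons, _root_.List.mem_cons, _root_.List.not_mem_nil, _root_.or_false, _root_.not_or, _root_.not_false_eq_true, _root_.List.nodup_nil, _root_.and_self, _root_.and_true] using hn)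

theorem exh {a b c d e : Fin 5} (hn : [a, b, c, d, e].Nodup) (i : Fin 5) :
    i = a ∨ i = b ∨ i = c ∨ i = d ∨ i = e := by
  obtain ⟨j, rfl⟩ := (Finite.injective_iff_surjective.1 (inj_of hn)) i
  fin_cases j <;> simp

theorem prod' (h : Fr T) {a b c d e : Fin 5} (hn : [a, b, c, d, e].Nodup) :
    ∃ η : ZMod p, η * η = 1 ∧ ∀ v, T a (T b (T c (T d (T e v)))) = η • v := by
  rcases prod_perm h (Equiv.ofBijective _ (Finite.injective_iff_bijective.1 (inj_of hn))) with h1 | h1
  · exact ⟨1, by ring, fun v => by rw [one_smul]; exact h1 v⟩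
  · exact ⟨-1, by ring, fun v => by rw [neg_smul, one_smul]; exact h1 v⟩

theorem exists_compl : ∀ a b k : Fin 5, a ≠ b → a ≠ k → b ≠ k → ∃ c d : Fin 5, [a, b, c, d, k].Nodup := by
  decide +kernel

end prod

theorem four_two : (4 * 2 : ZMod 7) = 1 := by decide

theorem no_sqrt : ∀ c : ZMod 7, c * c ≠ -1 := by decide

theorem no_sqrt2 : ∀ c e : ZMod 7, e * e = 1 → (e * c) * (e * c) + c * c ≠ -1 := by decide

theorem sign : ∀ e : ZMod 7, e * e = 1 → e = 1 ∨ e = -1 := by decide

section seven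

variable {M : Type u} [AddCommGroup M] [Fact (Nat.Prime 7)] [Module (ZMod 7) M]

theorem eq_zero_of_neg {v : M} (h : v = -v) : v = 0 := by
  have h1 : (2 : ZMod 7) • v = 0 := by
    rw [two_smul]
    nth_rewrite 1 [h]
    rw [neg_add_cancel]
  have h2 : (4 : ZMod 7) • ((2 : ZMod 7) • v) = v := by
    rw [smul_smul]
    rw [four_two, one_smul]
  rw [← h2, h1, smul_zero]

theorem half_half (v : M) : (4 : ZMod 7) • (v + v) = v := by
  rw [← two_smul (ZMod 7), smul_smul]
  rw [four_two, one_smul]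

/-- the fixed space of an involution `S` in a frame is spanned by `v` and `X v` -/
theorem span_of [Finite M] (hM : Nat.card M = 7 ^ 4) {S A X : M →ₗ[ZMod 7] M} (hS : ∀ v, S (S v) = v)
    (hA : ∀ v, A (A v) = v) (hAS : ∀ v, S (A v) = -A (S v)) (hX : ∀ v, X (X v) = -v)
    (hXS : ∀ v, X (S v) = S (X v)) {v : M} (hv : v ≠ 0) (hSv : S v = v) {u : M} (hu : S u = u) :
    ∃ α β : ZMod 7, u = α • v + β • X v := by
  let U : Submodule (ZMod 7) M := LinearMap.ker (S - LinearMap.id)
  have hU : ∀ w, w ∈ U ↔ S w = w := by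
    intro w
    simp [U, sub_eq_zero]
  -- the order of `U`
  have hcard : Nat.card U = 49 := by
    let f : U × U → M := fun x => (x.1 : M) + A (x.2 : M)
    have hinj : Function.Injective f := by
      rintro ⟨⟨a, ha⟩, ⟨b, hb⟩⟩ ⟨⟨c, hc⟩, ⟨d, hd⟩⟩ h
      rw [hU] at ha hb hc hd
      change a + A b = c + A d at h
      have h1 : S (a + A b) = S (c + A d) := by rw [h]
      rw [map_add, map_add, hAS, hAS, ha, hb, hc, hd] at h1
      have h2 : a + a = c + c := by
        have := congrArg₂ (· + ·) h h1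
        calc a + a = (a + A b) + (a + -A b) := by abel
          _ = (c + A d) + (c + -A d) := this
          _ = c + c := by abel
      have h3 : a = c := by rw [← half_half a, h2, half_half]
      subst h3
      have h4 : A b = A d := add_left_cancel h
      have h5 : b = d := by rw [← hA b, h4, hA]
      subst h5
      rfl
    have hsurj : Function.Surjective f := by
      intro w
      refine ⟨⟨⟨(4 : ZMod 7) • (w + S w), ?_⟩, ⟨(4 : ZMod 7) • A (w - S w), ?_⟩⟩, ?_⟩
      · rw [hU, map_smul, map_add, hS, add_comm]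
      · rw [hU, map_smul, hAS, map_sub, hS, ← map_neg, neg_sub]
      · change (4 : ZMod 7) • (w + S w) + A ((4 : ZMod 7) • A (w - S w)) = w
        rw [map_smul, hA, ← smul_add]
        have : w + S w + (w - S w) = w + w := by abel
        rw [this, half_half]
    have h1 := Nat.card_congr (Equiv.ofBijective f ⟨hinj, hsurj⟩)
    rw [Nat.card_prod, hM] at h1
    have h2 : Nat.card U * Nat.card U = 49 * 49 := by rw [h1]; norm_num
    exact Nat.mul_self_inj.1 h2
  have hXv : ∀ c : ZMod 7, X v ≠ c • v := by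
    intro c hc
    have h1 := hX v
    rw [hc, map_smul, hc, smul_smul] at h1
    have h2 : (c * c + 1) • v = 0 := by rw [add_smul, h1, one_smul, neg_add_cancel]
    rcases smul_eq_zero.1 h2 with h3 | h3
    · exact no_sqrt c (eq_neg_of_add_eq_zero_left h3)
    · exact hv h3
  let g : ZMod 7 × ZMod 7 → U := fun x => ⟨x.1 • v + x.2 • X v, by
    rw [hU, map_add, map_smul, map_smul, hSv, ← hXS, hSv]⟩
  have hg : Function.Injective g := by
    rintro ⟨a, b⟩ ⟨c, d⟩ h
    have h1 : a • v + b • X v = c • v + d • X v := congrArg Subtype.val h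
    have h2 : (b - d) • X v = (c - a) • v := by
      rw [sub_smul, sub_smul, sub_eq_sub_iff_add_eq_add, add_comm, h1, add_comm]
    by_cases hbd : b - d = 0
    · rw [hbd, zero_smul] at h2
      rcases smul_eq_zero.1 h2.symm with h3 | h3
      · rw [Prod.mk.injEq]
        exact ⟨(sub_eq_zero.1 h3).symm, sub_eq_zero.1 hbd⟩
      · exact absurd h3 hv
    · exfalso
      refine hXv ((b - d)⁻¹ * (c - a)) ?_
      rw [mul_smul, ← h2, smul_smul, inv_mul_cancel₀ hbd, one_smul]
  have hg2 : Function.Bijective g := by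
    refine (Nat.bijective_iff_injective_and_card g).2 ⟨hg, ?_⟩
    rw [hcard, Nat.card_prod, Nat.card_zmod]
  obtain ⟨⟨a, b⟩, hab⟩ := hg2.2 ⟨u, (hU u).2 hu⟩
  exact ⟨a, b, (congrArg Subtype.val hab).symm⟩

/-- `Y` permutes the `± T k` -/
structure Nm (T : Fin 5 → (M →ₗ[ZMod 7] M)) (Y : M →ₗ[ZMod 7] M) (σ : Fin 5 → Fin 5) (ε : Fin 5 → ZMod 7) : Prop where
  sq : ∀ v, Y (Y v) = v
  sgn : ∀ k, ε k * ε k = 1
  perm : ∀ k v, Y (T k v) = ε k • T (σ k) (Y v)

variable {T : Fin 5 → (M →ₗ[ZMod 7] M)} {Y : M →ₗ[ZMod 7] M} {σ : Fin 5 → Fin 5} {ε : Fin 5 → ZMod 7}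

theorem eq_one_of_smul {c : ZMod 7} {v : M} (hv : v ≠ 0) (h : v = c • v) : c = 1 := by
  have h1 : (c - 1) • v = 0 := by rw [sub_smul, one_smul, ← h, sub_self]
  rcases smul_eq_zero.1 h1 with h2 | h2
  · exact sub_eq_zero.1 h2
  · exact absurd h2 hv

theorem Nm.invol (hF : Fr T) (hY : Nm T Y σ ε) {v : M} (hv : v ≠ 0) (k : Fin 5) :
    σ (σ k) = k ∧ ε k * ε (σ k) = 1 := by
  have h1 : ∀ w, T k w = (ε k * ε (σ k)) • T (σ (σ k)) w := by
    intro w
    have h2 := hY.sq (T k w)
    rw [hY.perm, map_smul, hY.perm, hY.sq, smul_smul] at h2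
    exact h2.symm
  have hc : (ε k * ε (σ k)) * (ε k * ε (σ k)) = 1 := by
    have h3 := hY.sgn k
    have h4 := hY.sgn (σ k)
    linear_combination h3 * (ε (σ k) * ε (σ k)) + h4
  have h2 : σ (σ k) = k := by
    by_contra hne
    have h3 := hF.anti _ _ hne v
    rw [h1 v, map_smul, hF.sq] at h3
    have h4 : T k (T (σ (σ k)) v) = (ε k * ε (σ k)) • v := by
      rw [h1, hF.sq]
    rw [h4] at h3
    have h5 := eq_zero_of_neg h3
    have h6 : v = 0 := by
      rw [← one_smul (ZMod 7) v, ← hc, mul_smul, h5, smul_zero]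
    exact hv h6
  refine ⟨h2, ?_⟩
  have h3 := h1 (T k v)
  rw [h2, hF.sq] at h3
  exact eq_one_of_smul hv h3

/-- case A: `Y` is trivial on the fixed space of `δ T k` -/
theorem caseA (hF : Fr T) (hY : Nm T Y σ ε) {k : Fin 5} {δ : ZMod 7} (hδ : δ * δ = 1) {v : M} (hv : v ≠ 0)
    (hTv : T k v = δ • v) (hfix : ∀ u, T k u = δ • u → Y u = u) (hY1 : ∃ w, Y w ≠ w)
    (hσk : σ k = k) : ∀ w, Y w = δ • T k w := by
  obtain ⟨a, hak⟩ : ∃ a : Fin 5, a ≠ k := exists_ne k
  have hinv := hY.invol hF hv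
  have hσa : σ a = a := by
    by_contra hb
    have hbk : σ a ≠ k := by
      intro h
      have := (hinv a).1
      rw [h, hσk] at this
      exact hak this.symm
    -- `T a T b v` is in the fixed space
    have h1 : T k (T a (T (σ a) v)) = δ • T a (T (σ a) v) := by
      rw [hF.anti k a (Ne.symm hak), hF.anti k (σ a) (Ne.symm hbk), map_neg, neg_neg, hTv, map_smul, map_smul]
    have h2 := hfix _ h1
    rw [hY.perm, hY.perm, (hinv a).1, hfix v hTv, map_smul, smul_smul, (hinv a).2, one_smul,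
      hF.anti (σ a) a hb] at h2
    have h3 : T a (T (σ a) v) = 0 := eq_zero_of_neg h2.symm
    have h4 : v = 0 := by
      rw [← hF.sq (σ a) v, ← hF.sq a (T (σ a) v), h3, map_zero, map_zero]
    exact hv h4
  have hperm : ∀ w, Y (T a w) = ε a • T a (Y w) := by
    intro w; rw [hY.perm, hσa]
  -- decomposition
  have hdec : ∀ w, ∃ u u', T k u = δ • u ∧ T k u' = δ • u' ∧ w = u + T a u' := by
    intro w
    refine ⟨(4 : ZMod 7) • (w + δ • T k w), T a ((4 : ZMod 7) • (w - δ • T k w)), ?_, ?_, ?_⟩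
    · rw [map_smul, map_add, map_smul, hF.sq, smul_comm δ (4 : ZMod 7), smul_add δ, smul_smul, hδ, one_smul, add_comm]
    · have e1 : T k ((4 : ZMod 7) • (w - δ • T k w)) = -(δ • ((4 : ZMod 7) • (w - δ • T k w))) := by
        rw [map_smul, map_sub, map_smul, hF.sq, smul_comm δ (4 : ZMod 7), smul_sub δ, smul_smul δ δ, hδ, one_smul,
          ← smul_neg, neg_sub]
      rw [hF.anti k a (Ne.symm hak), e1, map_neg, neg_neg, map_smul]
    · rw [hF.sq, ← smul_add]
      have : w + δ • T k w + (w - δ • T k w) = w + w := by abel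
      rw [this, half_half]
  rcases sign _ (hY.sgn a) with h | h
  · exfalso
    obtain ⟨w, hw⟩ := hY1
    obtain ⟨u, u', hu, hu', rfl⟩ := hdec w
    apply hw
    rw [map_add, hperm, hfix u hu, hfix u' hu', h, one_smul]
  · intro w
    obtain ⟨u, u', hu, hu', rfl⟩ := hdec w
    rw [map_add, hperm, hfix u hu, hfix u' hu', h, map_add, hF.anti k a (Ne.symm hak), hu, hu', smul_add, smul_smul,
      hδ, one_smul, map_smul, ← smul_neg, smul_smul, hδ, one_smul, neg_smul, one_smul]

theorem span' [Finite M] (hM : Nat.card M = 7 ^ 4) (hF : Fr T) {k : Fin 5} {δ : ZMod 7} (hδ : δ * δ = 1)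
    {X : M →ₗ[ZMod 7] M} (hX : ∀ v, X (X v) = -v) (hXT : ∀ v, X (T k v) = T k (X v)) {v : M} (hv : v ≠ 0)
    (hTv : T k v = δ • v) {u : M} (hu : T k u = δ • u) : ∃ α β : ZMod 7, u = α • v + β • X v := by
  obtain ⟨a, hak⟩ : ∃ a : Fin 5, a ≠ k := exists_ne k
  have hS : ∀ w, (δ • T k) w = δ • T k w := fun w => rfl
  refine span_of hM (S := δ • T k) (A := T a) (X := X) ?_ (hF.sq a) ?_ hX ?_ hv ?_ ?_
  · intro w
    rw [hS, hS, map_smul, hF.sq, smul_smul, hδ, one_smul]
  · intro w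
    rw [hS, hS, hF.anti k a (Ne.symm hak), map_smul, smul_neg]
  · intro w
    rw [hS, hS, map_smul, hXT]
  · rw [hS, hTv, smul_smul, hδ, one_smul]
  · rw [hS, hu, smul_smul, hδ, one_smul]

theorem comp_sq (hF : Fr T) {j l : Fin 5} (hjl : j ≠ l) (w : M) : (T j ∘ₗ T l) ((T j ∘ₗ T l) w) = -w := by
  change T j (T l (T j (T l w))) = -w
  rw [hF.anti l j (Ne.symm hjl), map_neg, hF.sq, hF.sq]

theorem comp_comm (hF : Fr T) {j l k : Fin 5} (hj : j ≠ k) (hl : l ≠ k) (w : M) :
    (T j ∘ₗ T l) (T k w) = T k ((T j ∘ₗ T l) w) := by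
  change T j (T l (T k w)) = T k (T j (T l w))
  rw [hF.anti l k hl, map_neg, hF.anti j k hj, neg_neg]

omit [Fact (Nat.Prime 7)] in
theorem exists_two : ∀ k : Fin 5, ∃ a b : Fin 5, a ≠ k ∧ b ≠ k ∧ a ≠ b := by decide

/-- case B is impossible -/
theorem caseB [Finite M] (hM : Nat.card M = 7 ^ 4) (hF : Fr T) (hY : Nm T Y σ ε) {k : Fin 5} {δ : ZMod 7}
    (hδ : δ * δ = 1) {v : M} (hv : v ≠ 0) (hTv : T k v = δ • v) (hYv : Y v = v) (hσk : σ k = k) :
    ∀ u, T k u = δ • u → Y u = u := by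
  by_contra hnf
  push Not at hnf
  have hinv := hY.invol hF hv
  have key : ∀ X : M →ₗ[ZMod 7] M, (∀ v, X (X v) = -v) → (∀ v, X (T k v) = T k (X v)) → Y (X v) ≠ X v := by
    intro X hX hXT hc
    obtain ⟨u, hu, hne⟩ := hnf
    obtain ⟨α, β, rfl⟩ := span' hM hF hδ hX hXT hv hTv hu
    apply hne; rw [map_add, map_smul, map_smul, hYv, hc]
  obtain ⟨a, b, hak, hbk, hab, hσ⟩ : ∃ a b : Fin 5, a ≠ k ∧ b ≠ k ∧ a ≠ b ∧
      ((σ a = a ∧ σ b = b) ∨ (σ a = b ∧ σ b = a)) := by
    by_cases h : ∀ i, σ i = i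
    · obtain ⟨a, b, h1, h2, h3⟩ := exists_two k
      exact ⟨a, b, h1, h2, h3, Or.inl ⟨h a, h b⟩⟩
    · push Not at h
      obtain ⟨a, ha⟩ := h
      refine ⟨a, σ a, ?_, ?_, Ne.symm ha, Or.inr ⟨rfl, (hinv a).1⟩⟩
      · rintro rfl
        exact ha hσk
      · intro h
        have h1 := (hinv a).1
        rw [h, hσk] at h1
        rw [← h1] at ha
        exact ha hσk
  obtain ⟨c, d, hn⟩ := exists_compl a b k hab hak hbk
  have hn' := hn
  simp only [List.nodup_cons, List.mem_cons, not_or, List.not_mem_nil, not_false_eq_true, List.nodup_nil,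
    and_true] at hn'
  obtain ⟨⟨-, hac, had, -⟩, ⟨hbc, hbd, -⟩, ⟨hcd, hck⟩, hdk⟩ := hn'
  have hJJ := comp_sq hF hab
  have hJT := fun w => comp_comm hF hak hbk w
  have hII := comp_sq hF hac
  have hIT := fun w => comp_comm hF hak hck w
  set J := T a ∘ₗ T b with hJ
  set I := T a ∘ₗ T c with hI
  have hJw : ∀ w, J w = T a (T b w) := fun w => rfl
  have hIw : ∀ w, I w = T a (T c w) := fun w => rfl
  have hJI : ∀ w, J (I w) = -T b (T c w) := by
    intro w
    rw [hJw, hIw, hF.anti b a (Ne.symm hab), map_neg, hF.sq]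
  have hIJ : ∀ w, I (J w) = -J (I w) := by
    intro w
    rw [hJI, hJw, hIw, hF.anti c a (Ne.symm hac), map_neg, hF.sq, hF.anti c b (Ne.symm hbc)]
  have hXX : ∀ w, (J ∘ₗ I) ((J ∘ₗ I) w) = -w := by
    intro w
    change J (I (J (I w))) = -w
    rw [hIJ, map_neg, hJJ, hII, neg_neg]
  have hXT : ∀ w, (J ∘ₗ I) (T k w) = T k ((J ∘ₗ I) w) := by
    intro w
    change J (I (T k w)) = T k (J (I w))
    rw [hIT, hJT]
  have hYJ : ∃ e : ZMod 7, e * e = 1 ∧ ∀ w, Y (J w) = e • J (Y w) := by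
    rcases hσ with ⟨h1, h2⟩ | ⟨h1, h2⟩
    · refine ⟨ε a * ε b, ?_, fun w => ?_⟩
      · linear_combination (hY.sgn a) * (ε b * ε b) + hY.sgn b
      · rw [hJw, hJw, hY.perm, hY.perm, map_smul, smul_smul, h1, h2]
    · refine ⟨-1, by ring, fun w => ?_⟩
      have h3 := (hinv a).2
      rw [h1] at h3
      rw [hJw, hJw, hY.perm, hY.perm, map_smul, smul_smul, h1, h2, h3, one_smul, hF.anti b a (Ne.symm hab), neg_smul,
        one_smul]
  obtain ⟨e, he, hYJ⟩ := hYJ
  rcases sign e he with rfl | rfl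
  · refine key J hJJ hJT ?_
    rw [hYJ, one_smul, hYv]
  have hYJ' : ∀ w, Y (J w) = -J (Y w) := by
    intro w; rw [hYJ, neg_smul, one_smul]
  -- the product relation
  obtain ⟨η, hη, hprod⟩ := prod' hF hn
  have hTd : ∃ e0 : ZMod 7, e0 * e0 = 1 ∧ T d v = e0 • T c (T b (T a v)) := by
    refine ⟨δ * η, ?_, ?_⟩
    · linear_combination hδ * (η * η) + hη
    · have h1 := hprod v
      rw [hTv] at h1
      simp only [map_smul] at h1
      have h2 : T d v = δ • δ • T c (T c (T b (T b (T a (T a (T d v)))))) := by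
        rw [hF.sq, hF.sq, hF.sq, smul_smul, hδ, one_smul]
      have h3 : δ • T a (T b (T c (T d v))) = η • v := h1
      have h4 : T a (T b (T c (T d v))) = (δ * η) • v := by
        rw [mul_smul, ← h3, smul_smul, hδ, one_smul]
      have h5 : T b (T c (T d v)) = (δ * η) • T a v := by
        rw [← map_smul, ← h4, hF.sq]
      have h6 : T c (T d v) = (δ * η) • T b (T a v) := by
        rw [← map_smul, ← h5, hF.sq]
      rw [← map_smul, ← h6, hF.sq]
  obtain ⟨e0, he0, hTd⟩ := hTd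
  have hσc : σ c = c ∨ σ c = d := by
    have h0 := (hinv c).1
    rcases exh hn (σ c) with h | h | h | h | h
    · exfalso
      rw [h] at h0
      rcases hσ with ⟨h1, h2⟩ | ⟨h1, h2⟩
      · exact hac (h1.symm.trans h0)
      · exact hbc (h1.symm.trans h0)
    · exfalso
      rw [h] at h0
      rcases hσ with ⟨h1, h2⟩ | ⟨h1, h2⟩
      · exact hbc (h2.symm.trans h0)
      · exact hac (h2.symm.trans h0)
    · exact Or.inl h
    · exact Or.inr h
    · exfalso
      rw [h, hσk] at h0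
      exact hck h0.symm
  have hYI : ∃ e : ZMod 7, e * e = 1 ∧ (Y (I v) = e • I v ∨ Y (I v) = e • J (I v)) := by
    have h0 : Y (I v) = (ε a * ε c) • T (σ a) (T (σ c) v) := by
      rw [hIw, hY.perm, hY.perm, map_smul, smul_smul, hYv]
    have h00 : (ε a * ε c) * (ε a * ε c) = 1 := by
      linear_combination (hY.sgn a) * (ε c * ε c) + hY.sgn c
    have hσa : σ a = a ∨ σ a = b := by
      rcases hσ with ⟨h1, -⟩ | ⟨h1, -⟩
      · exact Or.inl h1
      · exact Or.inr h1
    rcases hσa with h1 | h1 <;> rcases hσc with h2 | h2 <;> rw [h1, h2] at h0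
    · exact ⟨_, h00, Or.inl h0⟩
    · refine ⟨(ε a * ε c) * e0, by linear_combination h00 * (e0 * e0) + he0, Or.inr ?_⟩
      rw [h0, hTd, map_smul, hF.anti a c hac, hF.anti a b hab, map_neg, hF.sq, neg_neg, mul_smul _ e0, hJI,
        hF.anti c b (Ne.symm hbc)]
    · refine ⟨-(ε a * ε c), by linear_combination h00, Or.inr ?_⟩
      rw [h0, hJI, neg_smul, smul_neg, neg_neg]
    · refine ⟨(ε a * ε c) * e0, by linear_combination h00 * (e0 * e0) + he0, Or.inl ?_⟩
      rw [h0, hTd, map_smul, hF.anti b c hbc, hF.sq, mul_smul _ e0, hIw, hF.anti a c hac]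
  obtain ⟨e, he, hYI⟩ := hYI
  rcases hYI with h1 | h1
  · rcases sign e he with rfl | rfl
    · refine key I hII hIT ?_
      rw [h1, one_smul]
    · refine key (J ∘ₗ I) hXX hXT ?_
      change Y (J (I v)) = J (I v)
      rw [hYJ', h1, neg_smul, one_smul, map_neg, neg_neg]
  · have hu : T k (I v) = δ • I v := by rw [← hIT, hTv, map_smul]
    obtain ⟨α, β, hαβ⟩ := span' hM hF hδ hJJ hJT hv hTv hu
    have h2 : (α + e * β) • v = (e * (α + e * β)) • J v := by
      have h3 : Y (I v) = α • v - β • J v := by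
        rw [hαβ, map_add, map_smul, map_smul, hYv, hYJ', hYv, smul_neg, sub_eq_add_neg]
      rw [h3, hαβ, map_add, map_smul, map_smul, hJJ, smul_neg, smul_add, smul_neg, smul_smul, smul_smul] at h1
      have h4 : α • v + (e * β) • v = (e * α) • J v + β • J v := by
        have := congrArg (fun w => w + β • J v + (e * β) • v) h1
        calc α • v + (e * β) • v = α • v - β • J v + β • J v + (e * β) • v := by abel
          _ = (e * α) • J v + -((e * β) • v) + β • J v + (e * β) • v := this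
          _ = (e * α) • J v + β • J v := by abel
      rw [add_smul, h4, ← add_smul]
      congr 1
      linear_combination (-β) * he
    have h3 : α = -(e * β) := by
      by_contra hne
      have h4 : α + e * β ≠ 0 := fun h => hne (eq_neg_of_add_eq_zero_left h)
      have h5 : v = e • J v := by
        have h6 : (α + e * β) • (v - e • J v) = 0 := by
          rw [smul_sub, h2, smul_smul, mul_comm e, sub_self]
        rcases smul_eq_zero.1 h6 with h7 | h7
        · exact absurd h7 h4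
        · exact sub_eq_zero.1 h7
      have h6 : J v = -(e • v) := by
        nth_rewrite 1 [h5]
        rw [map_smul, hJJ, smul_neg]
      rw [h6, smul_neg, smul_smul, he, one_smul] at h5
      exact hv (eq_zero_of_neg h5)
    have h4 : (α * α + β * β) • v = -v := by
      have h5 := hII v
      have h6 : I (I v) = α • I v + β • I (J v) := by
        have := congrArg I hαβ
        rwa [map_add, map_smul, map_smul] at this
      rw [← h5, h6, hIJ, hαβ, map_add, map_smul, map_smul, hJJ]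
      module
    have h5 : α * α + β * β = -1 := by
      have h6 : (α * α + β * β + 1) • v = 0 := by rw [add_smul, h4, one_smul, neg_add_cancel]
      rcases smul_eq_zero.1 h6 with h7 | h7
      · exact eq_neg_of_add_eq_zero_left h7
      · exact absurd h7 hv
    refine no_sqrt2 β e he ?_
    rw [← h5, h3]
    ring

theorem Nm.fixk (hF : Fr T) (hY : Nm T Y σ ε) {k : Fin 5} {δ : ZMod 7} (hδ : δ * δ = 1) {v : M} (hv : v ≠ 0)
    (hTv : T k v = δ • v) (hYv : Y v = v) : σ k = k := by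
  by_contra hne
  have h1 := hY.perm k v
  rw [hTv, map_smul, hYv] at h1
  have h2 : T (σ k) v = (ε k * δ) • v := by
    rw [mul_smul, h1, smul_smul, hY.sgn, one_smul]
  have h3 := hF.anti _ _ hne v
  rw [hTv, map_smul, h2, map_smul, hTv, smul_smul, smul_smul] at h3
  have h4 : δ * (ε k * δ) = ε k := by linear_combination (ε k) * hδ
  have h5 : ε k * δ * δ = ε k := by linear_combination (ε k) * hδ
  rw [h4, h5] at h3
  have h6 := eq_zero_of_neg h3
  apply hv
  rw [← one_smul (ZMod 7) v, ← hY.sgn k, mul_smul, h6, smul_zero]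

theorem core [Finite M] (hM : Nat.card M = 7 ^ 4) (hF : Fr T) (hY : Nm T Y σ ε) (hY1 : ∃ w, Y w ≠ w) {k : Fin 5}
    {δ : ZMod 7} (hδ : δ * δ = 1) {v : M} (hv : v ≠ 0) (hTv : T k v = δ • v) (hYv : Y v = v) :
    ∀ w, Y w = δ • T k w := by
  have hσk := hY.fixk hF hδ hv hTv hYv
  exact caseA hF hY hδ hv hTv (caseB hM hF hY hδ hv hTv hYv hσk) hY1 hσk

theorem comm_imp [Finite M] (hM : Nat.card M = 7 ^ 4) (hF : Fr T) (hY : Nm T Y σ ε) (hY1 : ∃ w, Y w ≠ w)
    (hY2 : ∃ w, Y w ≠ -w) {k : Fin 5} (hk : ∀ v, Y (T k v) = T k (Y v)) :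
    ∃ δ : ZMod 7, δ * δ = 1 ∧ ∀ w, Y w = δ • T k w := by
  obtain ⟨v, hv⟩ := hY2
  have hw : v + Y v ≠ 0 := fun h => hv (eq_neg_of_add_eq_zero_right h)
  have hYw : Y (v + Y v) = v + Y v := by rw [map_add, hY.sq, add_comm]
  set w := v + Y v
  by_cases hu : w + T k w = 0
  · have hu' : w - T k w ≠ 0 := by
      intro h
      have h1 : w + w = 0 := by
        calc w + w = (w + T k w) + (w - T k w) := by abel
          _ = 0 := by rw [hu, h, add_zero]
      apply hw
      rw [← half_half w, h1, smul_zero]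
    have h1 : (-1 : ZMod 7) * -1 = 1 := by ring
    refine ⟨-1, h1, core hM hF hY hY1 h1 hu' ?_ ?_⟩
    · rw [map_sub, hF.sq, neg_smul, one_smul, neg_sub]
    · rw [map_sub, hk, hYw]
  · refine ⟨1, one_mul 1, core hM hF hY hY1 (one_mul 1) hu ?_ ?_⟩
    · rw [map_add, hF.sq, one_smul, add_comm]
    · rw [map_add, hk, hYw]

end seven

section final

variable {M : Type u} [AddCommGroup M] [Fact (Nat.Prime 7)] [Module (ZMod 7) M]

theorem toFr {t : Fin 5 → (M ≃ₗ[ZMod 7] M)} (ht : Frame5 t) : Fr (fun k => (t k : M →ₗ[ZMod 7] M)) :=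
  ⟨fun k v => LinearEquiv.congr_fun (ht.sq k) v, fun j k h v => ht.anti j k h v, ht.prod⟩

theorem toNm {t : Fin 5 → (M ≃ₗ[ZMod 7] M)} {P : Subgroup (M ≃ₗ[ZMod 7] M)} (hn : Norm5 t P) {y : M ≃ₗ[ZMod 7] M}
    (hy : y ∈ H662.HT.Inv P) : ∃ σ : Fin 5 → Fin 5, ∃ ε : Fin 5 → ZMod 7,
      Nm (fun k => (t k : M →ₗ[ZMod 7] M)) (y : M →ₗ[ZMod 7] M) σ ε := by
  classical
  choose σ hσ using hn y hy.1
  refine ⟨σ, fun k => if (∀ v : M, y (t k v) = t (σ k) (y v)) then 1 else -1, ?_, ?_, ?_⟩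
  · intro v
    exact LinearEquiv.congr_fun hy.2.1 v
  · intro k
    split_ifs
    · ring
    · ring
  · intro k v
    change y (t k v) = (if (∀ v : M, y (t k v) = t (σ k) (y v)) then (1 : ZMod 7) else -1) • t (σ k) (y v)
    split_ifs with h
    · rw [one_smul, h]
    · rcases hσ k with h1 | h1
      · exact absurd h1 h
      · rw [h1, neg_smul, one_smul]

end final

/-- C3a -/
theorem seven_type {M : Type u} [AddCommGroup M] [Fact (Nat.Prime 7)] [Module (ZMod 7) M] [Finite M]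
    (hM : Nat.card M = 7 ^ 4) {t : Fin 5 → (M ≃ₗ[ZMod 7] M)} (ht : Frame5 t) {P : Subgroup (M ≃ₗ[ZMod 7] M)}
    (hn : Norm5 t P) {y : M ≃ₗ[ZMod 7] M} (hy : y ∈ H662.HT.Inv P) :
    (∃ k, y = t k ∨ ∀ w : M, y w = -(t k w)) ∨
    ∃ a b : Fin 5, a ≠ b ∧ ((∀ v, y (t a v) = t b (y v)) ∨ (∀ v, y (t a v) = -(t b (y v)))) ∧
      ∀ c, c ≠ a → c ≠ b → ∀ v, y (t c v) = -(t c (y v)) := by
  have hF := toFr ht
  obtain ⟨σ, ε, hY⟩ := toNm hn hy
  set T := fun k => (t k : M →ₗ[ZMod 7] M) with hT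
  set Y := (y : M →ₗ[ZMod 7] M) with hYdef
  have hTt : ∀ k v, T k v = t k v := fun k v => rfl
  have hYy : ∀ v, Y v = y v := fun v => rfl
  have hY1 : ∃ w, Y w ≠ w := by
    by_contra h
    push Not at h
    exact hy.2.2.1 (LinearEquiv.ext h)
  have hY2 : ∃ w, Y w ≠ -w := hy.2.2.2
  by_cases hcomm : ∃ k, ∀ v, Y (T k v) = T k (Y v)
  · left
    obtain ⟨k, hk⟩ := hcomm
    obtain ⟨δ, hδ, h⟩ := comm_imp hM hF hY hY1 hY2 hk
    refine ⟨k, ?_⟩
    rcases sign δ hδ with rfl | rfl
    · left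
      ext w
      have := h w
      rw [one_smul] at this
      exact this
    · right
      intro w
      have := h w
      rw [neg_smul, one_smul] at this
      exact this
  · right
    obtain ⟨v, hv⟩ := hY1
    have hv0 : v ≠ 0 := by
      rintro rfl
      exact hv (map_zero _)
    have hinv := hY.invol hF hv0
    have hneg : ∀ k, σ k = k → ε k = -1 := by
      intro k hk
      rcases sign _ (hY.sgn k) with h | h
      · exfalso
        apply hcomm
        refine ⟨k, fun w => ?_⟩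
        rw [hY.perm, h, hk, one_smul]
      · exact h
    have hprodY : ∀ a b c d e : Fin 5, ∀ w, Y (T a (T b (T c (T d (T e w))))) =
        (ε a * ε b * ε c * ε d * ε e) • T (σ a) (T (σ b) (T (σ c) (T (σ d) (T (σ e) (Y w))))) := by
      intro a b c d e w
      simp only [hY.perm, map_smul, smul_smul, mul_assoc]
    have hYv0 : Y v ≠ 0 := by
      intro h
      apply hv0
      rw [← hY.sq v, h, map_zero]
    -- a fixed point
    obtain ⟨e, he⟩ : ∃ e, σ e = e := by
      have hσi : Function.Involutive σ := fun k => (hinv k).1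
      have : Fact (Nat.Prime 2) := ⟨Nat.prime_two⟩
      obtain ⟨e, he⟩ := Equiv.Perm.exists_fixed_point_of_prime (p := 2) (n := 1) (σ := hσi.toPerm σ)
        (by rw [Fintype.card_fin]; decide) (by
          ext k
          rw [pow_one, sq, Equiv.Perm.mul_apply, Equiv.Perm.one_apply]
          exact congrArg Fin.val ((hinv k).1))
      exact ⟨e, he⟩
    by_cases hall : ∀ i, σ i = i
    · exfalso
      obtain ⟨η, hη, hp⟩ := prod' hF (a := 0) (b := 1) (c := 2) (d := 3) (e := 4) (by decide)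
      have h1 := hprodY 0 1 2 3 4 v
      simp only [hall, hp, map_smul, hneg _ (hall _)] at h1
      have h2 : ((-1 : ZMod 7) * -1 * -1 * -1 * -1) = -1 := by ring
      rw [h2, neg_smul, one_smul] at h1
      have h3 := eq_zero_of_neg h1
      apply hYv0
      rw [← one_smul (ZMod 7) (Y v), ← hη, mul_smul, h3, smul_zero]
    · push Not at hall
      obtain ⟨a, ha⟩ := hall
      obtain ⟨b, hb⟩ : ∃ b, σ a = b := ⟨_, rfl⟩
      have hσb : σ b = a := by rw [← hb]; exact (hinv a).1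
      have hab : a ≠ b := by rw [← hb]; exact Ne.symm ha
      have hae : a ≠ e := by rintro rfl; exact ha he
      have hbe : b ≠ e := by
        rintro rfl
        exact hab (hσb.symm.trans he)
      obtain ⟨c, d, hnd⟩ := exists_compl a b e hab hae hbe
      have hn' := hnd
      simp only [List.nodup_cons, List.mem_cons, not_or, List.not_mem_nil, not_false_eq_true, List.nodup_nil,
        and_true] at hn'
      obtain ⟨⟨-, hac, had, -⟩, ⟨hbc, hbd, -⟩, ⟨hcd, hce⟩, hde⟩ := hn'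
      have hσcd : ∀ x, x ≠ a → x ≠ b → x ≠ e → σ x = c ∨ σ x = d := by
        intro x hxa hxb hxe
        have h0 := (hinv x).1
        rcases exh hnd (σ x) with h | h | h | h | h
        · exfalso; rw [h, hb] at h0; exact hxb h0.symm
        · exfalso; rw [h, hσb] at h0; exact hxa h0.symm
        · exact Or.inl h
        · exact Or.inr h
        · exfalso; rw [h, he] at h0; exact hxe h0.symm
      refine ⟨a, b, hab, ?_, ?_⟩
      · rcases sign _ (hY.sgn a) with h | h
        · left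
          intro w
          have := hY.perm a w
          rw [h, one_smul, hb] at this
          exact this
        · right
          intro w
          have := hY.perm a w
          rw [h, neg_smul, one_smul, hb] at this
          exact this
      · have hσc : σ c = c := by
          rcases hσcd c (Ne.symm hac) (Ne.symm hbc) hce with h | h
          · exact h
          · exfalso
            have hσd : σ d = c := by rw [← h]; exact (hinv c).1
            obtain ⟨η, hη, hp⟩ := prod' hF hnd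
            have h1 := hprodY a b c d e v
            have h2 := (hinv a).2
            have h3 := (hinv c).2
            rw [hb] at h2
            rw [h] at h3
            have h4 : ε a * ε b * ε c * ε d * ε e = -1 := by
              rw [hneg e he]
              linear_combination (-(ε c * ε d)) * h2 - h3
            rw [hp, hb, hσb, h, hσd, he, h4, map_smul, hF.anti b a (Ne.symm hab), hF.anti d c (Ne.symm hcd),
              map_neg, map_neg, neg_neg, hp, neg_smul, one_smul] at h1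
            have h3 := eq_zero_of_neg h1
            apply hYv0
            rw [← one_smul (ZMod 7) (Y v), ← hη, mul_smul, h3, smul_zero]
        have hσd : σ d = d := by
          rcases hσcd d (Ne.symm had) (Ne.symm hbd) hde with h | h
          · exfalso
            have h0 := (hinv d).1
            rw [h, hσc] at h0
            exact hcd h0
          · exact h
        intro x hxa hxb w
        have hσx : σ x = x := by
          rcases exh hnd x with h | h | h | h | h
          · exact absurd h hxa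
          · exact absurd h hxb
          · rw [h]; exact hσc
          · rw [h]; exact hσd
          · rw [h]; exact he
        have := hY.perm x w
        rw [hneg x hσx, neg_smul, one_smul, hσx] at this
        exact this

end Cfsg.Agent.H486.HT
end

-- part: H140/HT/Seven
section
/-!
# Frames of five anticommuting involutions: the case `p = 7` (S3540, S3577, C3b; helper140)

`permHom`: the action of `P` on the five pairs `± t k`; `card_dvd`: if all transpositions occur, then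
`1920` divides `|P|`; `alpha_seven`.
-/

set_option autoImplicit false

open Finset

namespace Cfsg.Agent.H140.HT

open Cfsg.Agent.H828.HT Cfsg.Agent.H662.HT

universe u

section perm

variable {p : ℕ} [Fact p.Prime] {M : Type u} [AddCommGroup M] [Module (ZMod p) M]
  {t : Fin 5 → (M ≃ₗ[ZMod p] M)} {P : Subgroup (M ≃ₗ[ZMod p] M)}

theorem eq_zero_of_neg (hp : 3 ≤ p) {v : M} (h : v = -v) : v = 0 := by
  have h1 : (2 : ZMod p) • v = 0 := by
    rw [two_smul]
    nth_rewrite 2 [h]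
    exact add_neg_cancel v
  rcases smul_eq_zero.1 h1 with h2 | h2
  · exfalso
    have h3 : (2 : ZMod p) = ((2 : ℕ) : ZMod p) := by norm_num
    rw [h3, ZMod.natCast_eq_zero_iff] at h2
    have := Nat.le_of_dvd (by norm_num) h2
    omega
  · exact h2

/-- `g t_k = ± t_j g` -/
def Rel (t : Fin 5 → (M ≃ₗ[ZMod p] M)) (g : M ≃ₗ[ZMod p] M) (k j : Fin 5) : Prop :=
  (∀ v : M, g (t k v) = t j (g v)) ∨ (∀ v : M, g (t k v) = -(t j (g v)))

theorem Rel.one (k : Fin 5) : Rel t 1 k k := Or.inl fun _ => rfl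

theorem Rel.mul {g h : M ≃ₗ[ZMod p] M} {i j k : Fin 5} (h1 : Rel t g j k) (h2 : Rel t h i j) :
    Rel t (g * h) i k := by
  rcases h1 with h1 | h1 <;> rcases h2 with h2 | h2
  · left; intro v; change g (h (t i v)) = t k (g (h v)); rw [h2, h1]
  · right; intro v; change g (h (t i v)) = -(t k (g (h v))); rw [h2, map_neg, h1]
  · right; intro v; change g (h (t i v)) = -(t k (g (h v))); rw [h2, h1]
  · left; intro v; change g (h (t i v)) = t k (g (h v)); rw [h2, map_neg, h1, neg_neg]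

theorem sq' (ht : Frame5 t) (k : Fin 5) (v : M) : t k (t k v) = v :=
  LinearEquiv.congr_fun (ht.sq k) v

theorem anti' (ht : Frame5 t) {j k : Fin 5} (h : j ≠ k) (v : M) : t j (t k v) = -(t k (t j v)) :=
  ht.anti j k h v

theorem Rel.unique [Nontrivial M] (hp : 3 ≤ p) (ht : Frame5 t) {g : M ≃ₗ[ZMod p] M} {k j j' : Fin 5}
    (h1 : Rel t g k j) (h2 : Rel t g k j') : j = j' := by
  by_contra hne
  obtain ⟨v, hv⟩ := exists_ne (0 : M)
  have key : (∀ w, t j w = t j' w) ∨ (∀ w, t j w = -(t j' w)) := by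
    rcases h1 with h1 | h1 <;> rcases h2 with h2 | h2
    · left; intro w
      have h3 := h1 (g.symm w)
      rw [h2, LinearEquiv.apply_symm_apply] at h3
      exact h3.symm
    · right; intro w
      have h3 := h1 (g.symm w)
      rw [h2, LinearEquiv.apply_symm_apply] at h3
      exact h3.symm
    · right; intro w
      have h3 := h1 (g.symm w)
      rw [h2, LinearEquiv.apply_symm_apply] at h3
      rw [h3, neg_neg]
    · left; intro w
      have h3 := h1 (g.symm w)
      rw [h2, LinearEquiv.apply_symm_apply, neg_inj] at h3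
      exact h3.symm
  have ha := anti' ht hne v
  apply hv
  rcases key with key | key
  · rw [key (t j' v), key v, sq' ht] at ha
    exact eq_zero_of_neg hp ha
  · rw [key (t j' v), key v, map_neg, sq' ht, neg_neg] at ha
    exact eq_zero_of_neg hp ha.symm

/-- the action on the five pairs `± t k` -/
noncomputable def act [Nontrivial M] (hp : 3 ≤ p) (ht : Frame5 t) (hn : Norm5 t P) : MulAction P (Fin 5) where
  smul g k := Classical.choose (hn g g.2 k)
  one_smul k := Rel.unique hp ht (Classical.choose_spec (hn (1 : P) (1 : P).2 k)) (Rel.one k)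
  mul_smul g h k := by
    refine Rel.unique hp ht (Classical.choose_spec (hn (g * h : P) (g * h : P).2 k)) ?_
    exact Rel.mul (Classical.choose_spec (hn g g.2 _)) (Classical.choose_spec (hn h h.2 k))

/-- the permutation of the five pairs `± t k` -/
noncomputable def permHom [Nontrivial M] (hp : 3 ≤ p) (ht : Frame5 t) (hn : Norm5 t P) : P →* Equiv.Perm (Fin 5) :=
  @MulAction.toPermHom P (Fin 5) _ (act hp ht hn)

theorem permHom_spec [Nontrivial M] (hp : 3 ≤ p) (ht : Frame5 t) (hn : Norm5 t P) (g : P) (k : Fin 5) :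
    Rel t g k (permHom hp ht hn g k) := Classical.choose_spec (hn g g.2 k)

theorem permHom_eq [Nontrivial M] (hp : 3 ≤ p) (ht : Frame5 t) (hn : Norm5 t P) {g : P} {k j : Fin 5}
    (h : Rel t g k j) : permHom hp ht hn g k = j :=
  Rel.unique hp ht (permHom_spec hp ht hn g k) h

open Classical in
/-- the sign -/
noncomputable def sgn (t : Fin 5 → (M ≃ₗ[ZMod p] M)) (g : M ≃ₗ[ZMod p] M) (k : Fin 5) : ℤˣ :=
  if ∀ v : M, g (t k v) = t k (g v) then 1 else -1

theorem sgn_pos {g : M ≃ₗ[ZMod p] M} {k : Fin 5} (h : ∀ v : M, g (t k v) = t k (g v)) : sgn t g k = 1 := if_pos h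

theorem sgn_neg [Nontrivial M] (hp : 3 ≤ p) {g : M ≃ₗ[ZMod p] M} {k : Fin 5}
    (h : ∀ v : M, g (t k v) = -(t k (g v))) : sgn t g k = -1 := by
  refine if_neg fun h' => ?_
  obtain ⟨v, hv⟩ := exists_ne (0 : M)
  have h1 := (h' v).symm.trans (h v)
  have h2 := eq_zero_of_neg hp h1
  rw [LinearEquiv.map_eq_zero_iff, LinearEquiv.map_eq_zero_iff] at h2
  exact hv h2

theorem sgn_mul [Nontrivial M] (hp : 3 ≤ p) {g h : M ≃ₗ[ZMod p] M} {k : Fin 5} (hg : Rel t g k k) (hh : Rel t h k k) :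
    sgn t (g * h) k = sgn t g k * sgn t h k := by
  rcases hg with hg | hg <;> rcases hh with hh | hh
  · rw [sgn_pos hg, sgn_pos hh, sgn_pos, one_mul]
    intro v; change g (h (t k v)) = t k (g (h v)); rw [hh, hg]
  · rw [sgn_pos hg, sgn_neg hp hh, sgn_neg hp, one_mul]
    intro v; change g (h (t k v)) = -(t k (g (h v))); rw [hh, map_neg, hg]
  · rw [sgn_neg hp hg, sgn_pos hh, sgn_neg hp, mul_one]
    intro v; change g (h (t k v)) = -(t k (g (h v))); rw [hh, hg]
  · rw [sgn_neg hp hg, sgn_neg hp hh, sgn_pos, neg_mul_neg, mul_one]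
    intro v; change g (h (t k v)) = t k (g (h v)); rw [hh, map_neg, hg, neg_neg]

theorem rel_of_ker [Nontrivial M] (hp : 3 ≤ p) (ht : Frame5 t) (hn : Norm5 t P) {g : P}
    (hg : g ∈ (permHom hp ht hn).ker) (k : Fin 5) : Rel t g k k := by
  have h1 := permHom_spec hp ht hn g k
  rw [MonoidHom.mem_ker] at hg
  rwa [hg] at h1

/-- the signs, as a homomorphism -/
noncomputable def eps [Nontrivial M] (hp : 3 ≤ p) (ht : Frame5 t) (hn : Norm5 t P) :
    (permHom hp ht hn).ker →* (Fin 5 → ℤˣ) where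
  toFun g := fun k => sgn t ((g : P) : M ≃ₗ[ZMod p] M) k
  map_one' := by
    funext k
    exact sgn_pos fun v => rfl
  map_mul' g h := by
    funext k
    exact sgn_mul hp (rel_of_ker hp ht hn g.2 k) (rel_of_ker hp ht hn h.2 k)

theorem t_rel (ht : Frame5 t) (j k : Fin 5) : Rel t (t j) k k := by
  by_cases h : j = k
  · left; intro v; rw [h]
  · right; intro v; exact anti' ht h v

/-- the sign vector of `t j` -/
def ev (j : Fin 5) : Fin 5 → ℤˣ := fun k => if k = j then 1 else -1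

theorem sgn_t [Nontrivial M] (hp : 3 ≤ p) (ht : Frame5 t) (j k : Fin 5) : sgn t (t j) k = ev j k := by
  unfold ev
  by_cases h : k = j
  · rw [if_pos h]; exact sgn_pos fun v => by rw [h]
  · rw [if_neg h]; exact sgn_neg hp fun v => anti' ht (Ne.symm h) v

theorem ev_gen : ∀ f : Fin 5 → ℤˣ, ∏ k, f k = 1 → f = ∏ j, (if f j = 1 then 1 else ev j) := by decide +kernel

theorem card_even : Nat.card (Subgroup.closure (Set.range ev)) = 16 := by
  have h1 : ((Subgroup.closure (Set.range ev) : Subgroup (Fin 5 → ℤˣ)) : Set (Fin 5 → ℤˣ)) =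
      {f | ∏ k, f k = 1} := by
    refine Set.Subset.antisymm ?_ ?_
    · intro f hf
      refine Subgroup.closure_induction (p := fun f _ => ∏ k, f k = 1) ?_ ?_ ?_ ?_ hf
      · rintro _ ⟨j, rfl⟩
        revert j; decide +kernel
      · simp
      · intro x y _ _ hx hy
        simp only [Pi.mul_apply, Finset.prod_mul_distrib, hx, hy, mul_one]
      · intro x _ hx
        simp only [Pi.inv_apply, Finset.prod_inv_distrib, hx, inv_one]
    · intro f hf
      have hf' : ∏ k, f k = 1 := hf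
      change f ∈ Subgroup.closure (Set.range ev)
      rw [ev_gen f hf']
      refine Subgroup.prod_mem _ fun j _ => ?_
      split
      · exact Subgroup.one_mem _
      · exact Subgroup.subset_closure ⟨j, rfl⟩
  have h2 : Nat.card {f : Fin 5 → ℤˣ // ∏ k, f k = 1} = 16 := by
    rw [Nat.card_eq_fintype_card]
    decide +kernel
  rw [← h2]
  exact Nat.card_congr (Equiv.setCongr h1)

theorem dvd_ker [Finite M] [Nontrivial M] (hp : 3 ≤ p) (ht : Frame5 t) (hn : Norm5 t P) (htP : ∀ k, t k ∈ P) :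
    16 ∣ Nat.card (permHom hp ht hn).ker := by
  have h1 : Subgroup.closure (Set.range ev) ≤ (eps hp ht hn).range := by
    rw [Subgroup.closure_le]
    rintro _ ⟨j, rfl⟩
    refine ⟨⟨⟨t j, htP j⟩, ?_⟩, ?_⟩
    · rw [MonoidHom.mem_ker]
      ext k
      rw [permHom_eq hp ht hn (t_rel ht j k)]
      rfl
    · funext k
      exact sgn_t hp ht j k
  have h2 := Subgroup.card_dvd_of_le h1
  rw [card_even] at h2
  exact h2.trans (Subgroup.card_range_dvd _)

theorem card_dvd [Finite M] [Nontrivial M] (hp : 3 ≤ p) (ht : Frame5 t) (hn : Norm5 t P) (htP : ∀ k, t k ∈ P)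
    (hs : ∀ a b : Fin 5, a ≠ b → ∃ g : P, permHom hp ht hn g = Equiv.swap a b) : 1920 ∣ Nat.card P := by
  have h1 : (permHom hp ht hn).range = ⊤ := by
    rw [eq_top_iff, ← Equiv.Perm.closure_isSwap, Subgroup.closure_le]
    rintro _ ⟨a, b, hab, rfl⟩
    obtain ⟨g, hg⟩ := hs a b hab
    exact ⟨g, hg⟩
  have h2 : Nat.card (permHom hp ht hn).range = 120 := by
    rw [h1, Subgroup.card_top, Nat.card_eq_fintype_card, Fintype.card_perm]
    rfl
  have h3 := Subgroup.card_mul_index (permHom hp ht hn).ker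
  rw [Subgroup.index_ker, h2] at h3
  rw [← h3]
  exact mul_dvd_mul (dvd_ker hp ht hn htP) (dvd_refl 120)

end perm

theorem exists_third (a b : Fin 5) : ∃ c, c ≠ a ∧ c ≠ b := by revert a b; decide

theorem sq_one : ∀ c : ZMod 7, c * c = 1 → c = 1 ∨ c = -1 := by decide

section seven

variable {M : Type u} [AddCommGroup M] [Fact (Nat.Prime 7)] [Module (ZMod 7) M]
  {t : Fin 5 → (M ≃ₗ[ZMod 7] M)} {P : Subgroup (M ≃ₗ[ZMod 7] M)}

/-- an involution over the transposition `(a b)`, inverting the other `t c` -/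
structure Ty (t : Fin 5 → (M ≃ₗ[ZMod 7] M)) (P : Subgroup (M ≃ₗ[ZMod 7] M)) (a b : Fin 5)
    (y : M ≃ₗ[ZMod 7] M) : Prop where
  mem : y ∈ P
  sq : ∀ v, y (y v) = v
  ab : (∀ v, y (t a v) = t b (y v)) ∨ (∀ v, y (t a v) = -(t b (y v)))
  ot : ∀ c, c ≠ a → c ≠ b → ∀ v, y (t c v) = -(t c (y v))

theorem Ty.symm {a b : Fin 5} {y : M ≃ₗ[ZMod 7] M} (h : Ty t P a b y) : Ty t P b a y := by
  refine ⟨h.mem, h.sq, ?_, fun c h1 h2 => h.ot c h2 h1⟩
  rcases h.ab with h1 | h1
  · left; intro v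
    have h2 := congrArg y (h1 (y v))
    rw [h.sq, h.sq] at h2
    exact h2.symm
  · right; intro v
    have h2 := congrArg y (h1 (y v))
    rw [h.sq, h.sq, map_neg] at h2
    rw [h2, neg_neg]

/-- the sign `ε = ±1` with `y t_a = ε t_b y` -/
theorem Ty.eps {a b : Fin 5} {y : M ≃ₗ[ZMod 7] M} (h : Ty t P a b y) :
    ∃ e : ZMod 7, e * e = 1 ∧ (∀ v, y (t a v) = e • t b (y v)) ∧ (∀ v, y (t b v) = e • t a (y v)) := by
  have h0 := h.ab
  rcases h0 with h1 | h1
  · refine ⟨1, by ring, fun v => by rw [h1, one_smul], fun v => ?_⟩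
    have h2 := congrArg y (h1 (y v))
    rw [h.sq, h.sq] at h2
    rw [one_smul, h2]
  · refine ⟨-1, by ring, fun v => by rw [h1, neg_one_smul], fun v => ?_⟩
    have h2 := congrArg y (h1 (y v))
    rw [h.sq, h.sq, map_neg] at h2
    rw [neg_one_smul, h2, neg_neg]

/-- elements of the same type -/
theorem Ty.eq (ht : Frame5 t)
    (hsc : ∀ x : M ≃ₗ[ZMod 7] M, (∀ k, ∀ v : M, x (t k v) = t k (x v)) → ∃ c : ZMod 7, ∀ v : M, x v = c • v)
    {a b : Fin 5} (hab : a ≠ b) {y y' : M ≃ₗ[ZMod 7] M} (h : Ty t P a b y) (h' : Ty t P a b y') [Nontrivial M] :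
    (∀ v, y' v = y v) ∨ (∀ v, y' v = -(y v)) ∨ (∀ v, y' v = t a (t b (y v))) ∨ (∀ v, y' v = -(t a (t b (y v)))) := by
  obtain ⟨w, hw⟩ := exists_ne (0 : M)
  obtain ⟨e, he, h1, h2⟩ := h.eps
  obtain ⟨e', he', h1', h2'⟩ := h'.eps
  rcases sq_one (e * e') (by linear_combination e' * e' * he + he') with hee | hee
  · -- `x = y' y` commutes with all `t k`
    obtain ⟨c, hc⟩ := hsc (y' * y) (by
      intro k v
      change y' (y (t k v)) = t k (y' (y v))
      by_cases hka : k = a
      · subst hka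
        rw [h1, map_smul, h2', smul_smul, hee, one_smul]
      by_cases hkb : k = b
      · subst hkb
        rw [h2, map_smul, h1', smul_smul, hee, one_smul]
      rw [h.ot k hka hkb, map_neg, h'.ot k hka hkb, neg_neg])
    have h3 : ∀ v, y' v = c • y v := by
      intro v
      have := hc (y v)
      change y' (y (y v)) = c • y v at this
      rwa [h.sq] at this
    have h4 : c * c = 1 := by
      have h5 := h'.sq w
      rw [h3, h3, map_smul, h.sq, smul_smul] at h5
      have h6 : (c * c - 1) • w = 0 := by rw [sub_smul, h5, one_smul, sub_self]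
      rcases smul_eq_zero.1 h6 with h7 | h7
      · exact sub_eq_zero.1 h7
      · exact absurd h7 hw
    rcases sq_one c h4 with rfl | rfl
    · left; intro v; rw [h3, one_smul]
    · right; left; intro v; rw [h3, neg_one_smul]
  · -- `x = y' y` times `t a t b` commutes with all `t k`
    have hee' : e' * e = -1 := by rw [mul_comm]; exact hee
    obtain ⟨c, hc⟩ := hsc (t a * t b * (y' * y)) (by
      intro k v
      change t a (t b (y' (y (t k v)))) = t k (t a (t b (y' (y v))))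
      by_cases hka : k = a
      · subst hka
        rw [h1, map_smul, h2', smul_smul, hee, neg_one_smul, map_neg, anti' ht (Ne.symm hab), neg_neg]
      by_cases hkb : k = b
      · subst hkb
        rw [h2, map_smul, h1', smul_smul, hee, neg_one_smul, map_neg, map_neg, anti' ht hab, neg_neg]
      rw [h.ot k hka hkb, map_neg, h'.ot k hka hkb, neg_neg, anti' ht (Ne.symm hkb), map_neg,
        anti' ht (Ne.symm hka), neg_neg])
    have h3 : ∀ v, y' v = -c • t a (t b (y v)) := by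
      intro v
      have h4 := hc (y v)
      change t a (t b (y' (y (y v)))) = c • y v at h4
      rw [h.sq] at h4
      have h5 := congrArg (fun u => t b (t a u)) h4
      simp only [map_smul] at h5
      rw [sq' ht, sq' ht] at h5
      rw [h5, anti' ht (Ne.symm hab), smul_neg, neg_smul]
    have h4 : c * c = 1 := by
      have h5 := h'.sq w
      have h8 : t a (t b (y (t a (t b (y w))))) = w := by
        rw [h1, h2]
        simp only [map_smul, smul_smul, he, one_smul, h.sq, sq' ht]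
      rw [h3, h3, map_smul, map_smul, map_smul, h8, smul_smul] at h5
      have h6 : (c * c - 1) • w = 0 := by
        rw [sub_smul, one_smul, sub_eq_zero]
        rw [neg_mul_neg] at h5
        exact h5
      rcases smul_eq_zero.1 h6 with h7 | h7
      · exact sub_eq_zero.1 h7
      · exact absurd h7 hw
    rcases sq_one c h4 with rfl | rfl
    · right; right; right; intro v; rw [h3, neg_one_smul]
    · right; right; left; intro v; rw [h3, neg_neg, one_smul]

section card

variable [Finite M]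

/-- the non-zero vectors `v` with `y v = ± v` -/
def Bs (y : M ≃ₗ[ZMod 7] M) : Set M := {v | v ≠ 0 ∧ (y v = v ∨ y v = -v)}

theorem card_Bs (hM : Nat.card M = 7 ^ 4) {y n : M ≃ₗ[ZMod 7] M} (hfx : Nat.card (fx y) ^ 2 = Nat.card M)
    (hn : ∀ v : M, n (y v) = -(y (n v))) : (Bs y).ncard ≤ 96 := by
  have h1 : Nat.card (fx y) = 49 := by
    rw [hM] at hfx
    exact Nat.pow_left_injective (n := 2) (by norm_num) (by simpa only [_root_.Cfsg.Agent.H828.HT.mem_fx, _root_.Nat.card_eq_fintype_card, _root_.Nat.reducePow] using hfx)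
  have h2 : {v : M | v ≠ 0 ∧ y v = v}.ncard = 48 := by
    have h3 : {v : M | v ≠ 0 ∧ y v = v} = (fx y : Set M) \ {0} := by
      ext v
      simp only [Set.mem_ofPred_eq, Set.mem_sdiff, SetLike.mem_coe, mem_fx, Set.mem_singleton_iff]
      tauto
    rw [h3, Set.ncard_sdiff_singleton_of_mem (by simp)]
    have h4 : (fx y : Set M).ncard = 49 := h1
    rw [h4]
  have h3 : {v : M | v ≠ 0 ∧ y v = -v}.ncard ≤ 48 := by
    rw [← h2]
    refine Set.ncard_le_ncard_of_injOn n ?_ n.injective.injOn (Set.toFinite _)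
    rintro v ⟨hv, hv'⟩
    refine ⟨by rwa [Ne, LinearEquiv.map_eq_zero_iff], ?_⟩
    have h4 := hn v
    rw [hv', map_neg, neg_inj] at h4
    exact h4.symm
  have h4 : Bs y = {v : M | v ≠ 0 ∧ y v = v} ∪ {v : M | v ≠ 0 ∧ y v = -v} := by
    ext v
    simp only [Bs, Set.mem_ofPred_eq, Set.mem_union]
    (clear * -; tauto)
  rw [h4]
  refine (Set.ncard_union_le _ _).trans ?_
  omega

/-- the non-zero vectors fixed by some involution of type `(a b)` -/
def Gs (t : Fin 5 → (M ≃ₗ[ZMod 7] M)) (P : Subgroup (M ≃ₗ[ZMod 7] M)) (a b : Fin 5) : Set M :=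
  {v | v ≠ 0 ∧ ∃ y, Ty t P a b y ∧ y v = v}

theorem card_Gs [Nontrivial M] (hM : Nat.card M = 7 ^ 4) (ht : Frame5 t)
    (hsc : ∀ x : M ≃ₗ[ZMod 7] M, (∀ k, ∀ v : M, x (t k v) = t k (x v)) → ∃ c : ZMod 7, ∀ v : M, x v = c • v)
    (hfx : ∀ y n : M ≃ₗ[ZMod 7] M, y * y = 1 → (∀ v : M, n (y v) = -(y (n v))) → Nat.card (fx y) ^ 2 = Nat.card M)
    {a b : Fin 5} (hab : a ≠ b) : (Gs t P a b).ncard ≤ 192 := by
  by_cases hex : ∃ y, Ty t P a b y
  · obtain ⟨y, hy⟩ := hex
    obtain ⟨c, hca, hcb⟩ := exists_third a b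
    obtain ⟨e, he, h1, h2⟩ := hy.eps
    have hsub : Gs t P a b ⊆ Bs y ∪ Bs (t a * t b * y) := by
      rintro v ⟨hv, y', hy', hyv⟩
      rcases Ty.eq ht hsc hab hy hy' with h | h | h | h
      · left; exact ⟨hv, Or.inl (by rw [← h, hyv])⟩
      · left; exact ⟨hv, Or.inr (by rw [h, neg_eq_iff_eq_neg] at hyv; exact hyv)⟩
      · right; exact ⟨hv, Or.inl (by rw [h] at hyv; exact hyv)⟩
      · right; exact ⟨hv, Or.inr (by rw [h, neg_eq_iff_eq_neg] at hyv; exact hyv)⟩
    have hB1 : (Bs y).ncard ≤ 96 := by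
      refine card_Bs hM (hfx y (t c) (LinearEquiv.ext fun v => hy.sq v) ?_) (n := t c) ?_ <;>
      · intro v
        rw [hy.ot c hca hcb, neg_neg]
    have hB2 : (Bs (t a * t b * y)).ncard ≤ 96 := by
      have h3 : ∀ v : M, t c ((t a * t b * y) v) = -((t a * t b * y) (t c v)) := by
        intro v
        change t c (t a (t b (y v))) = -(t a (t b (y (t c v))))
        rw [hy.ot c hca hcb, map_neg, map_neg, neg_neg, anti' ht hca, anti' ht hcb, map_neg, neg_neg]
      refine card_Bs hM (hfx _ (t c) (LinearEquiv.ext fun v => ?_) h3) h3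
      change t a (t b (y (t a (t b (y v))))) = v
      rw [h1, h2]
      simp only [map_smul, smul_smul, he, one_smul, hy.sq, sq' ht]
    refine (Set.ncard_le_ncard hsub (Set.toFinite _)).trans ((Set.ncard_union_le _ _).trans ?_)
    omega
  · have h1 : Gs t P a b = ∅ := by
      rw [Set.eq_empty_iff_forall_notMem]
      rintro v ⟨_, y, hy, _⟩
      exact hex ⟨y, hy⟩
    rw [h1, Set.ncard_empty]
    exact Nat.zero_le _

/-- the vectors fixed by no `± t k` -/
def Fs (t : Fin 5 → (M ≃ₗ[ZMod 7] M)) : Set M := {v | v ≠ 0 ∧ ∀ k, t k v ≠ v ∧ t k v ≠ -v}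

theorem card_Fs (hM : Nat.card M = 7 ^ 4) (ht : Frame5 t)
    (hfx : ∀ y n : M ≃ₗ[ZMod 7] M, y * y = 1 → (∀ v : M, n (y v) = -(y (n v))) → Nat.card (fx y) ^ 2 = Nat.card M) :
    1920 ≤ (Fs t).ncard := by
  classical
  have hB : ∀ k, (Bs (t k)).ncard ≤ 96 := by
    intro k
    obtain ⟨c, hc, -⟩ := exists_third k k
    exact card_Bs hM (hfx _ (t c) (ht.sq k) (anti' ht hc)) (anti' ht hc)
  have h1 : (⋃ k ∈ (Finset.univ : Finset (Fin 5)), Bs (t k)).ncard ≤ 480 := by
    refine (Finset.set_ncard_biUnion_le _ _).trans ?_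
    refine (Finset.sum_le_card_nsmul _ _ 96 fun k _ => hB k).trans ?_
    simp
  have h2 : (Set.univ : Set M) ⊆ {0} ∪ (⋃ k ∈ (Finset.univ : Finset (Fin 5)), Bs (t k)) ∪ Fs t := by
    intro v _
    by_cases hv : v = 0
    · left; left; exact hv
    by_cases h : ∀ k, t k v ≠ v ∧ t k v ≠ -v
    · right; exact ⟨hv, h⟩
    · left; right
      push Not at h
      obtain ⟨k, hk⟩ := h
      simp only [Set.mem_iUnion]
      refine ⟨k, Finset.mem_univ k, hv, ?_⟩
      by_cases h3 : t k v = v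
      · exact Or.inl h3
      · exact Or.inr (hk h3)
  have h3 := Set.ncard_le_ncard h2 (Set.toFinite _)
  have h4 := Set.ncard_union_le ({0} ∪ (⋃ k ∈ (Finset.univ : Finset (Fin 5)), Bs (t k))) (Fs t)
  have h5 := Set.ncard_union_le ({0} : Set M) (⋃ k ∈ (Finset.univ : Finset (Fin 5)), Bs (t k))
  rw [Set.ncard_singleton] at h5
  rw [Set.ncard_univ, hM] at h3
  omega

theorem exists_fixing (hM : Nat.card M = 7 ^ 4) (ht : Frame5 t) (htP : ∀ k, t k ∈ P)
    (hfx : ∀ y n : M ≃ₗ[ZMod 7] M, y * y = 1 → (∀ v : M, n (y v) = -(y (n v))) → Nat.card (fx y) ^ 2 = Nat.card M)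
    [Nontrivial M] {h : ℕ} (hh : Half P h) : 2 ∣ h := by
  have h1 : Nat.card (fx (t 0)) ^ 2 = Nat.card M := hfx _ (t 1) (ht.sq 0) (anti' ht (by decide))
  have h2 : Nat.card (fx (t 0)) = 49 := by
    rw [hM] at h1
    exact Nat.pow_left_injective (n := 2) (by norm_num) (by simpa only [_root_.Fin.isValue, _root_.Cfsg.Agent.H828.HT.mem_fx, _root_.Nat.card_eq_fintype_card, _root_.Nat.reducePow] using h1)
  obtain ⟨v, hv⟩ : ∃ v : fx (t 0), v ≠ 0 := by
    have : Nontrivial (fx (t 0)) := Finite.one_lt_card_iff_nontrivial.1 (by rw [h2]; norm_num)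
    exact exists_ne 0
  have hv0 : (v : M) ≠ 0 := fun h => hv (Subtype.ext h)
  rw [← hh v hv0]
  have h3 : (⟨t 0, htP 0⟩ : P) ∈ MulAction.stabilizer P (v : M) := mem_fx.1 v.2
  have h4 : orderOf (⟨⟨t 0, htP 0⟩, h3⟩ : MulAction.stabilizer P (v : M)) = 2 := by
    refine orderOf_eq_prime ?_ ?_
    · apply Subtype.ext; apply Subtype.ext
      change (t 0) ^ 2 = 1
      rw [pow_two]; exact ht.sq 0
    · intro h5
      have h6 : t 0 = 1 := congrArg (fun x : MulAction.stabilizer P (v : M) => ((x : P) : M ≃ₗ[ZMod 7] M)) h5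
      obtain ⟨w, hw⟩ := exists_ne (0 : M)
      have h7 := anti' ht (show (0 : Fin 5) ≠ 1 by decide) w
      rw [h6] at h7
      change t 1 w = -(t 1 w) at h7
      have h8 := eq_zero_of_neg (p := 7) (by norm_num) h7
      rw [LinearEquiv.map_eq_zero_iff] at h8
      exact hw h8
  rw [← h4]
  exact orderOf_dvd_natCard _

/-- all transpositions occur -/
theorem all_swaps [Nontrivial M] (hM : Nat.card M = 7 ^ 4) (ht : Frame5 t) (htP : ∀ k, t k ∈ P)
    (hsc : ∀ x : M ≃ₗ[ZMod 7] M, (∀ k, ∀ v : M, x (t k v) = t k (x v)) → ∃ c : ZMod 7, ∀ v : M, x v = c • v)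
    (hfx : ∀ y n : M ≃ₗ[ZMod 7] M, y * y = 1 → (∀ v : M, n (y v) = -(y (n v))) → Nat.card (fx y) ^ 2 = Nat.card M)
    (hty : ∀ y ∈ H662.HT.Inv P, (∃ k, y = t k ∨ ∀ w : M, y w = -(t k w)) ∨
      ∃ a b : Fin 5, a ≠ b ∧ ((∀ v, y (t a v) = t b (y v)) ∨ (∀ v, y (t a v) = -(t b (y v)))) ∧
        ∀ c, c ≠ a → c ≠ b → ∀ v, y (t c v) = -(t c (y v)))
    {h : ℕ} (hh : Half P h) {a b : Fin 5} (hab : a < b) : ∃ y, Ty t P a b y := by
  classical
  by_contra hno
  have h2 := exists_fixing hM ht htP hfx hh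
  have h1920 := card_Fs hM ht hfx
  set Q : Finset (Fin 5 × Fin 5) := Finset.univ.filter (fun q => q.1 < q.2) with hQ
  have hQc : Q.card = 10 := by rw [hQ]; decide
  have hmem : (a, b) ∈ Q := by rw [hQ, Finset.mem_filter]; exact ⟨Finset.mem_univ _, hab⟩
  have hsub : Fs t ⊆ ⋃ q ∈ Q.erase (a, b), Gs t P q.1 q.2 := by
    rintro v ⟨hv, hv'⟩
    have h3 : 2 ∣ Nat.card (MulAction.stabilizer P v) := by rw [hh v hv]; exact h2
    obtain ⟨y, hy⟩ := exists_prime_orderOf_dvd_card' 2 h3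
    set y' : M ≃ₗ[ZMod 7] M := ((y : P) : M ≃ₗ[ZMod 7] M) with hy'
    have hyv : y' v = v := y.2
    have hyP : y' ∈ P := (y : P).2
    have hyy : y' * y' = 1 := by
      have h4 : y ^ 2 = 1 := by rw [← hy]; exact pow_orderOf_eq_one y
      have h5 := congrArg (fun x : MulAction.stabilizer P v => ((x : P) : M ≃ₗ[ZMod 7] M)) h4
      rw [pow_two] at h5
      exact h5
    have hy1 : y' ≠ 1 := by
      intro h4
      have h5 : y = 1 := Subtype.ext (Subtype.ext h4)
      rw [h5, orderOf_one] at hy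
      norm_num at hy
    have hI : y' ∈ H662.HT.Inv P := ⟨hyP, hyy, hy1, v, fun h4 => hv (eq_zero_of_neg (p := 7) (by norm_num) (hyv.symm.trans h4))⟩
    have hsq : ∀ v, y' (y' v) = v := fun v => LinearEquiv.congr_fun hyy v
    rcases hty y' hI with ⟨k, hk | hk⟩ | ⟨c, d, hcd, h4, h5⟩
    · exact absurd (by rw [← hk, hyv]) (hv' k).1
    · exact absurd (by rw [hk, neg_eq_iff_eq_neg] at hyv; exact hyv) (hv' k).2
    · have hT : Ty t P c d y' := ⟨hyP, hsq, h4, h5⟩
      have key : ∀ c d : Fin 5, c < d → Ty t P c d y' → v ∈ ⋃ q ∈ Q.erase (a, b), Gs t P q.1 q.2 := by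
        intro c d hcd hT
        simp only [Set.mem_iUnion]
        refine ⟨(c, d), ?_, hv, y', hT, hyv⟩
        rw [Finset.mem_erase, hQ, Finset.mem_filter]
        refine ⟨fun h6 => ?_, Finset.mem_univ _, hcd⟩
        rw [Prod.mk.injEq] at h6
        rw [h6.1, h6.2] at hT
        exact hno ⟨_, hT⟩
      rcases lt_or_gt_of_ne hcd with h6 | h6
      · exact key c d h6 hT
      · exact key d c h6 hT.symm
  have h3 := Set.ncard_le_ncard hsub (Set.toFinite _)
  have h4 : (⋃ q ∈ Q.erase (a, b), Gs t P q.1 q.2).ncard ≤ 1728 := by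
    refine (Finset.set_ncard_biUnion_le _ _).trans ?_
    refine (Finset.sum_le_card_nsmul _ _ 192 fun q hq => ?_).trans ?_
    · rw [Finset.mem_erase, hQ, Finset.mem_filter] at hq
      exact card_Gs hM ht hsc hfx (ne_of_lt hq.2.2)
    · rw [Finset.card_erase_of_mem hmem, hQc]; norm_num
  omega

/-- a type is a transposition -/
theorem Ty.perm [Nontrivial M] (ht : Frame5 t) (hn : Norm5 t P) {a b : Fin 5} {y : M ≃ₗ[ZMod 7] M}
    (h : Ty t P a b y) : permHom (by norm_num) ht hn ⟨y, h.mem⟩ = Equiv.swap a b := by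
  ext k
  congr 1
  refine permHom_eq (by norm_num) ht hn ?_
  change Rel t y k (Equiv.swap a b k)
  by_cases hka : k = a
  · subst hka
    rw [Equiv.swap_apply_left]
    exact h.ab
  by_cases hkb : k = b
  · subst hkb
    rw [Equiv.swap_apply_right]
    exact h.symm.ab
  rw [Equiv.swap_apply_of_ne_of_ne hka hkb]
  exact Or.inr (h.ot k hka hkb)

theorem alpha_seven_aux (hM : Nat.card M = 7 ^ 4) (ht : Frame5 t) (hn : Norm5 t P) (htP : ∀ k, t k ∈ P)
    (hsc : ∀ x : M ≃ₗ[ZMod 7] M, (∀ k, ∀ v : M, x (t k v) = t k (x v)) → ∃ c : ZMod 7, ∀ v : M, x v = c • v)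
    (hfx : ∀ y n : M ≃ₗ[ZMod 7] M, y * y = 1 → (∀ v : M, n (y v) = -(y (n v))) → Nat.card (fx y) ^ 2 = Nat.card M)
    (hty : ∀ y ∈ H662.HT.Inv P, (∃ k, y = t k ∨ ∀ w : M, y w = -(t k w)) ∨
      ∃ a b : Fin 5, a ≠ b ∧ ((∀ v, y (t a v) = t b (y v)) ∨ (∀ v, y (t a v) = -(t b (y v)))) ∧
        ∀ c, c ≠ a → c ≠ b → ∀ v, y (t c v) = -(t c (y v)))
    {h m : ℕ} (hh : Half P h) (hm : m * h = Nat.card P) (hm' : m ∣ 480) : False := by
  classical
  have : Nontrivial M := Finite.one_lt_card_iff_nontrivial.1 (by rw [hM]; norm_num)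
  have h7 : 3 ≤ 7 := by norm_num
  have hs : ∀ a b : Fin 5, a ≠ b → ∃ g : P, permHom h7 ht hn g = Equiv.swap a b := by
    intro a b hab
    rcases lt_or_gt_of_ne hab with h6 | h6
    · obtain ⟨y, hy⟩ := all_swaps hM ht htP hsc hfx hty hh h6
      exact ⟨⟨y, hy.mem⟩, hy.perm ht hn⟩
    · obtain ⟨y, hy⟩ := all_swaps hM ht htP hsc hfx hty hh h6
      refine ⟨⟨y, hy.mem⟩, ?_⟩
      rw [hy.perm ht hn, Equiv.swap_comm]
  have h1 := card_dvd h7 ht hn htP hs
  have h4 : 4 ∣ h := by
    have h2 : 480 * 4 ∣ 480 * h := by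
      rw [← hm] at h1
      exact h1.trans (mul_dvd_mul_right hm' h)
    exact Nat.dvd_of_mul_dvd_mul_left (by norm_num) h2
  have h5 := card_Fs hM ht hfx
  obtain ⟨v, hv, hv'⟩ : (Fs t).Nonempty := by
    rw [← Set.ncard_pos]; omega
  set χ : MulAction.stabilizer P v →* ℤˣ :=
    (Equiv.Perm.sign).comp ((permHom h7 ht hn).comp (MulAction.stabilizer P v).subtype) with hχ
  have h6 := Subgroup.card_mul_index χ.ker
  rw [Subgroup.index_ker, hh v hv] at h6
  have h8 : Nat.card χ.range ∣ 2 := by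
    have h9 := Subgroup.card_subgroup_dvd_card χ.range
    have h10 : Nat.card ℤˣ = 2 := by rw [Nat.card_eq_fintype_card]; rfl
    rwa [h10] at h9
  have h9 : 2 ∣ Nat.card χ.ker := by
    have h10 : 2 * 2 ∣ Nat.card χ.ker * 2 := by
      refine Dvd.dvd.trans ?_ (mul_dvd_mul_left (Nat.card χ.ker) h8)
      rw [h6]; exact h4
    exact Nat.dvd_of_mul_dvd_mul_right (by norm_num) h10
  obtain ⟨y, hy⟩ := exists_prime_orderOf_dvd_card' 2 h9
  set y' : M ≃ₗ[ZMod 7] M := (((y : MulAction.stabilizer P v) : P) : M ≃ₗ[ZMod 7] M) with hy'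
  have hyv : y' v = v := (y : MulAction.stabilizer P v).2
  have hyP : y' ∈ P := ((y : MulAction.stabilizer P v) : P).2
  have hyy : y' * y' = 1 := by
    have h4 : y ^ 2 = 1 := by rw [← hy]; exact pow_orderOf_eq_one y
    have h5 := congrArg (fun x : χ.ker => (((x : MulAction.stabilizer P v) : P) : M ≃ₗ[ZMod 7] M)) h4
    rw [pow_two] at h5
    exact h5
  have hy1 : y' ≠ 1 := by
    intro h4
    have h5 : y = 1 := Subtype.ext (Subtype.ext (Subtype.ext h4))
    rw [h5, orderOf_one] at hy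
    norm_num at hy
  have hI : y' ∈ H662.HT.Inv P := ⟨hyP, hyy, hy1, v, fun h4 => hv (eq_zero_of_neg (p := 7) (by norm_num) (hyv.symm.trans h4))⟩
  have hsq : ∀ v, y' (y' v) = v := fun v => LinearEquiv.congr_fun hyy v
  rcases hty y' hI with ⟨k, hk | hk⟩ | ⟨c, d, hcd, h10, h11⟩
  · exact absurd (by rw [← hk, hyv]) (hv' k).1
  · exact absurd (by rw [hk, neg_eq_iff_eq_neg] at hyv; exact hyv) (hv' k).2
  · have hT : Ty t P c d y' := ⟨hyP, hsq, h10, h11⟩
    have h12 : χ (y : MulAction.stabilizer P v) = 1 := y.2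
    have h13 : χ (y : MulAction.stabilizer P v) = Equiv.Perm.sign (permHom h7 ht hn ⟨y', hyP⟩) := rfl
    rw [h13, hT.perm ht hn, Equiv.Perm.sign_swap hcd] at h12
    exact absurd h12 (by decide)

end card

end seven

/-- **C3b** -/
theorem alpha_seven {M : Type u} [AddCommGroup M] [Fact (Nat.Prime 7)] [Module (ZMod 7) M] [Finite M]
    (hM : Nat.card M = 7 ^ 4) {t : Fin 5 → (M ≃ₗ[ZMod 7] M)} (ht : Frame5 t) {P : Subgroup (M ≃ₗ[ZMod 7] M)}
    (hn : Norm5 t P) (htP : ∀ k, t k ∈ P) {h m : ℕ} (hh : Half P h) (_h2 : 2 ≤ h)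
    (hm : m * h = Nat.card P) (hm' : m ∣ 480) : False :=
  alpha_seven_aux hM ht hn htP (fun x hx => H528.HT.scalar_of_comm (by norm_num) ht hM x hx)
    (fun y n hy hn => H528.HT.card_fx_anti (by norm_num) hy hn)
    (fun _ hy => H486.HT.seven_type hM ht hn hy) hh hm hm'

end Cfsg.Agent.H140.HT
end

-- part: H212/HT/SymExt
section
/-!
# Groups of symplectic type: adding a square root of `-1` (S3540, S3577, task C4; helper212)
-/

set_option autoImplicit false
set_option linter.unusedSectionVars false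

open scoped commutatorElement

namespace Cfsg.Agent.H212.HT

open Cfsg.Agent.H662.HT

universe u

variable {p : ℕ} [Fact p.Prime] {M : Type u} [AddCommGroup M] [Module (ZMod p) M] [Finite M] {a : ℕ}
  {N : Subgroup (M ≃ₗ[ZMod p] M)} {i : M ≃ₗ[ZMod p] M}

theorem eq_zero_of_neg' (h2 : ¬ 2 ∣ Nat.card M) {v : M} (h : v = -v) : v = 0 := by
  have h1 : 2 • v = 0 := by
    rw [two_nsmul]
    nth_rewrite 2 [h]
    exact add_neg_cancel v
  have h3 : addOrderOf v ∣ 2 := addOrderOf_dvd_of_nsmul_eq_zero h1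
  have h4 : addOrderOf v ∣ Nat.card M := addOrderOf_dvd_natCard v
  rcases (Nat.dvd_prime Nat.prime_two).1 h3 with h5 | h5
  · exact AddMonoid.addOrderOf_eq_one_iff.1 h5
  · rw [h5] at h4
    exact absurd h4 h2

/-- the centre of order 2 is generated by `-1` -/
theorem center_neg (H : Sym 2 a N M) (hz : Nat.card (Subgroup.center N) = 2) :
    ∃ z : M ≃ₗ[ZMod p] M, z ∈ N ∧ (∀ v, z v = -v) ∧ ∀ x : N, x ∈ Subgroup.center N → x = 1 ∨ (x : M ≃ₗ[ZMod p] M) = z := by
  have hfin := H.fin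
  have hsq : ∀ x ∈ Subgroup.center N, x * x = 1 := by
    intro x hx
    have h1 : (⟨x, hx⟩ : Subgroup.center N) ^ Nat.card (Subgroup.center N) = 1 := pow_card_eq_one'
    rw [hz, pow_two] at h1
    exact congrArg Subtype.val h1
  have hneg : ∀ x ∈ Subgroup.center N, x ≠ 1 → ∀ v, (x : M ≃ₗ[ZMod p] M) v = -v := by
    intro x hx hx1 v
    have h1 : x • (v + x • v) = v + x • v := by
      rw [smul_add, smul_smul, hsq x hx, one_smul, add_comm]
    have h2 := H.semi x hx hx1 _ h1
    have h3 : v + (x : M ≃ₗ[ZMod p] M) v = 0 := h2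
    exact (neg_eq_of_add_eq_zero_right h3).symm
  obtain ⟨⟨z, hzc⟩, hz1⟩ : ∃ z : Subgroup.center N, z ≠ 1 := by
    have h1 : Nontrivial (Subgroup.center N) := Finite.one_lt_card_iff_nontrivial.1 (by rw [hz]; norm_num)
    exact exists_ne 1
  have hz1' : z ≠ 1 := fun h => hz1 (Subtype.ext h)
  refine ⟨z, z.2, hneg z hzc hz1', fun x hx => ?_⟩
  by_cases h : x = 1
  · exact Or.inl h
  · right
    ext v
    rw [hneg x hx h, hneg z hzc hz1']

/-- C4 -/
theorem sym_ext (H : Sym 2 a N M) (hz : Nat.card (Subgroup.center N) = 2)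
    (hi : ∀ v : M, i (i v) = -v) (hc : ∀ x ∈ N, i * x = x * i) :
    Sym 2 a (N ⊔ Subgroup.zpowers i : Subgroup (M ≃ₗ[ZMod p] M)) M ∧
      Full 2 (N ⊔ Subgroup.zpowers i : Subgroup (M ≃ₗ[ZMod p] M)) := by
  obtain ⟨z, hzN, hzv, hzc⟩ := center_neg H hz
  have h2 := H.cop
  have hnt := H.nt
  have hii : i * i = z := by
    ext v
    rw [hzv]
    exact hi v
  have hzz : z * z = 1 := by
    ext v
    change z (z v) = v
    rw [hzv, hzv, neg_neg]
  have hz1 : z ≠ 1 := by
    obtain ⟨v, hv⟩ := exists_ne (0 : M)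
    intro h
    apply hv
    apply eq_zero_of_neg' h2
    have := hzv v
    rw [h] at this
    exact this
  have hzcen : ∀ x : M ≃ₗ[ZMod p] M, z * x = x * z := by
    intro x
    ext v
    change z (x v) = x (z v)
    rw [hzv, hzv, map_neg]
  have hcen : ∀ (n : M ≃ₗ[ZMod p] M) (hn : n ∈ N), (∀ m ∈ N, m * n = n * m) → n = 1 ∨ n = z := by
    intro n hn h
    have h1 : (⟨n, hn⟩ : N) ∈ Subgroup.center N := by
      rw [Subgroup.mem_center_iff]
      intro m
      exact Subtype.ext (h m m.2)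
    rcases hzc _ h1 with h3 | h3
    · exact Or.inl (congrArg Subtype.val h3)
    · exact Or.inr h3
  have hiN : i ∉ N := by
    intro h
    rcases hcen i h (fun m hm => (hc m hm).symm) with h1 | h1
    · rw [h1, one_mul] at hii
      exact hz1 hii.symm
    · rw [h1, hzz] at hii
      exact hz1 hii.symm
  have hinv : i⁻¹ = z * i := by
    rw [inv_eq_iff_mul_eq_one, ← mul_assoc, ← hzcen, mul_assoc, hii, hzz]
  set K : Subgroup (M ≃ₗ[ZMod p] M) := N ⊔ Subgroup.zpowers i with hK
  have hNK : N ≤ K := le_sup_left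
  have hiK : i ∈ K := (le_sup_right : Subgroup.zpowers i ≤ K) (Subgroup.mem_zpowers i)
  -- elements of `K`
  have mem : ∀ x, x ∈ K ↔ ∃ n ∈ N, x = n ∨ x = n * i := by
    let K' : Subgroup (M ≃ₗ[ZMod p] M) :=
      { carrier := {x | ∃ n ∈ N, x = n ∨ x = n * i}
        mul_mem' := by
          rintro x y ⟨n, hn, h1 | h1⟩ ⟨m, hm, h2 | h2⟩
          · exact ⟨n * m, N.mul_mem hn hm, Or.inl (by rw [h1, h2])⟩
          · exact ⟨n * m, N.mul_mem hn hm, Or.inr (by rw [h1, h2, mul_assoc])⟩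
          · exact ⟨n * m, N.mul_mem hn hm, Or.inr (by rw [h1, h2, mul_assoc, hc m hm, mul_assoc])⟩
          · refine ⟨n * m * z, N.mul_mem (N.mul_mem hn hm) hzN, Or.inl ?_⟩
            rw [h1, h2, ← hii, mul_assoc, ← mul_assoc i m i, hc m hm, mul_assoc, mul_assoc]
        one_mem' := ⟨1, N.one_mem, Or.inl rfl⟩
        inv_mem' := by
          rintro x ⟨n, hn, h1 | h1⟩
          · exact ⟨n⁻¹, N.inv_mem hn, Or.inl (by rw [h1])⟩
          · refine ⟨n⁻¹ * z, N.mul_mem (N.inv_mem hn) hzN, Or.inr ?_⟩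
            rw [h1, mul_inv_rev, hinv, mul_assoc, hc _ (N.inv_mem hn), ← mul_assoc, hzcen] }
    have hKK : K ≤ K' := by
      refine sup_le (fun n hn => ⟨n, hn, Or.inl rfl⟩) ?_
      rw [Subgroup.zpowers_le]
      exact ⟨1, N.one_mem, Or.inr (one_mul _).symm⟩
    intro x
    constructor
    · exact fun hx => hKK hx
    · rintro ⟨n, hn, h | h⟩
      · rw [h]; exact hNK hn
      · rw [h]; exact K.mul_mem (hNK hn) hiK
  have hcK : ∀ x ∈ K, i * x = x * i := by
    intro x hx
    obtain ⟨n, hn, h | h⟩ := (mem x).1 hx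
    · rw [h]; exact hc n hn
    · rw [h, ← mul_assoc, hc n hn]
  -- the centre
  have hcenK : ∀ x : K, x ∈ Subgroup.center K ↔ (x : M ≃ₗ[ZMod p] M) ∈ Subgroup.zpowers i := by
    intro x
    constructor
    · intro hx
      rw [Subgroup.mem_center_iff] at hx
      have hx' : ∀ m ∈ N, m * (x : M ≃ₗ[ZMod p] M) = x * m := fun m hm => congrArg Subtype.val (hx ⟨m, hNK hm⟩)
      obtain ⟨n, hn, h | h⟩ := (mem x).1 x.2
      · rw [h] at hx' ⊢
        rcases hcen n hn hx' with h3 | h3
        · rw [h3]; exact Subgroup.one_mem _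
        · rw [h3, ← hii]; exact Subgroup.mul_mem _ (Subgroup.mem_zpowers i) (Subgroup.mem_zpowers i)
      · rw [h] at hx' ⊢
        have h4 : ∀ m ∈ N, m * n = n * m := by
          intro m hm
          have h5 := hx' m hm
          rw [mul_assoc n i m, hc m hm, ← mul_assoc, ← mul_assoc] at h5
          exact mul_right_cancel h5
        rcases hcen n hn h4 with h3 | h3
        · rw [h3, one_mul]; exact Subgroup.mem_zpowers i
        · rw [h3, ← hii]
          exact Subgroup.mul_mem _ (Subgroup.mul_mem _ (Subgroup.mem_zpowers i) (Subgroup.mem_zpowers i))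
            (Subgroup.mem_zpowers i)
    · intro hx
      rw [Subgroup.mem_center_iff]
      intro y
      apply Subtype.ext
      obtain ⟨k, hk⟩ := Subgroup.mem_zpowers_iff.1 hx
      have h3 : Commute i (y : M ≃ₗ[ZMod p] M) := hcK y y.2
      have h4 := (h3.zpow_left k).eq
      rw [hk] at h4
      exact h4.symm
  have hmap : (Subgroup.center K).map K.subtype = Subgroup.zpowers i := by
    ext x
    constructor
    · rintro ⟨y, hy, rfl⟩
      exact (hcenK y).1 hy
    · intro hx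
      have hxK : x ∈ K := (le_sup_right : Subgroup.zpowers i ≤ K) hx
      exact ⟨⟨x, hxK⟩, (hcenK _).2 hx, rfl⟩
  have hord : orderOf i = 4 := by
    have h3 := orderOf_eq_prime_pow (p := 2) (n := 1) (x := i) (by rw [pow_one, pow_two, hii]; exact hz1)
      (by rw [show 2 ^ (1 + 1) = 2 * 2 by norm_num, pow_mul, pow_two, pow_two, hii, hzz])
    rw [h3]; norm_num
  have hcardc : Nat.card (Subgroup.center K) = 4 := by
    rw [Nat.card_congr ((Subgroup.center K).equivMapOfInjective K.subtype K.subtype_injective).toEquiv, hmap,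
      Nat.card_zpowers, hord]
  have hcardK : Nat.card K = Nat.card N * 2 := by
    have hf : Function.Bijective (fun q : N × Bool => (⟨q.1 * (if q.2 then i else 1), by
        rw [mem]
        refine ⟨q.1, q.1.2, ?_⟩
        cases q.2
        · left; simp
        · right; simp⟩ : K)) := by
      constructor
      · rintro ⟨n, b⟩ ⟨m, c⟩ h
        have h3 : (n : M ≃ₗ[ZMod p] M) * (if b then i else 1) = m * (if c then i else 1) := congrArg Subtype.val h
        cases b <;> cases c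
        · simp only [Bool.false_eq_true, if_false, mul_one] at h3
          exact Prod.ext (Subtype.ext h3) rfl
        · exfalso
          simp only [Bool.false_eq_true, if_false, mul_one, if_true] at h3
          apply hiN
          have h4 : i = (m : M ≃ₗ[ZMod p] M)⁻¹ * n := by rw [h3, inv_mul_cancel_left]
          rw [h4]
          exact N.mul_mem (N.inv_mem m.2) n.2
        · exfalso
          simp only [Bool.false_eq_true, if_false, mul_one, if_true] at h3
          apply hiN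
          have h4 : i = (n : M ≃ₗ[ZMod p] M)⁻¹ * m := by rw [← h3, inv_mul_cancel_left]
          rw [h4]
          exact N.mul_mem (N.inv_mem n.2) m.2
        · simp only [if_true] at h3
          exact Prod.ext (Subtype.ext (mul_right_cancel h3)) rfl
      · rintro ⟨x, hx⟩
        obtain ⟨n, hn, h | h⟩ := (mem x).1 hx
        · exact ⟨⟨⟨n, hn⟩, false⟩, Subtype.ext (by simp [h])⟩
        · exact ⟨⟨⟨n, hn⟩, true⟩, Subtype.ext (by simp [h])⟩
    rw [← Nat.card_eq_of_bijective _ hf, Nat.card_prod]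
    simp only [_root_.Nat.card_eq_fintype_card, _root_.Fintype.card_bool]
  have hsqN : ∀ n ∈ N, n * n = 1 ∨ n * n = z := by
    intro n hn
    have h3 := H.exp ⟨n, hn⟩
    rcases hzc _ h3 with h4 | h4
    · left
      have h5 := congrArg Subtype.val h4
      rwa [pow_two] at h5
    · right
      rw [← h4, pow_two]
      rfl
  have hsqK : ∀ x ∈ K, x * x = 1 ∨ x * x = z := by
    intro x hx
    obtain ⟨n, hn, h | h⟩ := (mem x).1 hx
    · rw [h]; exact hsqN n hn
    · have h3 : x * x = n * n * z := by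
        rw [h, ← hii, mul_assoc, ← mul_assoc i n i, hc n hn, mul_assoc, mul_assoc]
      rcases hsqN n hn with h4 | h4
      · right; rw [h3, h4, one_mul]
      · left; rw [h3, h4, hzz]
  have hzz' : z ∈ Subgroup.zpowers i := by
    rw [← hii]; exact Subgroup.mul_mem _ (Subgroup.mem_zpowers i) (Subgroup.mem_zpowers i)
  have hfinG : Finite (M ≃ₗ[ZMod p] M) :=
    Finite.of_injective (fun g : M ≃ₗ[ZMod p] M => (g : M → M)) DFunLike.coe_injective
  refine ⟨⟨inferInstance, inferInstance, H.hs, H.ha, H.nt, H.cop, ?_, ?_, ?_, ?_, ?_⟩, ?_⟩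
  · have e := (Subgroup.center K).equivMapOfInjective K.subtype K.subtype_injective
    rw [hmap] at e
    exact isCyclic_of_surjective e.symm e.symm.surjective
  · intro x hx hx1 v hv
    have hv' : (x : M ≃ₗ[ZMod p] M) v = v := hv
    rcases hsqK x x.2 with h3 | h3
    · -- `x = z`
      have h4 := (hcenK x).1 hx
      obtain ⟨k, hk⟩ := Subgroup.mem_zpowers_iff.1 h4
      have h5 : (x : M ≃ₗ[ZMod p] M) = z := by
        obtain ⟨n, hn, h | h⟩ := (mem x).1 x.2
        · rw [Subgroup.mem_center_iff] at hx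
          have hx' : ∀ m ∈ N, m * n = n * m := by
            intro m hm
            have := congrArg Subtype.val (hx ⟨m, hNK hm⟩)
            rw [← h]; exact this
          rcases hcen n hn hx' with h6 | h6
          · exact absurd (Subtype.ext (h.trans h6)) hx1
          · exact h.trans h6
        · exfalso
          rw [Subgroup.mem_center_iff] at hx
          have hx' : ∀ m ∈ N, m * n = n * m := by
            intro m hm
            have h7 := congrArg Subtype.val (hx ⟨m, hNK hm⟩)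
            have h8 : m * (x : M ≃ₗ[ZMod p] M) = x * m := h7
            rw [h, mul_assoc n i m, hc m hm, ← mul_assoc, ← mul_assoc] at h8
            exact mul_right_cancel h8
          have h9 : n * n = 1 := by
            rcases hcen n hn hx' with h6 | h6
            · rw [h6, mul_one]
            · rw [h6, hzz]
          have h10 : (x : M ≃ₗ[ZMod p] M) * x = n * n * z := by
            rw [h, ← hii, mul_assoc, ← mul_assoc i n i, hc n hn, mul_assoc, mul_assoc]
          rw [h10, h9, one_mul] at h3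
          exact hz1 h3
      rw [h5, hzv] at hv'
      exact eq_zero_of_neg' h2 hv'.symm
    · have h4 : ((x : M ≃ₗ[ZMod p] M) * x) v = v := by
        change (x : M ≃ₗ[ZMod p] M) ((x : M ≃ₗ[ZMod p] M) v) = v
        rw [hv', hv']
      rw [h3, hzv] at h4
      exact eq_zero_of_neg' h2 h4.symm
  · intro x y
    rw [hcenK]
    have hcm : ∀ n ∈ N, ∀ m ∈ N, ⁅n, m⁆ ∈ Subgroup.zpowers i := by
      intro n hn m hm
      have h3 := H.comm ⟨n, hn⟩ ⟨m, hm⟩
      rcases hzc _ h3 with h4 | h4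
      · have h5 : ⁅n, m⁆ = 1 := congrArg Subtype.val h4
        rw [h5]; exact Subgroup.one_mem _
      · have h5 : ⁅n, m⁆ = z := h4
        rw [h5]; exact hzz'
    have hci : ∀ n m : M ≃ₗ[ZMod p] M, m ∈ K → ⁅n * i, m⁆ = ⁅n, m⁆ := by
      intro n m hm
      rw [commutatorElement_def, commutatorElement_def, mul_inv_rev, mul_assoc n i m, hcK m hm]
      group
    have hci' : ∀ n m : M ≃ₗ[ZMod p] M, n ∈ K → ⁅n, m * i⁆ = ⁅n, m⁆ := by
      intro n m hn
      rw [← inv_inj, commutatorElement_inv, commutatorElement_inv]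
      exact hci m n hn
    obtain ⟨n, hn, h | h⟩ := (mem x).1 x.2
    · obtain ⟨m, hm, h' | h'⟩ := (mem y).1 y.2
      · change ⁅(x : M ≃ₗ[ZMod p] M), (y : M ≃ₗ[ZMod p] M)⁆ ∈ _
        rw [h, h']; exact hcm n hn m hm
      · change ⁅(x : M ≃ₗ[ZMod p] M), (y : M ≃ₗ[ZMod p] M)⁆ ∈ _
        rw [h, h', hci' n m (hNK hn)]; exact hcm n hn m hm
    · obtain ⟨m, hm, h' | h'⟩ := (mem y).1 y.2
      · change ⁅(x : M ≃ₗ[ZMod p] M), (y : M ≃ₗ[ZMod p] M)⁆ ∈ _
        rw [h, h', hci n m (hNK hm)]; exact hcm n hn m hm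
      · change ⁅(x : M ≃ₗ[ZMod p] M), (y : M ≃ₗ[ZMod p] M)⁆ ∈ _
        rw [h, h', hci n _ (K.mul_mem (hNK hm) hiK), hci' n m (hNK hn)]; exact hcm n hn m hm
  · intro x
    rw [hcenK]
    change (x : M ≃ₗ[ZMod p] M) ^ 2 ∈ _
    rw [pow_two]
    rcases hsqK x x.2 with h3 | h3
    · rw [h3]; exact Subgroup.one_mem _
    · rw [h3]; exact hzz'
  · rw [hcardK, hcardc, H.card, hz]
    ring
  · intro x
    rcases hsqK x x.2 with h3 | h3
    · refine ⟨1, Subgroup.one_mem _, ?_⟩
      apply Subtype.ext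
      rw [mul_one, pow_two]
      exact h3
    · refine ⟨⟨i, hiK⟩, (hcenK _).2 (Subgroup.mem_zpowers i), ?_⟩
      apply Subtype.ext
      rw [pow_two]
      change (x : M ≃ₗ[ZMod p] M) * i * (x * i) = 1
      rw [mul_assoc, ← mul_assoc i x i, hcK x x.2, mul_assoc, ← mul_assoc, hii, h3, hzz]

end Cfsg.Agent.H212.HT
end

-- part: H662/HT/Leaf
section
/-!
# Half-transitive linear groups: the leaves of HT-E under one roof (S3540, S3577; helper662)
-/

set_option autoImplicit false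

open scoped commutatorElement
open Finset

namespace Cfsg.Agent.H662.HT.Leaf

open Cfsg.Agent.H828.HT Cfsg.Agent.H662.HT

universe u v

section numbers

variable {s a : ℕ} {N : Type u} {V : Type v} [Group N] [AddCommGroup V] [DistribMulAction N V]

theorem numbers_full (H : Sym s a N V) (hF : Full s N) (big : 3 ≤ s ∨ 2 ≤ a) :
    ∃ Q : ℕ, 1 < Q ∧ Nat.card V = Q ^ (s ^ a) ∧ Nat.card (Subgroup.center N) ∣ Q - 1 ∧
      Nat.card (spec s a N V) = s ^ a * (∏ i ∈ range a, (s ^ (i + 1) + 1)) * (Q - 1) ∧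
      ∃ v : V, v ≠ 0 ∧ MulAction.stabilizer N v = ⊥ :=
  Cfsg.Agent.H177.HT.Sym_numbers_full H hF big

theorem numbers_plus (H : Sym 2 a N V) (hz : Nat.card (Subgroup.center N) = 2) (ha : 2 ≤ a)
    (hσ : Nat.card (sol 2 (⊥ : Subgroup N)) = 2 ^ (2 * a) + 2 ^ a) :
    ∃ Q : ℕ, 1 < Q ∧ Nat.card V = Q ^ (2 ^ a) ∧
      Nat.card (spec 2 a N V) = 2 ^ a * (∏ i ∈ range a, (2 ^ i + 1)) * (Q - 1) ∧
      ∃ v : V, v ≠ 0 ∧ MulAction.stabilizer N v = ⊥ :=
  Cfsg.Agent.H755.HT.Sym_numbers_plus H hz ha hσ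

theorem numbers_minus (H : Sym 2 a N V) (hz : Nat.card (Subgroup.center N) = 2) (ha : 2 ≤ a)
    (hσ : Nat.card (sol 2 (⊥ : Subgroup N)) + 2 ^ a = 2 ^ (2 * a)) :
    ∃ Q : ℕ, 1 < Q ∧ 8 ∣ Q - 1 ∧ Nat.card V = Q ^ (2 ^ (a - 1)) ∧
      Nat.card (spec 2 (a - 1) N V) = 2 ^ (a - 1) * (∏ i ∈ Icc 2 a, (2 ^ i + 1)) * (Q - 1) ∧
      ((a = 2 ∧ Q = 9) ∨ ∃ v : V, v ≠ 0 ∧ MulAction.stabilizer N v = ⊥) :=
  Cfsg.Agent.H755.HT.Sym_numbers_minus H hz ha hσ

theorem sol_two (H : Sym 2 a N V) (hz : Nat.card (Subgroup.center N) = 2) :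
    ∃ σ : ℤ, (σ = 2 ^ a ∨ σ = -2 ^ a) ∧ ∀ S : Subgroup N, S ⊓ Subgroup.center N = ⊥ →
      (Nat.card (sol 2 S) : ℤ) * Nat.card S = 2 ^ (2 * a) + σ * Nat.card S :=
  Cfsg.Agent.H990.HT.Sym_sol_two H hz

end numbers

section alpha

variable {p : ℕ} [Fact p.Prime] {M : Type u} [AddCommGroup M] [Module (ZMod p) M] [Finite M]

theorem exists_frame (hp : 3 ≤ p) {E : Subgroup (M ≃ₗ[ZMod p] M)} (H : Sym 2 2 E M)
    (hz : Nat.card (Subgroup.center E) = 2) (hσ : Nat.card (sol 2 (⊥ : Subgroup E)) = 12) :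
    ∃ t : Fin 5 → (M ≃ₗ[ZMod p] M), Frame5 t ∧ (∀ k, t k ∈ E) ∧ E = Subgroup.closure (Set.range t) ∧
      ∀ x ∈ E, x * x = 1 → (∀ v : M, x v = v) ∨ (∀ v : M, x v = -v) ∨ ∃ k, x = t k ∨ ∀ v : M, x v = -(t k v) := by
  obtain ⟨t, ht, h⟩ := Cfsg.Agent.H669.HT.exists_frame hp H hz hσ
  exact ⟨t, ⟨ht.sq, ht.anti, ht.prod⟩, h⟩

theorem alpha_seven {M : Type u} [AddCommGroup M] [Fact (Nat.Prime 7)] [Module (ZMod 7) M] [Finite M]
    (hM : Nat.card M = 7 ^ 4) {t : Fin 5 → (M ≃ₗ[ZMod 7] M)} (ht : Frame5 t) {P : Subgroup (M ≃ₗ[ZMod 7] M)}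
    (hn : Norm5 t P) (htP : ∀ k, t k ∈ P) {h m : ℕ} (hh : Half P h) (h2 : 2 ≤ h)
    (hm : m * h = Nat.card P) (hm' : m ∣ 480) : False :=
  Cfsg.Agent.H140.HT.alpha_seven hM ht hn htP hh h2 hm hm'

/-- C4 -/
theorem sym_ext {a : ℕ} {N : Subgroup (M ≃ₗ[ZMod p] M)} (H : Sym 2 a N M) (hz : Nat.card (Subgroup.center N) = 2)
    {i : M ≃ₗ[ZMod p] M} (hi : ∀ v : M, i (i v) = -v) (hc : ∀ x ∈ N, i * x = x * i) :
    Sym 2 a (N ⊔ Subgroup.zpowers i : Subgroup (M ≃ₗ[ZMod p] M)) M ∧
      Full 2 (N ⊔ Subgroup.zpowers i : Subgroup (M ≃ₗ[ZMod p] M)) :=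
  Cfsg.Agent.H212.HT.sym_ext H hz hi hc

end alpha

section beta

variable {V : Type u} [AddCommGroup V] [Fact (Nat.Prime 17)] [Module (ZMod 17) V] [Finite V]

theorem beta_two (hV : Nat.card V = 17 ^ 4) {G N : Subgroup (V ≃ₗ[ZMod 17] V)} (hN : N ≤ G)
    (hn : ∀ g ∈ G, ∀ x ∈ N, g * x * g⁻¹ ∈ N) (hG : ¬ 17 ∣ Nat.card G) {h m : ℕ} (hh : Half G h) (h2 : 2 ≤ h)
    (hm : m * h = Nat.card G) (hm' : m = 320 ∨ m = 960) (H : Sym 2 2 N V) (hF : Full 2 N)
    (hz : Nat.card (Subgroup.center N) = 4)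
    (h1 : ∀ t ∈ N, t * t = 1 → t ≠ 1 → (∃ v, t v ≠ -v) →
      h = 2 * Nat.card (Rst G t) ∧ Nat.card (Lst G t) = 6 * Nat.card (Kst G N t)) : False :=
  Cfsg.Agent.H1.HT.beta_two hV hN hn hG hh h2 hm hm' H hF hz h1

end beta

end Cfsg.Agent.H662.HT.Leaf
end

private theorem dce_12f5884e0015 : _root_.True := by
  try have : _root_.True := by simp only [_root_.Cfsg.Agent.H140.HT.Bs.eq_1]
  exact _root_.True.intro
end

-- part: H662/HT/DOne
section
prune_inst 0x4c0000e010340100000040000000002950100010000000000082407060a0292600002a00048000c04022200800004003813000430420000000a000000002107299020100011410c08800001000082400000000000000000000000000000041000200400000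
set_option linter.all false
open scoped Cfsg.Agent.FastGrp

-- part: H137/HT/Tri
section
/-!
# Three anticommuting involutions of a plane over `ZMod 17` (S3540 / S3577, TEAM HT-E, task D1; helper137)
-/

set_option autoImplicit false

namespace Cfsg.Agent.H137.HT

open Cfsg.Agent.H828.HT Cfsg.Agent.H662.HT Equiv

universe u

theorem exists_hom {H K : Type*} [Group H] [Group K] (r : H → K → Prop) (ex : ∀ g, ∃ k, r g k)
    (un : ∀ g k k', r g k → r g k' → k = k') (mul : ∀ g h k l, r g k → r h l → r (g * h) (k * l)) :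
    ∃ φ : H →* K, ∀ g, r g (φ g) :=
  ⟨MonoidHom.mk' (fun g => (ex g).choose) (fun a b => un _ _ _ (ex (a * b)).choose_spec
    (mul _ _ _ _ (ex a).choose_spec (ex b).choose_spec)), fun g => (ex g).choose_spec⟩

theorem exists_third : ∀ j k : Fin 3, ∃ l : Fin 3, l ≠ j ∧ l ≠ k := by decide

theorem three_ne : (3 : ZMod 17) ≠ 0 := by decide

theorem thr_sq : (3 : ZMod 17) * 3 * 2 = 1 := by decide

theorem gen_num : ∀ e : ZMod 17, e = 1 ∨ e = -1 → (6 - e) * (6 - e) ≠ 1 := by decide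

section plane

variable {U : Type u} [AddCommGroup U] [Fact (Nat.Prime 17)] [Module (ZMod 17) U]

theorem half_two (v : U) : (9 : ZMod 17) • v + (9 : ZMod 17) • v = v := by
  rw [← add_smul, show (9 : ZMod 17) + 9 = 1 from rfl, one_smul]

theorem eq_zero_of_neg {v : U} (h : v = -v) : v = 0 := by
  have h1 : v + v = 0 := by nth_rw 2 [h]; exact add_neg_cancel v
  rw [← half_two v, ← smul_add, h1, smul_zero]

theorem sq_eq_one {c : ZMod 17} (h : c * c = 1) : c = 1 ∨ c = -1 := mul_self_eq_one_iff.1 h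

theorem card_fx_anti [Finite U] {y n : U ≃ₗ[ZMod 17] U} (hy : ∀ v, y (y v) = v)
    (hn : ∀ v, n (y v) = -(y (n v))) : Nat.card (fx y) ^ 2 = Nat.card U := by
  have h1 := card_cm_mul y
  have h2 : (fx y).map (n : U →ₗ[ZMod 17] U) = cm y := by
    ext w
    constructor
    · rintro ⟨v, hv, rfl⟩
      have hv : y v = v := mem_fx.1 hv
      refine mem_cm.2 ⟨(8 : ZMod 17) • n v, ?_⟩
      have h3 : y (n v) = -n v := by rw [← neg_eq_iff_eq_neg, ← hn, hv]
      rw [map_smul, h3]
      change _ = (8 : ZMod 17) • n v + n v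
      rw [smul_neg, ← neg_smul]
      nth_rw 3 [← one_smul (ZMod 17) (n v)]
      rw [← add_smul]
      rfl
    · intro hw
      obtain ⟨u, hu⟩ := mem_cm.1 hw
      have hw' : y w = -w := by
        have : w = y u - u := by rw [hu]; abel
        rw [this, map_sub, hy]; abel
      refine ⟨n.symm w, mem_fx.2 ?_, n.apply_symm_apply w⟩
      apply n.injective
      rw [hn, n.apply_symm_apply, hw', neg_neg]
  have h3 : Nat.card (cm y) = Nat.card (fx y) := by
    rw [← h2]
    exact (Nat.card_congr (n.submoduleMap (fx y)).toEquiv).symm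
  rw [h3] at h1
  rw [sq, h1]

/-- three pairwise anticommuting involutions -/
structure Tri (X : Fin 3 → (U ≃ₗ[ZMod 17] U)) : Prop where
  sq : ∀ k v, X k (X k v) = v
  anti : ∀ j k, j ≠ k → ∀ v, X j (X k v) = -(X k (X j v))

/-- the commutant of two anticommuting involutions of a plane -/
theorem scalar2 [Finite U] (hU : Nat.card U = 17 ^ 2) {x y : U ≃ₗ[ZMod 17] U} (hx : ∀ v, x (x v) = v)
    (hy : ∀ v, y (y v) = v) (hxy : ∀ v, x (y v) = -(y (x v))) (A : U →ₗ[ZMod 17] U) (h1 : ∀ v, A (x v) = x (A v))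
    (h2 : ∀ v, A (y v) = y (A v)) : ∃ c : ZMod 17, ∀ v, A v = c • v := by
  have h3 : Nat.card (fx x) = 17 := by
    have := card_fx_anti (n := y) hx (fun v => by rw [hxy, neg_neg])
    rw [hU] at this
    exact Nat.pow_left_injective (n := 2) (by norm_num) this
  have h4 : Module.finrank (ZMod 17) (fx x) = 1 := by
    have h5 := card_eq_pow (p := 17) (fx x)
    rw [h3] at h5
    exact (Nat.pow_right_injective (le_refl 2 |>.trans (by norm_num : 2 ≤ 17)) (by simpa using h5)).symm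
  obtain ⟨w, hw0, hw⟩ := finrank_eq_one_iff'.1 h4
  have hwx : x w = w := mem_fx.1 w.2
  have h6 : ∀ v, x v = v → ∃ c : ZMod 17, v = c • (w : U) := by
    intro v hv
    obtain ⟨c, hc⟩ := hw ⟨v, mem_fx.2 hv⟩
    exact ⟨c, (congrArg Subtype.val hc).symm⟩
  obtain ⟨c, hc⟩ := h6 (A w) (by rw [← h1, hwx])
  refine ⟨c, fun v => ?_⟩
  obtain ⟨a, ha⟩ := h6 ((9 : ZMod 17) • (v + x v)) (by rw [map_smul, map_add, hx, add_comm])
  obtain ⟨b, hb⟩ := h6 (y ((9 : ZMod 17) • (v - x v))) (by
    rw [hxy, map_smul, map_sub, hx, ← map_neg, ← smul_neg, neg_sub])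
  have hb' : (9 : ZMod 17) • (v - x v) = b • y w := by
    rw [← hy ((9 : ZMod 17) • (v - x v)), hb, map_smul]
  have hv : v = a • (w : U) + b • y w := by
    rw [← ha, ← hb', ← smul_add, add_add_sub_cancel, smul_add, half_two]
  rw [hv, map_add, map_smul, map_smul, h2, hc, smul_add, map_smul, smul_comm a c, smul_comm b c]

variable {X : Fin 3 → (U ≃ₗ[ZMod 17] U)}

theorem Tri.not_prop (hX : Tri X) [Nontrivial U] {j k : Fin 3} (hjk : j ≠ k) {c : ZMod 17}
    (h : ∀ v, X j v = c • X k v) : False := by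
  obtain ⟨v, hv⟩ := exists_ne (0 : U)
  have h1 := hX.anti j k hjk v
  rw [h, h v, map_smul, ← h, h] at h1
  have h2 := eq_zero_of_neg h1
  have h3 : c = 0 ∨ X k (X k v) = 0 := smul_eq_zero.1 h2
  rcases h3 with h3 | h3
  · have h4 := h v
    rw [h3, zero_smul] at h4
    exact hv ((X j).map_eq_zero_iff.1 h4)
  · rw [hX.sq] at h3
    exact hv h3

/-- the normaliser of the three lines spanned by the `X k` -/
def Nm (X : Fin 3 → (U ≃ₗ[ZMod 17] U)) : Subgroup (U ≃ₗ[ZMod 17] U) where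
  carrier := {g | ∃ π : Perm (Fin 3), ∀ k, ∃ c : ZMod 17, c ≠ 0 ∧ ∀ v, g (X k v) = c • X (π k) (g v)}
  one_mem' := ⟨1, fun k => ⟨1, one_ne_zero, fun v => by rw [one_smul]; rfl⟩⟩
  mul_mem' := by
    rintro a b ⟨π, ha⟩ ⟨ρ, hb⟩
    refine ⟨π * ρ, fun k => ?_⟩
    obtain ⟨c, hc, h1⟩ := hb k
    obtain ⟨d, hd, h2⟩ := ha (ρ k)
    refine ⟨c * d, mul_ne_zero hc hd, fun v => ?_⟩
    change a (b (X k v)) = (c * d) • X (π (ρ k)) (a (b v))
    rw [h1, map_smul, h2, smul_smul]
  inv_mem' := by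
    rintro a ⟨π, ha⟩
    refine ⟨π⁻¹, fun k => ?_⟩
    obtain ⟨c, hc, h1⟩ := ha (π⁻¹ k)
    refine ⟨c⁻¹, inv_ne_zero hc, fun v => ?_⟩
    have h2 := h1 (a.symm v)
    rw [show π (π⁻¹ k) = k from π.apply_symm_apply k, a.apply_symm_apply] at h2
    change a.symm (X k v) = c⁻¹ • X (π⁻¹ k) (a.symm v)
    rw [LinearEquiv.symm_apply_eq, map_smul, h2, smul_smul, inv_mul_cancel₀ hc, one_smul]

theorem Tri.exists_hom (hX : Tri X) [Nontrivial U] : ∃ φ : Nm X →* Perm (Fin 3), ∀ g : Nm X, ∀ k,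
    ∃ c : ZMod 17, c ≠ 0 ∧ ∀ v, (g : U ≃ₗ[ZMod 17] U) (X k v) = c • X (φ g k) ((g : U ≃ₗ[ZMod 17] U) v) := by
  refine HT.exists_hom (H := Nm X) (K := Perm (Fin 3)) (fun g π => ∀ k, ∃ c : ZMod 17, c ≠ 0 ∧
    ∀ v, (g : U ≃ₗ[ZMod 17] U) (X k v) = c • X (π k) ((g : U ≃ₗ[ZMod 17] U) v)) (fun g => g.2) ?_ ?_
  · intro g π ρ h1 h2
    ext k
    by_contra hne
    obtain ⟨c, hc, h1⟩ := h1 k
    obtain ⟨d, hd, h2⟩ := h2 k
    refine hX.not_prop (j := π k) (k := ρ k) (fun h => hne (by rw [h])) (c := c⁻¹ * d) (fun v => ?_)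
    have h3 := h1 ((g : U ≃ₗ[ZMod 17] U).symm v)
    rw [h2, LinearEquiv.apply_symm_apply] at h3
    rw [mul_smul, h3, smul_smul, inv_mul_cancel₀ hc, one_smul]
  · intro a b π ρ ha hb k
    obtain ⟨c, hc, h1⟩ := hb k
    obtain ⟨d, hd, h2⟩ := ha (ρ k)
    refine ⟨c * d, mul_ne_zero hc hd, fun v => ?_⟩
    change (a : U ≃ₗ[ZMod 17] U) ((b : U ≃ₗ[ZMod 17] U) (X k v)) = (c * d) • X (π (ρ k)) _
    rw [h1, map_smul, h2, smul_smul]
    rfl

/-- an element normalising each line is a multiple of `1` or of some `X j` -/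
theorem Tri.of_diag [Finite U] (hU : Nat.card U = 17 ^ 2) (hX : Tri X) {g : U ≃ₗ[ZMod 17] U}
    (hg : ∀ k, ∃ c : ZMod 17, ∀ v, g (X k v) = c • X k (g v)) :
    (∃ c : ZMod 17, ∀ v, g v = c • v) ∨ ∃ j, ∃ c : ZMod 17, ∀ v, g v = c • X j v := by
  have hnt : Nontrivial U := by
    rw [← Finite.one_lt_card_iff_nontrivial, hU]; norm_num
  have key : ∀ k, (∀ v, g (X k v) = X k (g v)) ∨ (∀ v, g (X k v) = -X k (g v)) := by
    intro k
    obtain ⟨c, hc⟩ := hg k
    have h1 : c * c = 1 := by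
      obtain ⟨v, hv⟩ := exists_ne (0 : U)
      have h2 := hc (X k v)
      rw [hX.sq, hc, map_smul, smul_smul, hX.sq] at h2
      have h3 : (c * c - 1) • g v = 0 := by rw [sub_smul, ← h2, one_smul, sub_self]
      rcases smul_eq_zero.1 h3 with h4 | h4
      · exact sub_eq_zero.1 h4
      · exact absurd (g.map_eq_zero_iff.1 h4) hv
    rcases sq_eq_one h1 with rfl | rfl
    · exact Or.inl fun v => by rw [hc, one_smul]
    · exact Or.inr fun v => by rw [hc, neg_smul, one_smul]
  have sc : ∀ A : U ≃ₗ[ZMod 17] U, (∀ v, A (X 0 v) = X 0 (A v)) → (∀ v, A (X 1 v) = X 1 (A v)) →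
      ∃ c : ZMod 17, ∀ v, A v = c • v := fun A h1 h2 =>
    scalar2 hU (hX.sq 0) (hX.sq 1) (hX.anti 0 1 (by decide)) (A : U →ₗ[ZMod 17] U) h1 h2
  have sc2 : ∀ j, (∀ v, X j (g (X 0 v)) = X 0 (X j (g v))) → (∀ v, X j (g (X 1 v)) = X 1 (X j (g v))) →
      ∃ j, ∃ c : ZMod 17, ∀ v, g v = c • X j v := by
    intro j h1 h2
    obtain ⟨c, hc⟩ := sc (X j * g) h1 h2
    refine ⟨j, c, fun v => ?_⟩
    have h3 : X j (g v) = c • v := hc v
    rw [← map_smul, ← h3, hX.sq]
  rcases key 0 with h0 | h0 <;> rcases key 1 with h1 | h1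
  · exact Or.inl (sc g h0 h1)
  · exact Or.inr (sc2 0 (fun v => by rw [h0]) (fun v => by rw [h1, map_neg, hX.anti 0 1 (by decide), neg_neg]))
  · exact Or.inr (sc2 1 (fun v => by rw [h0, map_neg, hX.anti 1 0 (by decide), neg_neg]) (fun v => by rw [h1]))
  · exact Or.inr (sc2 2 (fun v => by rw [h0, map_neg, hX.anti 2 0 (by decide), neg_neg])
      (fun v => by rw [h1, map_neg, hX.anti 2 1 (by decide), neg_neg]))

/-- a vector which is not an eigenvector of any `X k` -/
def Gen (X : Fin 3 → (U ≃ₗ[ZMod 17] U)) (v : U) : Prop := v ≠ 0 ∧ ∀ k, X k v ≠ v ∧ X k v ≠ -v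

theorem Gen.not_smul (hX : Tri X) {v : U} (hv : Gen X v) {k : Fin 3} {c : ZMod 17} (h : c • X k v = v) : False := by
  have h1 : c * c = 1 := by
    have h2 : X k v = c • v := by
      nth_rw 2 [← hX.sq k v]
      rw [← map_smul, h]
    have h3 : (c * c - 1) • v = 0 := by rw [sub_smul, mul_smul, ← h2, h, one_smul, sub_self]
    rcases smul_eq_zero.1 h3 with h4 | h4
    · exact sub_eq_zero.1 h4
    · exact absurd h4 hv.1
  rcases sq_eq_one h1 with rfl | rfl
  · rw [one_smul] at h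
    exact (hv.2 k).1 h
  · rw [neg_smul, one_smul, neg_eq_iff_eq_neg] at h
    exact (hv.2 k).2 h

/-- no element of order three fixes a vector -/
theorem no_three [Finite U] (hU : Nat.card U = 17 ^ 2) {g : U ≃ₗ[ZMod 17] U} (h3 : ∀ v, g (g (g v)) = v) {v : U}
    (hv0 : v ≠ 0) (hv : g v = v) (u : U) : g u = u := by
  have h1 : Module.finrank (ZMod 17) U = 2 := by
    have h5 := card_eq_pow (p := 17) U
    rw [hU] at h5
    exact (Nat.pow_right_injective (by norm_num : 2 ≤ 17) h5).symm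
  have h2 : Module.finrank (ZMod 17) (cm g) + Module.finrank (ZMod 17) (fx g) = 2 := by
    rw [← h1]
    exact LinearMap.finrank_range_add_finrank_ker _
  have h4 : 0 < Module.finrank (ZMod 17) (fx g) :=
    Module.finrank_pos_iff_exists_ne_zero.2 ⟨⟨v, mem_fx.2 hv⟩, fun h => hv0 (congrArg Subtype.val h)⟩
  obtain ⟨w, hw⟩ := finrank_le_one_iff.1 (show Module.finrank (ZMod 17) (cm g) ≤ 1 by omega)
  have hw' : ∀ u, ∃ c : ZMod 17, g u = u + c • (w : U) := by
    intro u
    obtain ⟨c, hc⟩ := hw ⟨g u - u, mem_cm.2 ⟨u, by abel⟩⟩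
    refine ⟨c, ?_⟩
    rw [show c • (w : U) = g u - u from congrArg Subtype.val hc]
    abel
  have hgw : g w = w := by
    obtain ⟨d, hd⟩ := hw' w
    by_cases hw0 : (w : U) = 0
    · rw [hw0, map_zero]
    have h5 : g (w : U) = (1 + d) • (w : U) := by rw [hd, add_smul, one_smul]
    have h6 := h3 w
    rw [h5, map_smul, h5, map_smul, map_smul, h5, smul_smul, smul_smul] at h6
    have h7 : ((1 + d) * ((1 + d) * (1 + d)) - 1) • (w : U) = 0 := by
      rw [sub_smul, ← mul_assoc, h6, one_smul, sub_self]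
    rcases smul_eq_zero.1 h7 with h8 | h8
    · have h9 : (1 + d) ^ 3 = 1 := by linear_combination h8
      have h10 : (1 + d) ^ 16 = 1 := ZMod.pow_card_sub_one_eq_one (by
        intro h0; rw [h0] at h9; norm_num at h9)
      have h11 : 1 + d = 1 := by
        calc 1 + d = ((1 + d) ^ 3) ^ 5 * (1 + d) := by rw [h9]; ring
          _ = (1 + d) ^ 16 := by ring
          _ = 1 := h10
      rw [h5, h11, one_smul]
    · exact absurd h8 hw0
  obtain ⟨c, hc⟩ := hw' u
  have h5 := h3 u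
  rw [hc, map_add, map_smul, hgw, hc, map_add, map_add, map_smul, hgw, hc] at h5
  have h6 : (3 * c) • (w : U) = 0 := by
    have h7 : u + c • (w : U) + c • (w : U) + c • (w : U) - u = (3 * c) • (w : U) := by module
    rw [← h7, h5, sub_self]
  rw [mul_smul] at h6
  have h8 : c • (w : U) = 0 := by
    rcases smul_eq_zero.1 h6 with h9 | h9
    · exact absurd h9 three_ne
    · exact h9
  rw [hc, h8, add_zero]

/-- a generic vector has a stabiliser of order at most two in the normaliser of the frame -/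
theorem Tri.stab_le [Finite U] (hU : Nat.card U = 17 ^ 2) (hX : Tri X) {v : U} (hv : Gen X v) :
    Nat.card (MulAction.stabilizer (Nm X) v) ≤ 2 := by
  have hnt : Nontrivial U := by
    rw [← Finite.one_lt_card_iff_nontrivial, hU]; norm_num
  obtain ⟨φ, hφ⟩ := hX.exists_hom
  let ψ : MulAction.stabilizer (Nm X) v →* Perm (Fin 3) := φ.comp (MulAction.stabilizer (Nm X) v).subtype
  have hψ : Function.Injective ψ := by
    rw [injective_iff_map_eq_one]
    intro g hg
    have hg' : φ g = 1 := hg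
    have hgv : (g.1 : U ≃ₗ[ZMod 17] U) v = v := g.2
    have h1 : ∀ k, ∃ c : ZMod 17, ∀ v, (g.1 : U ≃ₗ[ZMod 17] U) (X k v) = c • X k ((g.1 : U ≃ₗ[ZMod 17] U) v) := by
      intro k
      obtain ⟨c, -, hc⟩ := hφ g k
      rw [hg'] at hc
      exact ⟨c, hc⟩
    rcases hX.of_diag hU h1 with ⟨c, hc⟩ | ⟨j, c, hc⟩
    · have h2 : (c - 1) • v = 0 := by rw [sub_smul, ← hc, hgv, one_smul, sub_self]
      rcases smul_eq_zero.1 h2 with h3 | h3
      · refine Subtype.ext (Subtype.ext (LinearEquiv.ext fun u => ?_))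
        rw [hc, sub_eq_zero.1 h3, one_smul]
        rfl
      · exact absurd h3 hv.1
    · exact (hv.not_smul hX (by rw [← hc, hgv])).elim
  have h3 : ¬ 3 ∣ Nat.card (MulAction.stabilizer (Nm X) v) := by
    intro h
    have := Fact.mk (show Nat.Prime 3 by norm_num)
    obtain ⟨g, hg⟩ := exists_prime_orderOf_dvd_card' 3 h
    have h4 : g * (g * g) = 1 := by
      rw [← pow_two, ← pow_succ']
      have := pow_orderOf_eq_one g
      rwa [hg] at this
    have h5 : ∀ u, (g.1 : U ≃ₗ[ZMod 17] U) ((g.1 : U ≃ₗ[ZMod 17] U) ((g.1 : U ≃ₗ[ZMod 17] U) u)) = u := by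
      intro u
      exact congrArg (fun x : MulAction.stabilizer (Nm X) v => (x.1 : U ≃ₗ[ZMod 17] U) u) h4
    have h6 : g = 1 := Subtype.ext (Subtype.ext (LinearEquiv.ext fun u => no_three hU h5 hv.1 g.2 u))
    rw [h6, orderOf_one] at hg
    omega
  have h4 : Nat.card (MulAction.stabilizer (Nm X) v) ∣ 6 := by
    have := Subgroup.card_dvd_of_injective ψ hψ
    rwa [show Nat.card (Perm (Fin 3)) = 6 by simp only [Nat.card_eq_fintype_card, Fintype.card_perm, _root_.Fintype.card_fin]; rfl] at this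
  have h5 : Nat.card (MulAction.stabilizer (Nm X) v) ≤ 6 := Nat.le_of_dvd (by norm_num) h4
  generalize Nat.card (MulAction.stabilizer (Nm X) v) = n at *
  interval_cases n <;> omega

/-- the reflection interchanging `X j` and `X k` -/
theorem Tri.refl (hX : Tri X) {j k : Fin 3} (hjk : j ≠ k) : ∃ s : U ≃ₗ[ZMod 17] U, ∀ v, s v = (3 : ZMod 17) • (X j v + X k v) := by
  refine ⟨LinearEquiv.ofInvolutive ((3 : ZMod 17) • ((X j : U →ₗ[ZMod 17] U) + (X k : U →ₗ[ZMod 17] U))) ?_, fun v => rfl⟩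
  intro v
  change (3 : ZMod 17) • (X j ((3 : ZMod 17) • (X j v + X k v)) + X k ((3 : ZMod 17) • (X j v + X k v))) = v
  rw [map_smul, map_smul, map_add, map_add, hX.sq, hX.sq, hX.anti j k hjk, ← smul_add, smul_smul]
  have h1 : v + -(X k) ((X j) v) + ((X k) ((X j) v) + v) = (2 : ZMod 17) • v := by
    rw [two_smul]; abel
  rw [h1, smul_smul, show (3 : ZMod 17) * 3 * 2 = 1 from thr_sq, one_smul]

/-- the three anticommutation rules of the reflection -/
theorem Tri.refl_mem (hX : Tri X) {j k : Fin 3} {s : U ≃ₗ[ZMod 17] U}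
    (hs : ∀ v, s v = (3 : ZMod 17) • (X j v + X k v)) (l : Fin 3) :
    ∃ c : ZMod 17, c ≠ 0 ∧ ∀ v, s (X l v) = c • X (swap j k l) (s v) := by
  by_cases h1 : l = j
  · subst h1
    refine ⟨1, one_ne_zero, fun v => ?_⟩
    rw [swap_apply_left, one_smul, hs, hs, map_smul, map_add, hX.sq, hX.sq, add_comm]
  by_cases h2 : l = k
  · subst h2
    refine ⟨1, one_ne_zero, fun v => ?_⟩
    rw [swap_apply_right, one_smul, hs, hs, map_smul, map_add, hX.sq, hX.sq, add_comm]
  refine ⟨-1, neg_ne_zero.2 one_ne_zero, fun v => ?_⟩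
  rw [swap_apply_of_ne_of_ne h1 h2, hs, hs, map_smul, map_add, hX.anti j l (Ne.symm h1), hX.anti k l (Ne.symm h2),
    neg_smul, one_smul, ← neg_add, smul_neg]

/-- the fixed vectors of the reflection are generic -/
theorem Tri.refl_gen (hX : Tri X) {j k : Fin 3} {s : U ≃ₗ[ZMod 17] U}
    (hs : ∀ v, s v = (3 : ZMod 17) • (X j v + X k v)) {v : U} (hv0 : v ≠ 0) (hv : s v = v) : Gen X v := by
  have key : ∀ l, ∀ e : ZMod 17, (e = 1 ∨ e = -1) → X l v = e • v → False := by
    intro l e he hl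
    have aux : ∀ a b : Fin 3, (∀ v, s v = (3 : ZMod 17) • (X a v + X b v)) → X a v = e • v → False := by
      intro a b hs' ha
      have h1 : X b v = (6 - e) • v := by
        have h2 := hs' v
        rw [hv, ha] at h2
        have h3 : (6 : ZMod 17) • v = e • v + X b v := by
          nth_rw 1 [h2]
          rw [smul_smul, show (6 : ZMod 17) * 3 = 1 from rfl, one_smul]
        rw [sub_smul, h3]
        abel
      have h2 := hX.sq b v
      rw [h1, map_smul, h1, smul_smul] at h2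
      have h3 : ((6 - e) * (6 - e) - 1) • v = 0 := by rw [sub_smul, h2, one_smul, sub_self]
      rcases smul_eq_zero.1 h3 with h4 | h4
      · exact gen_num e he (sub_eq_zero.1 h4)
      · exact hv0 h4
    by_cases h1 : l = j
    · exact aux j k hs (h1 ▸ hl)
    by_cases h2 : l = k
    · exact aux k j (fun v => by rw [hs, add_comm]) (h2 ▸ hl)
    have h3 : s (X l v) = -X l (s v) := by
      rw [hs, hs, map_smul, map_add, hX.anti j l (Ne.symm h1), hX.anti k l (Ne.symm h2), ← neg_add, smul_neg]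
    rw [hv, hl, map_smul, hv] at h3
    have h4 := eq_zero_of_neg h3
    rcases smul_eq_zero.1 h4 with h5 | h5
    · rcases he with rfl | rfl
      · exact one_ne_zero h5
      · exact one_ne_zero (neg_eq_zero.1 h5)
    · exact hv0 h5
  exact ⟨hv0, fun l => ⟨fun h => key l 1 (Or.inl rfl) (by rw [h, one_smul]),
    fun h => key l (-1) (Or.inr rfl) (by rw [h, neg_smul, one_smul])⟩⟩

theorem Tri.refl_fixed (hX : Tri X) [Nontrivial U] {j k : Fin 3} (hjk : j ≠ k) {s : U ≃ₗ[ZMod 17] U}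
    (hs : ∀ v, s v = (3 : ZMod 17) • (X j v + X k v)) : ∃ v : U, v ≠ 0 ∧ s v = v := by
  have h2 : ∀ v, s (s v) = v := by
    intro v
    rw [hs, hs, map_smul, map_smul, map_add, map_add, hX.sq, hX.sq, hX.anti j k hjk, ← smul_add, smul_smul]
    have h1 : v + -(X k) ((X j) v) + ((X k) ((X j) v) + v) = (2 : ZMod 17) • v := by
      rw [two_smul]; abel
    rw [h1, smul_smul, show (3 : ZMod 17) * 3 * 2 = 1 from thr_sq, one_smul]
  obtain ⟨l, hlj, hlk⟩ := exists_third j k
  obtain ⟨u, hu⟩ := exists_ne (0 : U)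
  by_cases h1 : u + s u = 0
  · refine ⟨X l u, fun h => hu ((X l).map_eq_zero_iff.1 h), ?_⟩
    have h3 : s (X l u) = -X l (s u) := by
      rw [hs, hs, map_smul, map_add, hX.anti j l (Ne.symm hlj), hX.anti k l (Ne.symm hlk), ← neg_add, smul_neg]
    rw [h3, ← map_neg, ← eq_neg_of_add_eq_zero_left h1]
  · exact ⟨u + s u, h1, by rw [map_add, h2, add_comm]⟩

/-- **core**: a group normalising the frame in which every generic vector is fixed by a non-trivial element
contains the reflections -/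
theorem Tri.core [Finite U] (hU : Nat.card U = 17 ^ 2) (hX : Tri X) {P : Subgroup (U ≃ₗ[ZMod 17] U)} (hP : P ≤ Nm X)
    (h2 : ∀ v, Gen X v → ∃ g ∈ P, g v = v ∧ g ≠ 1) {j k : Fin 3} (hjk : j ≠ k) :
    ∃ s ∈ P, ∀ l, ∃ c : ZMod 17, c ≠ 0 ∧ ∀ v, s (X l v) = c • X (swap j k l) (s v) := by
  have hnt : Nontrivial U := by
    rw [← Finite.one_lt_card_iff_nontrivial, hU]; norm_num
  obtain ⟨s, hs⟩ := hX.refl hjk
  obtain ⟨v, hv0, hv⟩ := hX.refl_fixed hjk hs
  have hg := hX.refl_gen hs hv0 hv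
  have hsN : s ∈ Nm X := ⟨swap j k, hX.refl_mem hs⟩
  obtain ⟨g, hgP, hgv, hg1⟩ := h2 v hg
  have h3 := hX.stab_le hU hg
  have hs1 : s ≠ 1 := by
    rintro rfl
    obtain ⟨l, hlj, hlk⟩ := exists_third j k
    have h3 : (1 : U ≃ₗ[ZMod 17] U) (X l v) = -X l ((1 : U ≃ₗ[ZMod 17] U) v) := by
      rw [hs, hs, map_smul, map_add, hX.anti j l (Ne.symm hlj), hX.anti k l (Ne.symm hlk), ← neg_add, smul_neg]
    exact hv0 ((X l).map_eq_zero_iff.1 (eq_zero_of_neg h3))
  have h4 : g = s := by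
    by_contra hne
    let A : MulAction.stabilizer (Nm X) v := ⟨⟨g, hP hgP⟩, hgv⟩
    let B : MulAction.stabilizer (Nm X) v := ⟨⟨s, hsN⟩, hv⟩
    have hA : A ≠ 1 := fun h => hg1 (congrArg (fun x : MulAction.stabilizer (Nm X) v => (x.1 : U ≃ₗ[ZMod 17] U)) h)
    have hB : B ≠ 1 := fun h => hs1 (congrArg (fun x : MulAction.stabilizer (Nm X) v => (x.1 : U ≃ₗ[ZMod 17] U)) h)
    have hAB : A ≠ B := fun h => hne (congrArg (fun x : MulAction.stabilizer (Nm X) v => (x.1 : U ≃ₗ[ZMod 17] U)) h)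
    classical
    have := Fintype.ofFinite (MulAction.stabilizer (Nm X) v)
    rw [Nat.card_eq_fintype_card] at h3
    have h5 := Finset.card_le_univ ({A, B, 1} : Finset (MulAction.stabilizer (Nm X) v))
    rw [Finset.card_eq_three.2 ⟨A, B, 1, hAB, hA, hB, rfl⟩] at h5
    omega
  exact ⟨s, h4 ▸ hgP, hX.refl_mem hs⟩

end plane

end Cfsg.Agent.H137.HT
end

-- part: H137/HT/Three
section
/-!
# The centraliser of a non-central involution in a group of type `4 ∘ 2^(1+4)` (TEAM HT-E, task D1; helper137)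
-/

set_option autoImplicit false

open scoped commutatorElement

namespace Cfsg.Agent.H137.HT

open Cfsg.Agent.H662.HT Cfsg.Agent.H813.HT Subgroup

universe u v

variable {a : ℕ} {N : Type u} {V : Type v} [Group N] [AddCommGroup V] [DistribMulAction N V]

theorem sym_neg (H : Sym 2 a N V) {c : N} (hc : c ∈ center N) (h2 : c ^ 2 = 1) (h1 : c ≠ 1) (v : V) : c • v = -v := by
  have h3 : c • (v + c • v) = v + c • v := by
    rw [smul_add, smul_smul, ← pow_two, h2, one_smul, add_comm]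
  exact eq_neg_of_add_eq_zero_right (H.semi c hc h1 _ h3)

theorem sym_unique (H : Sym 2 a N V) {c d : N} (hc : c ∈ center N) (hc2 : c ^ 2 = 1) (hc1 : c ≠ 1)
    (hd : d ∈ center N) (hd2 : d ^ 2 = 1) (hd1 : d ≠ 1) : c = d := by
  have h1 : c * d = 1 := H.faithful fun v => by
    rw [mul_smul, sym_neg H hd hd2 hd1, smul_neg, sym_neg H hc hc2 hc1, neg_neg]
  rw [pow_two] at hd2
  calc c = c * (d * d) := by rw [hd2, mul_one]
    _ = d := by rw [← mul_assoc, h1, one_mul]

/-- the product of two elements not commuting with `z` commutes with `z` -/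
theorem sym_mul (H : Sym 2 a N V) {x y z : N} (h1 : x * z ≠ z * x) (h2 : y * z ≠ z * y) :
    (x * y) * z = z * (x * y) := by
  have h1' : ⁅x, z⁆ ≠ 1 := fun h => h1 (commutatorElement_eq_one_iff_mul_comm.1 h)
  have h2' : ⁅y, z⁆ ≠ 1 := fun h => h2 (commutatorElement_eq_one_iff_mul_comm.1 h)
  rw [← commutatorElement_eq_one_iff_mul_comm, H.comm_mul_left,
    sym_unique H (H.comm x z) (H.comm_pow x z) h1' (H.comm y z) (H.comm_pow y z) h2', ← pow_two, H.comm_pow]

/-- the subgroup `{1, x, y, x y}` -/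
def klein {x y : N} (hx : x * x = 1) (hy : y * y = 1) (hxy : x * y = y * x) : Subgroup N where
  carrier := {g | g = 1 ∨ g = x ∨ g = y ∨ g = x * y}
  one_mem' := Or.inl rfl
  mul_mem' := by
    have hyx : y * (x * y) = x := by rw [← mul_assoc, ← hxy, mul_assoc, hy, mul_one]
    have hxx : x * (x * y) = y := by rw [← mul_assoc, hx, one_mul]
    have h1 : x * y * x = y := by rw [mul_assoc, ← hxy, hxx]
    have h2 : x * y * y = x := by rw [mul_assoc, hy, mul_one]
    have h3 : x * y * (x * y) = 1 := by rw [← mul_assoc, h1, hy]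
    rintro g h (rfl | rfl | rfl | rfl) (rfl | rfl | rfl | rfl) <;>
      simp only [Set.mem_ofPred_eq, one_mul, mul_one, hx, hy, hyx, hxx, h1, h2, h3, ← hxy, true_or, or_true]
  inv_mem' := by
    have hx' : x⁻¹ = x := inv_eq_of_mul_eq_one_left hx
    have hy' : y⁻¹ = y := inv_eq_of_mul_eq_one_left hy
    rintro g (rfl | rfl | rfl | rfl)
    · exact Or.inl inv_one
    · exact Or.inr (Or.inl hx')
    · exact Or.inr (Or.inr (Or.inl hy'))
    · exact Or.inr (Or.inr (Or.inr (by rw [mul_inv_rev, hx', hy', hxy])))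

theorem mem_two {T : N} (hT : T * T = 1) {g : N} : g ∈ zpowers T ↔ g = 1 ∨ g = T := by
  constructor
  · rintro ⟨k, rfl⟩
    change T ^ k = 1 ∨ T ^ k = T
    rcases Int.even_or_odd' k with ⟨m, rfl | rfl⟩
    · left; rw [zpow_mul, zpow_two, hT, one_zpow]
    · right; rw [zpow_add, zpow_mul, zpow_two, hT, one_zpow, one_mul, zpow_one]
  · rintro (rfl | rfl)
    · exact one_mem _
    · exact mem_zpowers _

theorem exists_three (H : Sym 2 2 N V) (hF : Full 2 N) (hz : Nat.card (center N) = 4) {T : N} (hT : T * T = 1)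
    (hTc : T ∉ center N) :
    ∃ x : Fin 3 → N, (∀ k, x k * T = T * x k) ∧ (∀ k, x k * x k = 1) ∧ (∀ j k, j ≠ k → x j * x k ≠ x k * x j) ∧
      ∀ y, y * T = T * y → ∃ z ∈ center N, y = z ∨ y = T * z ∨ (∃ k, y = x k * z) ∨ ∃ k, y = x k * (T * z) := by
  classical
  have hfin := H.fin
  have hT1 : T ≠ 1 := fun h => hTc (h ▸ one_mem _)
  have hcN : Nat.card N = 64 := by rw [H.card, hz]; norm_num
  -- the centraliser of `T`
  have hS1 : zpowers T ⊓ center N = ⊥ := by
    rw [eq_bot_iff]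
    rintro g ⟨hg, hgc⟩
    rcases (mem_two hT).1 hg with rfl | rfl
    · exact one_mem _
    · exact absurd hgc hTc
  have hc1 : Nat.card (zpowers T) = 2 := by
    rw [Nat.card_zpowers]
    exact orderOf_eq_prime (by rw [pow_two, hT]) hT1
  have hC1 : Nat.card (centralizer (zpowers T : Set N)) = 32 := by
    have := Sym_card_cen H hS1
    rw [hc1, hcN] at this
    omega
  have hm1 : ∀ y, y ∈ centralizer (zpowers T : Set N) ↔ y * T = T * y := by
    intro y
    rw [mem_centralizer_iff]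
    constructor
    · intro h; exact (h T (mem_zpowers T)).symm
    · rintro h g hg
      rcases (mem_two hT).1 hg with rfl | rfl
      · rw [one_mul, mul_one]
      · exact h.symm
  -- `x0`
  obtain ⟨x0', hx0', h0z, h0t⟩ : ∃ x : N, x * T = T * x ∧ x ∉ center N ∧ T * x ∉ center N := by
    by_contra hcon
    push Not at hcon
    have h1 : (centralizer (zpowers T : Set N) : Set N) ⊆ (center N : Set N) ∪ (fun g => T * g) '' (center N : Set N) := by
      intro y hy
      have hy' := (hm1 y).1 hy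
      by_cases h2 : y ∈ center N
      · exact Or.inl h2
      · exact Or.inr ⟨T * y, hcon y hy' h2, by change T * (T * y) = y; rw [← mul_assoc, hT, one_mul]⟩
    have h2 := Set.ncard_le_ncard h1 (Set.toFinite _)
    have h3 := Set.ncard_union_le (center N : Set N) ((fun g => T * g) '' (center N : Set N))
    have h4 := Set.ncard_image_le (f := fun g => T * g) (s := (center N : Set N)) (Set.toFinite _)
    have h5 : (center N : Set N).ncard = 4 := hz
    have h6 : (centralizer (zpowers T : Set N) : Set N).ncard = 32 := hC1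
    omega
  obtain ⟨c0, hc0, hx0s⟩ := hF x0'
  obtain ⟨x0, hx0⟩ : ∃ x0, x0 = x0' * c0 := ⟨_, rfl⟩
  have hx0T : x0 * T = T * x0 := by
    rw [hx0, mul_assoc, ← mem_center_iff.1 hc0 T, ← mul_assoc, hx0', mul_assoc]
  have hx0c : x0 ∉ center N := by
    intro h
    exact h0z (by rw [← mul_inv_cancel_right x0' c0, ← hx0]; exact mul_mem h (inv_mem hc0))
  have hx0t : T * x0 ∉ center N := by
    intro h
    exact h0t (by rw [← mul_inv_cancel_right x0' c0, ← hx0, ← mul_assoc]; exact mul_mem h (inv_mem hc0))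
  have hx02 : x0 * x0 = 1 := by rw [← pow_two, hx0, hx0s]
  -- the Klein group
  have hS2 : klein hT hx02 hx0T.symm ⊓ center N = ⊥ := by
    rw [eq_bot_iff]
    rintro g ⟨hg, hgc⟩
    rcases hg with rfl | rfl | rfl | rfl
    · exact one_mem _
    · exact absurd hgc hTc
    · exact absurd hgc hx0c
    · exact absurd hgc hx0t
  have hcS2 : Nat.card (klein hT hx02 hx0T.symm) = 4 := by
    have h1 : (klein hT hx02 hx0T.symm : Set N) = (({1, T, x0, T * x0} : Finset N) : Set N) := by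
      ext g
      simp only [klein, _root_.Subgroup.coe_set_mk, _root_.Submonoid.coe_set_mk, _root_.Subsemigroup.coe_set_mk, _root_.Set.mem_ofPred_eq, _root_.Finset.coe_insert, _root_.Finset.coe_singleton, _root_.Set.mem_insert_iff, _root_.Set.mem_singleton_iff]
    have h2 : x0 ≠ 1 := fun h => hx0c (h ▸ one_mem _)
    have h3 : T * x0 ≠ 1 := fun h => hx0t (h ▸ one_mem _)
    have h4 : T ≠ x0 := by
      rintro rfl
      exact h3 hT
    change Nat.card (klein hT hx02 hx0T.symm : Set N) = 4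
    rw [h1, Nat.card_coe_set_eq, Set.ncard_coe_finset]
    rw [Finset.card_insert_of_notMem, Finset.card_insert_of_notMem, Finset.card_pair]
    · intro h
      exact hT1 (mul_eq_right.1 h.symm)
    · simp only [Finset.mem_insert, Finset.mem_singleton, not_or]
      exact ⟨h4, fun h => h2 (mul_eq_left.1 h.symm)⟩
    · simp only [Finset.mem_insert, Finset.mem_singleton, not_or]
      exact ⟨hT1.symm, h2.symm, h3.symm⟩
  have hC2 : Nat.card (centralizer (klein hT hx02 hx0T.symm : Set N)) = 16 := by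
    have := Sym_card_cen H hS2
    rw [hcS2, hcN] at this
    omega
  have hm2 : ∀ y, y ∈ centralizer (klein hT hx02 hx0T.symm : Set N) ↔ y * T = T * y ∧ y * x0 = x0 * y := by
    intro y
    rw [mem_centralizer_iff]
    constructor
    · intro h; exact ⟨(h T (Or.inr (Or.inl rfl))).symm, (h x0 (Or.inr (Or.inr (Or.inl rfl)))).symm⟩
    · rintro ⟨h, h'⟩ g (rfl | rfl | rfl | rfl)
      · rw [one_mul, mul_one]
      · exact h.symm
      · exact h'.symm
      · rw [← mul_assoc, h, mul_assoc, mul_assoc, h']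
  -- `x1`
  obtain ⟨x1', hx1', h10⟩ : ∃ x : N, x * T = T * x ∧ x * x0 ≠ x0 * x := by
    by_contra hcon
    push Not at hcon
    have h1 : centralizer (zpowers T : Set N) ≤ centralizer (klein hT hx02 hx0T.symm : Set N) := by
      intro y hy
      exact (hm2 y).2 ⟨(hm1 y).1 hy, hcon y ((hm1 y).1 hy)⟩
    have h2 := Subgroup.card_le_of_le h1
    omega
  obtain ⟨c1, hc1', hx1s⟩ := hF x1'
  obtain ⟨x1, hx1⟩ : ∃ x1, x1 = x1' * c1 := ⟨_, rfl⟩
  have hx1T : x1 * T = T * x1 := by
    rw [hx1, mul_assoc, ← mem_center_iff.1 hc1' T, ← mul_assoc, hx1', mul_assoc]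
  have hx10 : x1 * x0 ≠ x0 * x1 := by
    intro h
    rw [hx1, mul_assoc, ← mem_center_iff.1 hc1' x0, ← mul_assoc, ← mul_assoc] at h
    exact h10 (mul_right_cancel h)
  have hx12 : x1 * x1 = 1 := by rw [← pow_two, hx1, hx1s]
  -- `x2`
  obtain ⟨c2, hc2, hx2s⟩ := hF (x0 * x1)
  obtain ⟨x2, hx2⟩ : ∃ x2, x2 = x0 * x1 * c2 := ⟨_, rfl⟩
  have hx2T : x2 * T = T * x2 := by
    rw [hx2, mul_assoc, ← mem_center_iff.1 hc2 T, ← mul_assoc, mul_assoc x0, hx1T, ← mul_assoc, hx0T, mul_assoc,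
      mul_assoc, mul_assoc]
  have hx22 : x2 * x2 = 1 := by rw [← pow_two, hx2, hx2s]
  have hx20 : x2 * x0 ≠ x0 * x2 := by
    intro h
    rw [hx2, mul_assoc, ← mem_center_iff.1 hc2 x0, ← mul_assoc, ← mul_assoc] at h
    have h3 := mul_right_cancel h
    rw [mul_assoc] at h3
    exact hx10 (mul_left_cancel h3)
  have hx21 : x2 * x1 ≠ x1 * x2 := by
    intro h
    rw [hx2, mul_assoc, ← mem_center_iff.1 hc2 x1, ← mul_assoc, ← mul_assoc] at h
    have h3 := mul_right_cancel h
    rw [← mul_assoc] at h3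
    exact hx10 (mul_right_cancel h3).symm
  -- the elements of the centraliser of the Klein group
  have hmem : ∀ y, y * T = T * y → y * x0 = x0 * y → ∃ s ∈ klein hT hx02 hx0T.symm, ∃ z ∈ center N, y = s * z := by
    let f : klein hT hx02 hx0T.symm × center N → centralizer (klein hT hx02 hx0T.symm : Set N) := fun p => ⟨p.1 * p.2, by
      rw [mem_centralizer_iff]
      intro x hx
      have h3 : x * p.1 = p.1 * x := H.commS hS2 hx p.1.2
      have h4 : x * (p.2 : N) = p.2 * x := mem_center_iff.1 p.2.2 x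
      rw [← mul_assoc, h3, mul_assoc, h4, mul_assoc]⟩
    have hf : Function.Injective f := by
      rintro ⟨x, c⟩ ⟨y, d⟩ h
      have h3 : (x : N) * c = y * d := congrArg Subtype.val h
      have h4 : (y : N)⁻¹ * x = d * (c : N)⁻¹ := by
        rw [inv_mul_eq_iff_eq_mul, ← mul_assoc, eq_mul_inv_iff_mul_eq, h3]
      have h5 : (y : N)⁻¹ * x ∈ klein hT hx02 hx0T.symm ⊓ center N :=
        ⟨Subgroup.mul_mem _ (Subgroup.inv_mem _ y.2) x.2, by
          rw [h4]
          exact (center N).mul_mem d.2 ((center N).inv_mem c.2)⟩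
      rw [hS2, mem_bot] at h5
      rw [h5] at h4
      have h6 : y = x := Subtype.ext (inv_mul_eq_one.1 h5)
      have h7 : d = c := Subtype.ext (mul_inv_eq_one.1 h4.symm)
      rw [h6, h7]
    have hf2 : Function.Bijective f := hf.bijective_of_nat_card_le (by
      rw [Nat.card_prod, hC2, hcS2, hz])
    intro y h1 h2
    obtain ⟨⟨s, z⟩, h⟩ := hf2.2 ⟨y, (hm2 y).2 ⟨h1, h2⟩⟩
    exact ⟨s, s.2, z, z.2, (congrArg Subtype.val h).symm⟩
  refine ⟨![x0, x1, x2], ?_, ?_, ?_, ?_⟩
  · intro k; fin_cases k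
    · exact hx0T
    · exact hx1T
    · exact hx2T
  · intro k; fin_cases k
    · exact hx02
    · exact hx12
    · exact hx22
  · intro j k hjk
    fin_cases j <;> fin_cases k
    · exact absurd rfl hjk
    · exact hx10.symm
    · exact hx20.symm
    · exact hx10
    · exact absurd rfl hjk
    · exact hx21.symm
    · exact hx20
    · exact hx21
    · exact absurd rfl hjk
  · intro y hy
    by_cases h0 : y * x0 = x0 * y
    · obtain ⟨s, hs, z, hz, rfl⟩ := hmem y hy h0
      refine ⟨z, hz, ?_⟩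
      rcases hs with rfl | rfl | rfl | rfl
      · exact Or.inl (one_mul z)
      · exact Or.inr (Or.inl rfl)
      · exact Or.inr (Or.inr (Or.inl ⟨0, rfl⟩))
      · exact Or.inr (Or.inr (Or.inr ⟨0, by
          change T * x0 * z = x0 * (T * z)
          rw [← hx0T, mul_assoc]⟩))
    · have h1 : (y * x1) * x0 = x0 * (y * x1) := sym_mul H h0 hx10
      have h2 : (y * x1) * T = T * (y * x1) := by rw [mul_assoc, hx1T, ← mul_assoc, hy, mul_assoc]
      obtain ⟨s, hs, z, hz, h3⟩ := hmem _ h2 h1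
      have h4 : y = s * x1 * z := by
        calc y = y * x1 * x1 := by rw [mul_assoc, hx12, mul_one]
          _ = s * x1 * z := by rw [h3, mul_assoc, ← mem_center_iff.1 hz x1, mul_assoc]
      have h5 : x0 * x1 = x2 * c2⁻¹ := by rw [hx2, mul_inv_cancel_right]
      rcases hs with rfl | rfl | rfl | rfl
      · exact ⟨z, hz, Or.inr (Or.inr (Or.inl ⟨1, by rw [h4, one_mul]; rfl⟩))⟩
      · exact ⟨z, hz, Or.inr (Or.inr (Or.inr ⟨1, by
          change y = x1 * (s * z)
          rw [h4, ← hx1T, mul_assoc]⟩))⟩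
      · refine ⟨c2⁻¹ * z, mul_mem (inv_mem hc2) hz, Or.inr (Or.inr (Or.inl ⟨2, ?_⟩))⟩
        change y = x2 * (c2⁻¹ * z)
        rw [h4, h5, mul_assoc]
      · refine ⟨c2⁻¹ * z, mul_mem (inv_mem hc2) hz, Or.inr (Or.inr (Or.inr ⟨2, ?_⟩))⟩
        change y = x2 * (T * (c2⁻¹ * z))
        rw [h4, mul_assoc T, h5, ← mul_assoc, ← hx2T, mul_assoc, mul_assoc]

end Cfsg.Agent.H137.HT
end

-- part: H137/HT/BetaOne
section
/-!
# The exceptional case `17 ^ 4`, first part (S3540 / S3577, TEAM HT-E, task D1; helper137)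
-/

set_option autoImplicit false
set_option linter.unusedSectionVars false

open scoped commutatorElement

namespace Cfsg.Agent.H137.HT

open Cfsg.Agent.H828.HT Cfsg.Agent.H662.HT Equiv

universe u

section key

variable {p : ℕ} [Fact p.Prime] {V : Type u} [AddCommGroup V] [Module (ZMod p) V]

/-- the stabiliser of a vector of `M` and the group induced on `M` -/
theorem card_ker_mul {G : Subgroup (V ≃ₗ[ZMod p] V)} {M : Submodule (ZMod p) V} (v : M)
    (hst : ∀ g ∈ G, g (v : V) = v → ∀ w, w ∈ M ↔ g w ∈ M) :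
    Nat.card (res G M).ker * Nat.card (MulAction.stabilizer (rs G M) v) =
      Nat.card (MulAction.stabilizer G (v : V)) := by
  let S : Subgroup (stb G M) :=
    (MulAction.stabilizer (rs G M) v).comap (res G M).rangeRestrict
  have hS1 : Nat.card S = Nat.card (MulAction.stabilizer G (v : V)) := by
    refine Nat.card_congr ⟨fun g => ⟨⟨g.1.1, g.1.2.1⟩, ?_⟩, fun g => ⟨⟨g.1.1, g.1.2,
      hst g.1.1 g.1.2 g.2⟩, ?_⟩, ?_, ?_⟩
    · have := g.2
      exact congrArg Subtype.val (show res G M g.1 v = v from this)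
    · exact Subtype.ext g.2
    · intro g; rfl
    · intro g; rfl
  have hS2 : (res G M).rangeRestrict.ker ≤ S := by
    intro g hg
    change (res G M).rangeRestrict g ∈ MulAction.stabilizer (rs G M) v
    rw [(MonoidHom.mem_ker).1 hg]
    exact one_mem _
  have hS3 : S.map (res G M).rangeRestrict = MulAction.stabilizer (rs G M) v :=
    Subgroup.map_comap_eq_self_of_surjective (res G M).rangeRestrict_surjective _
  have h6 : Nat.card (MulAction.stabilizer (rs G M) v) =
      Nat.card (S.map (res G M).rangeRestrict) :=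
    (congrArg (fun X : Subgroup (rs G M) => Nat.card X) hS3).symm
  rw [← hS1, h6, ← MonoidHom.ker_rangeRestrict]
  have h4 := Subgroup.card_mul_index
    (((res G M).rangeRestrict.ker).subgroupOf S)
  rw [Nat.card_congr (Subgroup.subgroupOfEquivOfLe hS2).toEquiv] at h4
  rw [← h4]
  have e := QuotientGroup.quotientKerEquivRange ((res G M).rangeRestrict.comp S.subtype)
  have e1 : ((res G M).rangeRestrict.comp S.subtype).range =
      S.map (res G M).rangeRestrict := by
    rw [MonoidHom.range_comp, Subgroup.range_subtype]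
  have e2 : ((res G M).rangeRestrict.comp S.subtype).ker =
      ((res G M).rangeRestrict.ker).subgroupOf S := by
    ext x; rfl
  have h5 : Nat.card (S.map (res G M).rangeRestrict) =
      (((res G M).rangeRestrict.ker).subgroupOf S).index := by
    rw [← e1, Subgroup.index, ← e2]
    exact (Nat.card_congr e.toEquiv).symm
  rw [h5]

end key

variable {V : Type u} [AddCommGroup V] [Fact (Nat.Prime 17)] [Module (ZMod 17) V]

/-- the data attached to a non-central involution `t` of `N` -/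
structure Dat (N : Subgroup (V ≃ₗ[ZMod 17] V)) (t : V ≃ₗ[ZMod 17] V) (x : Fin 3 → (V ≃ₗ[ZMod 17] V)) : Prop where
  mem : ∀ k, x k ∈ N
  comm : ∀ k v, x k (t v) = t (x k v)
  tsq : ∀ v, t (t v) = v
  sq : ∀ k v, x k (x k v) = v
  anti : ∀ j k, j ≠ k → ∀ v, x j (x k v) = -(x k (x j v))
  cen : ∀ y ∈ N, (∀ v, y (t v) = t (y v)) → ∃ c : ZMod 17, c ≠ 0 ∧
    ((∀ v, y v = c • v) ∨ (∀ v, y v = c • t v) ∨ (∃ k, ∀ v, y v = c • x k v) ∨ ∃ k, ∀ v, y v = c • x k (t v))
  sgn : ∀ y ∈ N, ∀ z ∈ N, (∀ v, y (z v) = z (y v)) ∨ (∀ v, y (z v) = -(z (y v)))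
  card : Nat.card (fx t) = 17 ^ 2

theorem mem_iff_of_comm {t g : V ≃ₗ[ZMod 17] V} (h : ∀ v, g (t v) = t (g v)) (v : V) : v ∈ fx t ↔ g v ∈ fx t := by
  rw [mem_fx, mem_fx, ← h, g.injective.eq_iff]

theorem exists_dat [Finite V] (hV : Nat.card V = 17 ^ 4) {N : Subgroup (V ≃ₗ[ZMod 17] V)} (H : Sym 2 2 N V)
    (hF : Full 2 N) (hz : Nat.card (Subgroup.center N) = 4) {t : V ≃ₗ[ZMod 17] V} (ht : t ∈ N) (ht2 : t * t = 1)
    (ht1 : t ≠ 1) (ht3 : ∃ v, t v ≠ -v) : ∃ x, Dat N t x := by
  have hT : (⟨t, ht⟩ : N) * ⟨t, ht⟩ = 1 := Subtype.ext ht2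
  have hTc : (⟨t, ht⟩ : N) ∉ Subgroup.center N := by
    intro h
    obtain ⟨v, hv⟩ := ht3
    exact hv (sym_neg H h (by rw [pow_two, hT]) (fun h => ht1 (congrArg Subtype.val h)) v)
  have hsgn : ∀ y z : N, y * z ≠ z * y → ∀ v, (y : V ≃ₗ[ZMod 17] V) ((z : V ≃ₗ[ZMod 17] V) v) =
      -((z : V ≃ₗ[ZMod 17] V) ((y : V ≃ₗ[ZMod 17] V) v)) := by
    intro y z h v
    have h1 := sym_neg H (H.comm y z) (H.comm_pow y z) (fun h' => h (commutatorElement_eq_one_iff_mul_comm.1 h'))
      ((z * y) • v)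
    rw [smul_smul, commutatorElement_def] at h1
    have h2 : y * z * y⁻¹ * z⁻¹ * (z * y) = y * z := by group
    rw [h2] at h1
    exact h1
  have hsq : ∀ v, t (t v) = v := fun v => congrArg (fun g : V ≃ₗ[ZMod 17] V => g v) ht2
  have hcard : Nat.card (fx t) = 17 ^ 2 := by
    obtain ⟨y, hy⟩ : ∃ y : N, y * ⟨t, ht⟩ ≠ ⟨t, ht⟩ * y := by
      by_contra hcon
      push Not at hcon
      exact hTc (Subgroup.mem_center_iff.2 hcon)
    have h1 := card_fx_anti hsq (hsgn y _ hy)
    rw [hV, show 17 ^ 4 = (17 ^ 2) ^ 2 from rfl] at h1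
    exact Nat.pow_left_injective (n := 2) (by norm_num) h1
  obtain ⟨x, hx1, hx2, hx3, hx4⟩ := exists_three H hF hz hT hTc
  have hcomm : ∀ k v, (x k : V ≃ₗ[ZMod 17] V) (t v) = t ((x k : V ≃ₗ[ZMod 17] V) v) := fun k v =>
    congrArg (fun g : N => (g : V ≃ₗ[ZMod 17] V) v) (hx1 k)
  have hxs : ∀ k v, (x k : V ≃ₗ[ZMod 17] V) ((x k : V ≃ₗ[ZMod 17] V) v) = v := fun k v =>
    congrArg (fun g : N => (g : V ≃ₗ[ZMod 17] V) v) (hx2 k)
  have hanti : ∀ j k, j ≠ k → ∀ v, (x j : V ≃ₗ[ZMod 17] V) ((x k : V ≃ₗ[ZMod 17] V) v) =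
      -((x k : V ≃ₗ[ZMod 17] V) ((x j : V ≃ₗ[ZMod 17] V) v)) := fun j k hjk => hsgn _ _ (hx3 j k hjk)
  -- central elements are scalars
  have hsc : ∀ z ∈ Subgroup.center N, ∃ c : ZMod 17, c ≠ 0 ∧ ∀ v, (z : V ≃ₗ[ZMod 17] V) v = c • v := by
    intro z hz
    have hzc : ∀ (y : N) (v : V), (z : V ≃ₗ[ZMod 17] V) ((y : V ≃ₗ[ZMod 17] V) v) =
        (y : V ≃ₗ[ZMod 17] V) ((z : V ≃ₗ[ZMod 17] V) v) := fun y v =>
      congrArg (fun g : N => (g : V ≃ₗ[ZMod 17] V) v) (Subgroup.mem_center_iff.1 hz y).symm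
    obtain ⟨c, hc⟩ := scalar2 (U := fx t) hcard (x := resEquiv (fx t) (x 0) (mem_iff_of_comm (hcomm 0)))
      (y := resEquiv (fx t) (x 1) (mem_iff_of_comm (hcomm 1))) (fun v => Subtype.ext (hxs 0 v))
      (fun v => Subtype.ext (hxs 1 v)) (fun v => Subtype.ext (hanti 0 1 (by decide) v))
      (resEquiv (fx t) z (mem_iff_of_comm (hzc ⟨t, ht⟩)) : fx t →ₗ[ZMod 17] fx t)
      (fun v => Subtype.ext (hzc _ v)) (fun v => Subtype.ext (hzc _ v))
    have hc' : ∀ v, t v = v → (z : V ≃ₗ[ZMod 17] V) v = c • v := fun v hv =>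
      congrArg Subtype.val (hc ⟨v, mem_fx.2 hv⟩)
    obtain ⟨y, hy⟩ : ∃ y : N, y * ⟨t, ht⟩ ≠ ⟨t, ht⟩ * y := by
      by_contra hcon
      push Not at hcon
      exact hTc (Subgroup.mem_center_iff.2 hcon)
    have h2 : ∀ v, (z : V ≃ₗ[ZMod 17] V) v = c • v := by
      intro v
      have h3 := hc' ((9 : ZMod 17) • (v + t v)) (by rw [map_smul, map_add, hsq, add_comm])
      have h4 := hc' ((y : V ≃ₗ[ZMod 17] V) ((9 : ZMod 17) • (v - t v))) (by
        rw [← neg_eq_iff_eq_neg.2 (hsgn y _ hy _), map_smul, map_sub, hsq, ← map_neg, ← smul_neg, neg_sub])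
      rw [hzc, ← map_smul] at h4
      have h5 := (y : V ≃ₗ[ZMod 17] V).injective h4
      have hv : v = (9 : ZMod 17) • (v + t v) + (9 : ZMod 17) • (v - t v) := by
        rw [← smul_add, add_add_sub_cancel, smul_add, half_two]
      rw [hv, map_add, h3, h5, ← smul_add]
    refine ⟨c, ?_, h2⟩
    rintro rfl
    have := H.nt
    obtain ⟨v, hv⟩ := exists_ne (0 : V)
    have h3 := h2 v
    rw [zero_smul] at h3
    exact hv ((z : V ≃ₗ[ZMod 17] V).map_eq_zero_iff.1 h3)
  refine ⟨fun k => x k, fun k => (x k).2, hcomm, hsq, hxs, hanti, ?_, ?_, hcard⟩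
  · intro y hy hyt
    obtain ⟨z, hz, h⟩ := hx4 ⟨y, hy⟩ (Subtype.ext (LinearEquiv.ext hyt))
    obtain ⟨c, hc, hc'⟩ := hsc z hz
    refine ⟨c, hc, ?_⟩
    rcases h with h | h | ⟨k, h⟩ | ⟨k, h⟩
    · refine Or.inl fun v => ?_
      rw [← hc']
      exact congrArg (fun g : N => (g : V ≃ₗ[ZMod 17] V) v) h
    · refine Or.inr (Or.inl fun v => ?_)
      rw [← map_smul, ← hc']
      exact congrArg (fun g : N => (g : V ≃ₗ[ZMod 17] V) v) h
    · refine Or.inr (Or.inr (Or.inl ⟨k, fun v => ?_⟩))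
      rw [← map_smul, ← hc']
      exact congrArg (fun g : N => (g : V ≃ₗ[ZMod 17] V) v) h
    · refine Or.inr (Or.inr (Or.inr ⟨k, fun v => ?_⟩))
      rw [← map_smul, ← map_smul, ← hc']
      exact congrArg (fun g : N => (g : V ≃ₗ[ZMod 17] V) v) h
  · intro y hy z hz
    by_cases h : (⟨y, hy⟩ : N) * ⟨z, hz⟩ = ⟨z, hz⟩ * ⟨y, hy⟩
    · exact Or.inl fun v => congrArg (fun g : N => (g : V ≃ₗ[ZMod 17] V) v) h
    · exact Or.inr (hsgn _ _ h)

section rel

variable {N : Subgroup (V ≃ₗ[ZMod 17] V)} {t : V ≃ₗ[ZMod 17] V} {x : Fin 3 → (V ≃ₗ[ZMod 17] V)}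

theorem Dat.not_comm [Nontrivial V] (D : Dat N t x) {j k : Fin 3} (hjk : j ≠ k)
    (h : ∀ v, x j (x k v) = x k (x j v)) : False := by
  obtain ⟨v, hv⟩ := exists_ne (0 : V)
  have h1 := D.anti j k hjk v
  rw [h] at h1
  have h2 := eq_zero_of_neg h1
  exact hv ((x j).map_eq_zero_iff.1 ((x k).map_eq_zero_iff.1 h2))

/-- `y` is a multiple of `x j` or of `x j t` -/
def Lin (t : V ≃ₗ[ZMod 17] V) (x : Fin 3 → (V ≃ₗ[ZMod 17] V)) (y : V ≃ₗ[ZMod 17] V) (j : Fin 3) : Prop :=
  ∃ c : ZMod 17, c ≠ 0 ∧ ((∀ v, y v = c • x j v) ∨ ∀ v, y v = c • x j (t v))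

theorem Lin.uniq [Nontrivial V] (D : Dat N t x) {y : V ≃ₗ[ZMod 17] V} {j k : Fin 3} (hj : Lin t x y j)
    (hk : Lin t x y k) : j = k := by
  by_contra hjk
  obtain ⟨c, hc, h1⟩ := hj
  obtain ⟨d, hd, h2⟩ := hk
  refine D.not_comm hjk fun v => ?_
  have h3 : (∀ w, x j w = (c⁻¹ * d) • x k w) ∨ (∀ w, x j w = (c⁻¹ * d) • x k (t w)) := by
    rcases h1 with h1 | h1 <;> rcases h2 with h2 | h2
    · left; intro w
      rw [mul_smul, ← h2, h1, smul_smul, inv_mul_cancel₀ hc, one_smul]
    · right; intro w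
      rw [mul_smul, ← h2, h1, smul_smul, inv_mul_cancel₀ hc, one_smul]
    · right; intro w
      rw [mul_smul, ← h2, h1, smul_smul, inv_mul_cancel₀ hc, one_smul, D.tsq]
    · left; intro w
      have h4 : y (t w) = d • x k w := by rw [h2, D.tsq]
      rw [mul_smul, ← h4, h1, smul_smul, inv_mul_cancel₀ hc, one_smul, D.tsq]
  rcases h3 with h3 | h3
  · rw [h3, h3, map_smul]
  · rw [h3, h3, map_smul, ← D.comm]

/-- conjugation -/
theorem Lin.conj (D : Dat N t x) {g y : V ≃ₗ[ZMod 17] V}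
    (hg : (∀ v, g (t v) = t (g v)) ∨ (∀ v, g (t v) = -(t (g v)))) {j l : Fin 3} (hy : Lin t x y j)
    (hl : Lin t x (g * x j * g⁻¹) l) : Lin t x (g * y * g⁻¹) l := by
  obtain ⟨c, hc, h1⟩ := hy
  obtain ⟨d, hd, h2⟩ := hl
  have hg' : ∃ e : ZMod 17, e ≠ 0 ∧ ∀ v, t (g⁻¹ v) = e • g⁻¹ (t v) := by
    rcases hg with hg | hg
    · refine ⟨1, one_ne_zero, fun v => ?_⟩
      apply g.injective
      have h3 : g (g⁻¹ v) = v := g.apply_symm_apply v
      have h4 : g (g⁻¹ (t v)) = t v := g.apply_symm_apply _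
      rw [hg, h3, one_smul, h4]
    · refine ⟨-1, neg_ne_zero.2 one_ne_zero, fun v => ?_⟩
      apply g.injective
      have h3 : g (g⁻¹ v) = v := g.apply_symm_apply v
      have h4 : g (g⁻¹ (t v)) = t v := g.apply_symm_apply _
      rw [hg, h3, neg_smul, one_smul, map_neg, h4]
  obtain ⟨e, he, hg'⟩ := hg'
  rcases h1 with h1 | h1
  · refine ⟨c * d, mul_ne_zero hc hd, ?_⟩
    have h3 : ∀ v, (g * y * g⁻¹) v = c • (g * x j * g⁻¹) v := by
      intro v
      change g (y (g⁻¹ v)) = c • g (x j (g⁻¹ v))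
      rw [h1, map_smul]
    rcases h2 with h2 | h2
    · left; intro v; rw [h3, h2, smul_smul]
    · right; intro v; rw [h3, h2, smul_smul]
  · refine ⟨c * e * d, mul_ne_zero (mul_ne_zero hc he) hd, ?_⟩
    have h3 : ∀ v, (g * y * g⁻¹) v = (c * e) • (g * x j * g⁻¹) (t v) := by
      intro v
      change g (y (g⁻¹ v)) = (c * e) • g (x j (g⁻¹ (t v)))
      rw [h1, map_smul, hg', map_smul, map_smul, smul_smul]
    rcases h2 with h2 | h2
    · right; intro v; rw [h3, h2, smul_smul]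
    · left; intro v; rw [h3, h2, smul_smul, D.tsq]

variable {G : Subgroup (V ≃ₗ[ZMod 17] V)}

theorem Dat.img [Nontrivial V] (D : Dat N t x) (hn : ∀ g ∈ G, ∀ y ∈ N, g * y * g⁻¹ ∈ N) {g : V ≃ₗ[ZMod 17] V}
    (hg : g ∈ Lst G t) (k : Fin 3) : ∃ j, Lin t x (g * x k * g⁻¹) j := by
  obtain ⟨hgG, hg⟩ := hg
  have hga : ∀ v, g (g⁻¹ v) = v := g.apply_symm_apply
  have hgb : ∀ v, g⁻¹ (g v) = v := g.symm_apply_apply
  obtain ⟨l, hlk, -⟩ := exists_third k k
  have hy : ∀ v, (g * x k * g⁻¹) (t v) = t ((g * x k * g⁻¹) v) := by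
    intro v
    change g (x k (g⁻¹ (t v))) = t (g (x k (g⁻¹ v)))
    obtain ⟨w, rfl⟩ : ∃ w, v = g w := ⟨g⁻¹ v, (hga v).symm⟩
    rcases hg with hg | hg
    · rw [← hg, hgb, hgb, D.comm, hg]
    · have h1 : t (g w) = -g (t w) := by rw [hg, neg_neg]
      rw [h1, map_neg, hgb, hgb, map_neg, D.comm, map_neg, hg, neg_neg]
  obtain ⟨c, hc, h⟩ := D.cen _ (hn g hgG _ (D.mem k)) hy
  have h1 : ∀ w, (g * x k * g⁻¹) (g w) = g (x k w) := by
    intro w
    change g (x k (g⁻¹ (g w))) = g (x k w)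
    rw [hgb]
  rcases h with h | h | ⟨j, h⟩ | ⟨j, h⟩
  · exfalso
    have h2 : ∀ w, x k w = c • w := by
      intro w
      apply g.injective
      rw [← h1, h, map_smul]
    exact D.not_comm hlk fun v => by rw [h2, h2, map_smul]
  · exfalso
    have h2 : ∃ e : ZMod 17, ∀ w, x k w = e • t w := by
      rcases hg with hg | hg
      · refine ⟨c, fun w => ?_⟩
        apply g.injective
        rw [← h1, h, map_smul, hg]
      · refine ⟨-c, fun w => ?_⟩
        apply g.injective
        rw [← h1, h, map_smul, hg, neg_smul, smul_neg, neg_neg]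
    obtain ⟨e, h2⟩ := h2
    exact D.not_comm hlk fun v => by rw [h2, h2, map_smul, D.comm]
  · exact ⟨j, c, hc, Or.inl h⟩
  · exact ⟨j, c, hc, Or.inr h⟩

/-- the stabiliser of `± t` as a subgroup -/
def LS (G : Subgroup (V ≃ₗ[ZMod 17] V)) (t : V ≃ₗ[ZMod 17] V) : Subgroup (V ≃ₗ[ZMod 17] V) where
  carrier := Lst G t
  one_mem' := ⟨G.one_mem, Or.inl fun v => rfl⟩
  mul_mem' := by
    rintro a b ⟨ha, ha'⟩ ⟨hb, hb'⟩
    refine ⟨G.mul_mem ha hb, ?_⟩
    rcases ha' with ha' | ha' <;> rcases hb' with hb' | hb'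
    · left; intro v; change a (b (t v)) = t (a (b v)); rw [hb', ha']
    · right; intro v; change a (b (t v)) = -t (a (b v)); rw [hb', map_neg, ha']
    · right; intro v; change a (b (t v)) = -t (a (b v)); rw [hb', ha']
    · left; intro v; change a (b (t v)) = t (a (b v)); rw [hb', map_neg, ha', neg_neg]
  inv_mem' := by
    rintro a ⟨ha, ha'⟩
    refine ⟨G.inv_mem ha, ?_⟩
    have hga : ∀ v, a (a⁻¹ v) = v := a.apply_symm_apply
    rcases ha' with ha' | ha'
    · left; intro v; apply a.injective; rw [hga, ha', hga]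
    · right; intro v; apply a.injective; rw [hga, map_neg, ha', hga, neg_neg]

theorem Dat.exists_hom [Nontrivial V] (D : Dat N t x) (hn : ∀ g ∈ G, ∀ y ∈ N, g * y * g⁻¹ ∈ N) :
    ∃ φ : LS G t →* Perm (Fin 3), ∀ g : LS G t, ∀ k, Lin t x (g * x k * (g : V ≃ₗ[ZMod 17] V)⁻¹) (φ g k) := by
  refine HT.exists_hom (H := LS G t) (K := Perm (Fin 3)) (fun g π => ∀ k,
    Lin t x (g * x k * (g : V ≃ₗ[ZMod 17] V)⁻¹) (π k)) ?_ ?_ ?_
  · intro g
    choose f hf using fun k => D.img hn g.2 k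
    have hinj : Function.Injective f := by
      intro j k hjk
      by_contra hne
      refine D.not_comm hne fun v => ?_
      obtain ⟨c, hc, h1⟩ := hf j
      obtain ⟨d, hd, h2⟩ := hf k
      rw [← hjk] at h2
      -- `g x_j g⁻¹` and `g x_k g⁻¹` commute
      have h3 : ∀ w, ((g : V ≃ₗ[ZMod 17] V) * x j * (g : V ≃ₗ[ZMod 17] V)⁻¹)
          (((g : V ≃ₗ[ZMod 17] V) * x k * (g : V ≃ₗ[ZMod 17] V)⁻¹) w) =
          ((g : V ≃ₗ[ZMod 17] V) * x k * (g : V ≃ₗ[ZMod 17] V)⁻¹)
          (((g : V ≃ₗ[ZMod 17] V) * x j * (g : V ≃ₗ[ZMod 17] V)⁻¹) w) := by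
        intro w
        rcases h1 with h1 | h1 <;> rcases h2 with h2 | h2
        · rw [h1, h2, h2, h1, map_smul, map_smul, smul_comm]
        · rw [h1, h2, h2, h1, map_smul, map_smul, map_smul, D.comm, smul_comm]
        · rw [h1, h2, h2, h1, map_smul, map_smul, map_smul, D.comm, smul_comm, D.comm, D.comm]
        · rw [h1, h2, h2, h1, map_smul, map_smul, map_smul, map_smul, D.comm, smul_comm]
      have h4 := h3 ((g : V ≃ₗ[ZMod 17] V) v)
      have hgb : ∀ v, (g : V ≃ₗ[ZMod 17] V)⁻¹ ((g : V ≃ₗ[ZMod 17] V) v) = v :=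
        (g : V ≃ₗ[ZMod 17] V).symm_apply_apply
      change (g : V ≃ₗ[ZMod 17] V) (x j ((g : V ≃ₗ[ZMod 17] V)⁻¹ ((g : V ≃ₗ[ZMod 17] V) (x k
        ((g : V ≃ₗ[ZMod 17] V)⁻¹ ((g : V ≃ₗ[ZMod 17] V) v)))))) = (g : V ≃ₗ[ZMod 17] V) (x k
        ((g : V ≃ₗ[ZMod 17] V)⁻¹ ((g : V ≃ₗ[ZMod 17] V) (x j
        ((g : V ≃ₗ[ZMod 17] V)⁻¹ ((g : V ≃ₗ[ZMod 17] V) v)))))) at h4
      rw [hgb, hgb, hgb] at h4
      exact (g : V ≃ₗ[ZMod 17] V).injective h4
    exact ⟨Equiv.ofBijective f (Finite.injective_iff_bijective.1 hinj), hf⟩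
  · intro g π ρ h1 h2
    ext k
    rw [(h1 k).uniq D (h2 k)]
  · intro a b π ρ ha hb k
    have h1 := (hb k).conj D a.2.2 (ha (ρ k))
    have h2 : (a : V ≃ₗ[ZMod 17] V) * ((b : V ≃ₗ[ZMod 17] V) * x k * (b : V ≃ₗ[ZMod 17] V)⁻¹) *
        (a : V ≃ₗ[ZMod 17] V)⁻¹ = ((a * b : LS G t) : V ≃ₗ[ZMod 17] V) * x k *
        ((a * b : LS G t) : V ≃ₗ[ZMod 17] V)⁻¹ := by
      rw [Subgroup.coe_mul, mul_inv_rev]
      simp only [mul_assoc]
    rw [h2] at h1
    exact h1

theorem Dat.ker [Nontrivial V] (D : Dat N t x) {φ : LS G t →* Perm (Fin 3)}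
    (hφ : ∀ g : LS G t, ∀ k, Lin t x (g * x k * (g : V ≃ₗ[ZMod 17] V)⁻¹) (φ g k)) :
    Nat.card (Kst G N t) = Nat.card φ.ker := by
  have key : ∀ g : LS G t, φ g = 1 ↔ (g : V ≃ₗ[ZMod 17] V) ∈ Kst G N t := by
    intro g
    constructor
    · intro h
      refine ⟨g.2, fun y hy hyt => ?_⟩
      have h1 : ∀ k, Lin t x (g * x k * (g : V ≃ₗ[ZMod 17] V)⁻¹) k := fun k => by
        have := hφ g k
        rwa [h] at this
      have hg := g.2.2
      have hg' : ∃ e : ZMod 17, e ≠ 0 ∧ ∀ v, t ((g : V ≃ₗ[ZMod 17] V)⁻¹ v) = e • (g : V ≃ₗ[ZMod 17] V)⁻¹ (t v) := by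
        rcases hg with hg | hg
        · refine ⟨1, one_ne_zero, fun v => ?_⟩
          apply (g : V ≃ₗ[ZMod 17] V).injective
          have h3 : (g : V ≃ₗ[ZMod 17] V) ((g : V ≃ₗ[ZMod 17] V)⁻¹ v) = v := (g : V ≃ₗ[ZMod 17] V).apply_symm_apply v
          have h4 : (g : V ≃ₗ[ZMod 17] V) ((g : V ≃ₗ[ZMod 17] V)⁻¹ (t v)) = t v :=
            (g : V ≃ₗ[ZMod 17] V).apply_symm_apply _
          rw [hg, h3, one_smul, h4]
        · refine ⟨-1, neg_ne_zero.2 one_ne_zero, fun v => ?_⟩
          apply (g : V ≃ₗ[ZMod 17] V).injective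
          have h3 : (g : V ≃ₗ[ZMod 17] V) ((g : V ≃ₗ[ZMod 17] V)⁻¹ v) = v := (g : V ≃ₗ[ZMod 17] V).apply_symm_apply v
          have h4 : (g : V ≃ₗ[ZMod 17] V) ((g : V ≃ₗ[ZMod 17] V)⁻¹ (t v)) = t v :=
            (g : V ≃ₗ[ZMod 17] V).apply_symm_apply _
          rw [hg, h3, neg_smul, one_smul, map_neg, h4]
      obtain ⟨e, he, hg'⟩ := hg'
      have hga : ∀ v, (g : V ≃ₗ[ZMod 17] V) ((g : V ≃ₗ[ZMod 17] V)⁻¹ v) = v := (g : V ≃ₗ[ZMod 17] V).apply_symm_apply
      have hc : ∀ (z : V ≃ₗ[ZMod 17] V) (v : V), ((g : V ≃ₗ[ZMod 17] V) * z * (g : V ≃ₗ[ZMod 17] V)⁻¹) v =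
        (g : V ≃ₗ[ZMod 17] V) (z ((g : V ≃ₗ[ZMod 17] V)⁻¹ v)) := fun _ _ => rfl
      obtain ⟨c, hc0, h2 | h2 | ⟨k, h2⟩ | ⟨k, h2⟩⟩ := D.cen y hy hyt
      · refine ⟨1, Or.inl fun v => ?_⟩
        rw [hc, h2, map_smul, hga, one_smul, h2]
      · refine ⟨e, Or.inl fun v => ?_⟩
        rw [hc, h2, hg', map_smul, map_smul, hga, h2, smul_comm]
      · obtain ⟨d, hd, h3 | h3⟩ := h1 k
        · refine ⟨d, Or.inl fun v => ?_⟩
          rw [hc, h2, map_smul, ← hc, h3, h2, smul_comm]
        · refine ⟨d, Or.inr fun v => ?_⟩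
          rw [hc, h2, map_smul, ← hc, h3, h2, smul_comm]
      · obtain ⟨d, hd, h3 | h3⟩ := h1 k
        · refine ⟨e * d, Or.inl fun v => ?_⟩
          rw [hc, h2, hg', map_smul, map_smul, map_smul, ← hc, h3, h2, smul_smul, smul_smul, smul_smul]
          congr 1; ring
        · refine ⟨e * d, Or.inr fun v => ?_⟩
          rw [hc, h2, hg', map_smul, map_smul, map_smul, ← hc, h3, h2, smul_smul, smul_smul, smul_smul]
          congr 1; ring
    · rintro ⟨-, h⟩
      ext k
      have h1 : Lin t x (g * x k * (g : V ≃ₗ[ZMod 17] V)⁻¹) k := by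
        obtain ⟨c, hc⟩ := h (x k) (D.mem k) (D.comm k)
        refine ⟨c, ?_, hc⟩
        rintro rfl
        obtain ⟨v, hv⟩ := exists_ne (0 : V)
        have h2 : ((g : V ≃ₗ[ZMod 17] V) * x k * (g : V ≃ₗ[ZMod 17] V)⁻¹) v = 0 := by
          rcases hc with hc | hc
          · rw [hc, zero_smul]
          · rw [hc, zero_smul]
        exact hv ((LinearEquiv.map_eq_zero_iff _).1 h2)
      rw [(hφ g k).uniq D h1]
      rfl
  refine Nat.card_congr ⟨fun g => ⟨⟨g.1, g.2.1⟩, (key _).2 g.2⟩, fun g => ⟨g.1.1, (key _).1 g.2⟩, fun g => rfl,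
    fun g => rfl⟩

section final

variable [Finite V]

/-- the restriction of `x k` to the fixed space of `t` -/
def rX (D : Dat N t x) (k : Fin 3) : fx t ≃ₗ[ZMod 17] fx t := resEquiv (fx t) (x k) (mem_iff_of_comm (D.comm k))

theorem rX_apply (D : Dat N t x) (k : Fin 3) (v : fx t) : ((rX D k v : fx t) : V) = x k v := rfl

theorem tri (D : Dat N t x) : Tri (rX D) where
  sq k v := Subtype.ext (D.sq k v)
  anti j k hjk v := Subtype.ext (D.anti j k hjk v)

theorem exists_gen (D : Dat N t x) : ∃ v : fx t, Gen (rX D) v := by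
  have hnt : Nontrivial (fx t) := by
    rw [← Finite.one_lt_card_iff_nontrivial, D.card]; norm_num
  obtain ⟨s, hs⟩ := (tri D).refl (j := 0) (k := 1) (by decide)
  obtain ⟨v, hv0, hv⟩ := (tri D).refl_fixed (j := 0) (k := 1) (by decide) hs
  exact ⟨v, (tri D).refl_gen hs hv0 hv⟩

theorem of_gen (D : Dat N t x) {v : fx t} (hv : Gen (rX D) v) (ht : t ∈ N) {n : V ≃ₗ[ZMod 17] V} (hn : n ∈ N)
    (hnv : n v = v) : n = 1 ∨ n = t := by
  have hv0 : (v : V) ≠ 0 := fun h => hv.1 (Subtype.ext h)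
  have htv : t v = v := mem_fx.1 v.2
  have h1 : ∀ w, n (t w) = t (n w) := by
    rcases D.sgn n hn t ht with h | h
    · exact h
    · exfalso
      have h2 := h v
      rw [htv, hnv, htv] at h2
      exact hv0 (eq_zero_of_neg h2)
  have h3 : ∀ c : ZMod 17, c • (v : V) = v → c = 1 := by
    intro c hc
    have h4 : (c - 1) • (v : V) = 0 := by rw [sub_smul, hc, one_smul, sub_self]
    rcases smul_eq_zero.1 h4 with h5 | h5
    · exact sub_eq_zero.1 h5
    · exact absurd h5 hv0
  obtain ⟨c, hc, h | h | ⟨k, h⟩ | ⟨k, h⟩⟩ := D.cen n hn h1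
  · left
    have h4 := h3 c (by rw [← h, hnv])
    exact LinearEquiv.ext fun w => by rw [h, h4, one_smul]; rfl
  · right
    have h4 := h3 c (by
      have := h v
      rw [htv, hnv] at this
      exact this.symm)
    exact LinearEquiv.ext fun w => by rw [h, h4, one_smul]
  · exact (hv.not_smul (tri D) (k := k) (c := c) (Subtype.ext (by
      have := h v
      rw [hnv] at this
      exact this.symm))).elim
  · exact (hv.not_smul (tri D) (k := k) (c := c) (Subtype.ext (by
      have := h v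
      rw [hnv, htv] at this
      exact this.symm))).elim

theorem comm_of_conj {g : V ≃ₗ[ZMod 17] V} (h : g * t * g⁻¹ = t) (v : V) : g (t v) = t (g v) := by
  have h1 : g * t = t * g := mul_inv_eq_iff_eq_mul.1 h
  exact congrArg (fun y : V ≃ₗ[ZMod 17] V => y v) h1

theorem conj_ne_one (ht1 : t ≠ 1) (g : V ≃ₗ[ZMod 17] V) : g * t * g⁻¹ ≠ 1 := by
  intro h
  apply ht1
  have h1 : g * t = 1 * g := mul_inv_eq_iff_eq_mul.1 h
  rw [one_mul] at h1
  exact mul_eq_left.1 h1

theorem comm_of_stb (D : Dat N t x) (ht : t ∈ N) (ht1 : t ≠ 1) (hn : ∀ g ∈ G, ∀ y ∈ N, g * y * g⁻¹ ∈ N)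
    {g : V ≃ₗ[ZMod 17] V} (hg : g ∈ stb G (fx t)) : ∀ v, g (t v) = t (g v) := by
  obtain ⟨v, hv⟩ := exists_gen D
  have h1 : (g * t * g⁻¹) v = v := by
    have h2 : g⁻¹ (v : V) ∈ fx t := ((stb G (fx t)).inv_mem hg).2 v |>.1 v.2
    change g (t (g⁻¹ v)) = v
    rw [mem_fx.1 h2]
    exact g.apply_symm_apply _
  exact comm_of_conj ((of_gen D hv ht (hn g hg.1 t ht) h1).resolve_left (conj_ne_one ht1 g))

theorem comm_of_fix (D : Dat N t x) (ht : t ∈ N) (ht1 : t ≠ 1) (hn : ∀ g ∈ G, ∀ y ∈ N, g * y * g⁻¹ ∈ N)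
    {g : V ≃ₗ[ZMod 17] V} (hg : g ∈ G) {v : fx t} (hv : Gen (rX D) v) (hgv : g v = v) :
    ∀ v, g (t v) = t (g v) := by
  have h1 : (g * t * g⁻¹) v = v := by
    have h2 : g⁻¹ (v : V) = v := by
      apply g.injective
      rw [hgv]
      exact g.apply_symm_apply _
    change g (t (g⁻¹ v)) = v
    rw [h2, mem_fx.1 v.2, hgv]
  exact comm_of_conj ((of_gen D hv ht (hn g hg t ht) h1).resolve_left (conj_ne_one ht1 g))

theorem card_R (G : Subgroup (V ≃ₗ[ZMod 17] V)) (t : V ≃ₗ[ZMod 17] V) :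
    Nat.card (res G (fx t)).ker = Nat.card (Rst G t) := by
  refine Nat.card_congr ⟨fun g => ⟨g.1.1, g.1.2.1, fun v hv => ?_⟩, fun g => ⟨⟨g.1, g.2.1, fun v => ?_⟩, ?_⟩, fun g => rfl,
    fun g => rfl⟩
  · have h1 : res G (fx t) g.1 ⟨v, mem_fx.2 hv⟩ = ⟨v, mem_fx.2 hv⟩ := by
      rw [MonoidHom.mem_ker.1 g.2]; rfl
    exact congrArg Subtype.val h1
  · constructor
    · intro hv
      rw [g.2.2 v (mem_fx.1 hv)]
      exact hv
    · intro hv
      have h1 := g.2.2 _ (mem_fx.1 hv)
      rw [← g.1.injective h1]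
      exact hv
  · exact LinearEquiv.ext fun v => Subtype.ext (g.2.2 v (mem_fx.1 v.2))

theorem lin_res (_ : Dat N t x) {b : V ≃ₗ[ZMod 17] V} (hb : ∀ v, b (t v) = t (b v)) {k j : Fin 3}
    (h : Lin t x (b * x k * b⁻¹) j) : ∃ c : ZMod 17, c ≠ 0 ∧ ∀ v, t v = v → b (x k v) = c • x j (b v) := by
  obtain ⟨c, hc, h⟩ := h
  refine ⟨c, hc, fun v hv => ?_⟩
  have h1 : (b * x k * b⁻¹) (b v) = b (x k v) := by
    change b (x k (b⁻¹ (b v))) = b (x k v)
    rw [show b⁻¹ (b v) = v from b.symm_apply_apply v]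
  rcases h with h | h
  · rw [← h1, h]
  · rw [← h1, h, ← hb, hv]

theorem exists_special (D : Dat N t x) : ∃ u : V, u ≠ 0 ∧ t u = u ∧ x 0 u = u := by
  have hnt : Nontrivial (fx t) := by
    rw [← Finite.one_lt_card_iff_nontrivial, D.card]; norm_num
  obtain ⟨w, hw⟩ := exists_ne (0 : fx t)
  have hw0 : (w : V) ≠ 0 := fun h => hw (Subtype.ext h)
  have hwt : t w = w := mem_fx.1 w.2
  by_cases h1 : (w : V) + x 0 w = 0
  · refine ⟨x 1 w, fun h => hw0 ((x 1).map_eq_zero_iff.1 h), ?_, ?_⟩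
    · rw [← D.comm, hwt]
    · rw [D.anti 0 1 (by decide), ← map_neg, ← eq_neg_of_add_eq_zero_left h1]
  · exact ⟨(w : V) + x 0 w, h1, by rw [map_add, ← D.comm, hwt], by rw [map_add, D.sq, add_comm]⟩

theorem two_le (D : Dat N t x) (hNG : N ≤ G) {h : ℕ} (hh : Half G h) : 2 * Nat.card (Rst G t) ≤ h := by
  have hnt : Nontrivial (fx t) := by
    rw [← Finite.one_lt_card_iff_nontrivial, D.card]; norm_num
  obtain ⟨u, hu0, htu, hxu⟩ := exists_special D
  rw [← hh u hu0]
  let f : Rst G t ⊕ Rst G t → MulAction.stabilizer G u := Sum.elim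
    (fun r => ⟨⟨r.1, r.2.1⟩, r.2.2 u htu⟩)
    (fun r => ⟨⟨x 0 * r.1, G.mul_mem (hNG (D.mem 0)) r.2.1⟩, by
      change x 0 (r.1 u) = u
      rw [r.2.2 u htu, hxu]⟩)
  have hf : Function.Injective f := by
    have key : ∀ r r' : Rst G t, r.1 ≠ x 0 * r'.1 := by
      intro r r' h
      have h1 : ∀ v : fx t, rX D 0 v = (1 : ZMod 17) • v := by
        intro v
        have hv : t v = v := mem_fx.1 v.2
        refine Subtype.ext ?_
        rw [rX_apply, one_smul]
        have h2 : r.1 (v : V) = x 0 (r'.1 v) := by rw [h]; rfl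
        rw [r.2.2 v hv, r'.2.2 v hv] at h2
        exact h2.symm
      obtain ⟨v, hv⟩ := exists_ne (0 : fx t)
      have h2 := (tri D).anti 1 0 (by decide) v
      rw [h1, h1, map_smul] at h2
      rw [one_smul] at h2
      exact hv ((rX D 1).map_eq_zero_iff.1 (eq_zero_of_neg h2))
    rintro (r | r) (r' | r') h
    · exact congrArg Sum.inl (Subtype.ext (congrArg (fun g : MulAction.stabilizer G u => (g.1 : V ≃ₗ[ZMod 17] V)) h))
    · exact (key r r' (congrArg (fun g : MulAction.stabilizer G u => (g.1 : V ≃ₗ[ZMod 17] V)) h)).elim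
    · exact (key r' r (congrArg (fun g : MulAction.stabilizer G u => (g.1 : V ≃ₗ[ZMod 17] V)) h.symm)).elim
    · have h1 : x 0 * r.1 = x 0 * r'.1 := congrArg (fun g : MulAction.stabilizer G u => (g.1 : V ≃ₗ[ZMod 17] V)) h
      exact congrArg Sum.inr (Subtype.ext (mul_left_cancel h1))
  have := Nat.card_le_card_of_injective f hf
  rw [Nat.card_sum] at this
  omega

end final

end rel

/-- **task D1** -/
theorem beta_one [Finite V] (hV : Nat.card V = 17 ^ 4) {G N : Subgroup (V ≃ₗ[ZMod 17] V)} (hN : N ≤ G)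
    (hn : ∀ g ∈ G, ∀ x ∈ N, g * x * g⁻¹ ∈ N) (hG : ¬ 17 ∣ Nat.card G) {h m : ℕ} (hh : Half G h) (h2 : 2 ≤ h)
    (hm : m * h = Nat.card G) (hm' : m = 320 ∨ m = 960) (H : Sym 2 2 N V) (hF : Full 2 N)
    (hz : Nat.card (Subgroup.center N) = 4) {t : V ≃ₗ[ZMod 17] V} (ht : t ∈ N) (ht2 : t * t = 1) (ht1 : t ≠ 1)
    (ht3 : ∃ v, t v ≠ -v) :
    h = 2 * Nat.card (Rst G t) ∧ Nat.card (Lst G t) = 6 * Nat.card (Kst G N t) := by
  have hnt := H.nt
  obtain ⟨x, D⟩ := exists_dat hV H hF hz ht ht2 ht1 ht3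
  have hntU : Nontrivial (fx t) := by
    rw [← Finite.one_lt_card_iff_nontrivial, D.card]; norm_num
  obtain ⟨φ, hφ⟩ := D.exists_hom hn
  -- the group induced on the fixed space of `t`
  have hLS : ∀ b : stb G (fx t), (b : V ≃ₗ[ZMod 17] V) ∈ LS G t := fun b =>
    ⟨b.2.1, Or.inl (comm_of_stb D ht ht1 hn b.2)⟩
  have hrel : ∀ (b : stb G (fx t)) (k : Fin 3), ∃ c : ZMod 17, c ≠ 0 ∧ ∀ v : fx t,
      res G (fx t) b (rX D k v) = c • rX D (φ ⟨b, hLS b⟩ k) (res G (fx t) b v) := by
    intro b k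
    obtain ⟨c, hc, h1⟩ := lin_res D (comm_of_stb D ht ht1 hn b.2) (hφ ⟨b, hLS b⟩ k)
    exact ⟨c, hc, fun v => Subtype.ext (h1 v (mem_fx.1 v.2))⟩
  have hP : rs G (fx t) ≤ Nm (rX D) := by
    rintro _ ⟨b, rfl⟩
    exact ⟨φ ⟨b, hLS b⟩, hrel b⟩
  have hst : ∀ v : fx t, Gen (rX D) v → Nat.card (Rst G t) *
      Nat.card (MulAction.stabilizer (rs G (fx t)) v) = h := by
    intro v hv
    rw [← card_R, card_ker_mul v (fun g hg hgv => mem_iff_of_comm (comm_of_fix D ht ht1 hn hg hv hgv))]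
    exact hh v (fun h => hv.1 (Subtype.ext h))
  have hle : ∀ v : fx t, Gen (rX D) v → Nat.card (MulAction.stabilizer (rs G (fx t)) v) ≤ 2 := by
    intro v hv
    refine le_trans ?_ ((tri D).stab_le D.card hv)
    refine Nat.card_le_card_of_injective (fun g => (⟨⟨g.1.1, hP g.1.2⟩, g.2⟩ : MulAction.stabilizer (Nm (rX D)) v)) ?_
    intro a b hab
    exact Subtype.ext (Subtype.ext (congrArg (fun g : MulAction.stabilizer (Nm (rX D)) v =>
      (g.1 : fx t ≃ₗ[ZMod 17] fx t)) hab))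
  have hge := two_le D hN hh
  have hR0 : 0 < Nat.card (Rst G t) := by
    rw [← card_R]; exact Nat.card_pos
  have hs2 : ∀ v : fx t, Gen (rX D) v → Nat.card (MulAction.stabilizer (rs G (fx t)) v) = 2 := by
    intro v hv
    refine le_antisymm (hle v hv) ?_
    have h3 := hst v hv
    rw [← h3, mul_comm 2] at hge
    exact Nat.le_of_mul_le_mul_left hge hR0
  refine ⟨?_, ?_⟩
  · obtain ⟨v, hv⟩ := exists_gen D
    rw [← hst v hv, hs2 v hv, mul_comm]
  -- `φ` is onto
  have htop : φ.range = ⊤ := by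
    rw [eq_top_iff, ← Perm.closure_isSwap, Subgroup.closure_le]
    rintro σ ⟨j, k, hjk, rfl⟩
    obtain ⟨s, hs, hs'⟩ := (tri D).core D.card hP (fun v hv => by
      have h3 : 1 < Nat.card (MulAction.stabilizer (rs G (fx t)) v) := by rw [hs2 v hv]; norm_num
      have := Finite.one_lt_card_iff_nontrivial.1 h3
      obtain ⟨g, hg⟩ := exists_ne (1 : MulAction.stabilizer (rs G (fx t)) v)
      exact ⟨g.1.1, g.1.2, g.2, fun h => hg (Subtype.ext (Subtype.ext h))⟩) hjk
    obtain ⟨b, rfl⟩ := hs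
    refine ⟨⟨b, hLS b⟩, ?_⟩
    ext l
    congr 1
    by_contra hne
    obtain ⟨c, hc, h3⟩ := hrel b l
    obtain ⟨d, hd, h4⟩ := hs' l
    refine (tri D).not_prop hne (c := c⁻¹ * d) (fun w => ?_)
    have h5 := h3 ((res G (fx t) b).symm w)
    rw [h4, LinearEquiv.apply_symm_apply] at h5
    rw [mul_smul, h5, smul_smul, inv_mul_cancel₀ hc, one_smul]
  have h3 := Subgroup.card_mul_index φ.ker
  rw [Subgroup.index_ker, htop, Nat.card_congr Subgroup.topEquiv.toEquiv,
    show Nat.card (Perm (Fin 3)) = 6 by simp only [Nat.card_eq_fintype_card, Fintype.card_perm, _root_.Fintype.card_fin]; rfl, ← D.ker hφ] at h3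
  change Nat.card (LS G t) = _
  rw [← h3, mul_comm]


end Cfsg.Agent.H137.HT
end

-- part: H450/HT/FullOdd
section
/-!
# TEAM HT-E, A6: `full_odd`
-/

set_option autoImplicit false

namespace Cfsg.Agent.H450.HT

open Finset

theorem prod_sq_le {s : ℕ} (hs : 1 ≤ s) (a : ℕ) :
    (∏ i ∈ range a, (s ^ (i + 1) + 1)) ^ 2 ≤ 4 ^ a * s ^ (a * (a + 1)) := by
  induction a with
  | zero => simp
  | succ a ih =>
    rw [prod_range_succ, mul_pow]
    have h1 : (s ^ (a + 1) + 1) ^ 2 ≤ 4 * s ^ (2 * (a + 1)) := by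
      have h2 : 1 ≤ s ^ (a + 1) := Nat.one_le_pow _ _ hs
      have h3 : s ^ (2 * (a + 1)) = (s ^ (a + 1)) ^ 2 := by rw [← pow_mul, mul_comm]
      rw [h3]
      nlinarith only [h2]
    calc _ ≤ 4 ^ a * s ^ (a * (a + 1)) * (4 * s ^ (2 * (a + 1))) := Nat.mul_le_mul ih h1
      _ = 4 ^ (a + 1) * s ^ ((a + 1) * (a + 1 + 1)) := by
        rw [show (a + 1) * (a + 1 + 1) = a * (a + 1) + 2 * (a + 1) by ring, pow_add s, pow_succ]
        ring

theorem pow_dvd_sub_one {s a z Q m : ℕ} (hs : s.Prime) (h3 : 3 ≤ s) (hz : s ∣ z)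
    (hzQ : z ∣ Q - 1) (hQ : 1 < Q) (h2 : z * s ^ (2 * a) ∣ m) (h4 : m ∣ Q ^ (s ^ a) - 1) :
    s ^ (a + 1) ∣ Q - 1 := by
  have hF : Fact s.Prime := ⟨hs⟩
  have hsQ1 : s ∣ Q - 1 := hz.trans hzQ
  have hsQ : ¬ s ∣ Q := by
    intro h
    have h5 : s ∣ Q - (Q - 1) := Nat.dvd_sub h hsQ1
    rw [show Q - (Q - 1) = 1 by omega] at h5
    have := Nat.le_of_dvd one_pos h5
    omega
  have hsa : s ^ a ≠ 0 := pow_ne_zero _ hs.ne_zero
  have h6 := padicValNat.pow_sub_pow (p := s) (hs.odd_of_ne_two (by omega)) (x := Q) (y := 1) hQ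
    hsQ1 hsQ hsa
  rw [one_pow, padicValNat.prime_pow] at h6
  have hne : Q ^ s ^ a - 1 ≠ 0 := by
    have : 1 < Q ^ s ^ a := Nat.one_lt_pow hsa hQ
    omega
  have h7 : s ^ (2 * a + 1) ∣ Q ^ s ^ a - 1 := by
    refine dvd_trans ?_ (h2.trans h4)
    rw [pow_succ, mul_comm]
    exact Nat.mul_dvd_mul hz (dvd_refl _)
  rw [padicValNat_dvd_iff_le hne, h6] at h7
  rw [padicValNat_dvd_iff_le (by omega)]
  omega

/-- A6 -/
theorem full_odd {s a z Q m : ℕ} (hs : s.Prime) (h3 : 3 ≤ s) (ha : 1 ≤ a) (hz : s ∣ z) (hzQ : z ∣ Q - 1)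
    (hQ : IsPrimePow Q) (h1 : m ∣ s ^ a * (∏ i ∈ range a, (s ^ (i + 1) + 1)) * (Q - 1)) (h2 : z * s ^ (2 * a) ∣ m)
    (h4 : m ∣ Q ^ (s ^ a) - 1) (h5 : Q ^ (s ^ a) ≤ 2 * m ^ 2) : False := by
  have hQ1 : 1 < Q := hQ.one_lt
  have hd := pow_dvd_sub_one hs h3 hz hzQ hQ1 h2 h4
  have hQge : s ^ (a + 1) + 1 ≤ Q := by
    have := Nat.le_of_dvd (by omega) hd
    omega
  by_cases h31 : s = 3 ∧ a = 1
  · -- `s = 3`, `a = 1`
    obtain ⟨rfl, rfl⟩ := h31
    have h9 : 9 ∣ Q - 1 := by simpa only [_root_.Nat.reduceAdd, _root_.Nat.reducePow] using hd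
    obtain ⟨k, hk⟩ := h9
    have hQk : Q = 9 * k + 1 := by omega
    have h6 : m ∣ (Q - 1) * 12 := by
      have : 3 ^ 1 * (∏ i ∈ range 1, (3 ^ (i + 1) + 1)) * (Q - 1) = (Q - 1) * 12 := by
        rw [prod_range_one]; ring
      rwa [this] at h1
    have h7 : m ∣ (Q - 1) * (Q ^ 2 + Q + 1) := by
      have : Q ^ 3 ^ 1 - 1 = (Q - 1) * (Q ^ 2 + Q + 1) := by
        rw [hk, hQk]
        have : (9 * k + 1) ^ 3 ^ 1 = 9 * k * ((9 * k + 1) ^ 2 + (9 * k + 1) + 1) + 1 := by ring
        omega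
      rwa [this] at h4
    have h8 : m ∣ (Q - 1) * Nat.gcd 12 (Q ^ 2 + Q + 1) := by
      rw [← Nat.gcd_mul_left]
      exact Nat.dvd_gcd h6 h7
    have h9 : Nat.gcd 12 (Q ^ 2 + Q + 1) ∣ 3 := by
      have e1 : Nat.gcd 12 (Q ^ 2 + Q + 1) ∣ 4 * 3 := Nat.gcd_dvd_left _ _
      have e2 : Nat.Coprime (Nat.gcd 12 (Q ^ 2 + Q + 1)) 4 := by
        have e3 : ¬ 2 ∣ Q ^ 2 + Q + 1 := by
          have : Even (Q ^ 2 + Q) := by
            rw [pow_two, ← mul_add_one]
            exact Nat.even_mul_succ_self Q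
          intro h
          have h10 := (Nat.dvd_add_right this.two_dvd).1 h
          omega
        have e4 : Nat.Coprime (Nat.gcd 12 (Q ^ 2 + Q + 1)) 2 := by
          rw [Nat.coprime_comm, Nat.Prime.coprime_iff_not_dvd Nat.prime_two]
          intro h
          exact e3 (h.trans (Nat.gcd_dvd_right _ _))
        have : Nat.Coprime (Nat.gcd 12 (Q ^ 2 + Q + 1)) (2 ^ 2) := Nat.Coprime.pow_right 2 e4
        simpa only [_root_.Nat.reducePow] using this
      exact e2.dvd_of_dvd_mul_left e1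
    have h10 : m ≤ (Q - 1) * 3 := by
      refine Nat.le_of_dvd (by omega) (h8.trans (Nat.mul_dvd_mul_left _ h9))
    have h11 : Q ^ 3 ≤ 2 * ((Q - 1) * 3) ^ 2 := by
      refine le_trans (by simpa using h5) (Nat.mul_le_mul_left _ (Nat.pow_le_pow_left h10 2))
    have hk1 : k = 1 := by
      have hk0 : 0 < k := by omega
      rw [hk, hQk] at h11
      by_contra hk1
      have hk2 : 2 ≤ k := by omega
      have : 2 * (9 * k * 3) ^ 2 < (9 * k + 1) ^ 3 := by
        obtain ⟨j, rfl⟩ := Nat.exists_eq_add_of_le hk2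
        ring_nf
        nlinarith only []
      omega
    rw [hQk, hk1] at hQ
    have : ¬ IsPrimePow (9 * 1 + 1) := by
      rw [isPrimePow_iff_unique_prime_dvd]
      rintro ⟨p, -, hp⟩
      have e1 := hp 2 ⟨Nat.prime_two, by norm_num⟩
      have e2 := hp 5 ⟨Nat.prime_five, by norm_num⟩
      omega
    exact this hQ
  -- size
  have hs1 : 1 ≤ s := by omega
  set P := ∏ i ∈ range a, (s ^ (i + 1) + 1) with hP
  have hP0 : 0 < P := by
    rw [hP]
    exact prod_pos fun i _ => by positivity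
  have hsa3 : 3 ≤ s ^ a := by
    calc 3 ≤ s := h3
      _ = s ^ 1 := (pow_one s).symm
      _ ≤ s ^ a := Nat.pow_le_pow_right hs1 ha
  have hm : m ≤ s ^ a * P * (Q - 1) :=
    Nat.le_of_dvd (Nat.mul_pos (Nat.mul_pos (by omega) hP0) (by omega)) h1
  have h6 : Q ^ (s ^ a) ≤ 2 * (s ^ (2 * a) * P ^ 2) * Q ^ 2 := by
    calc Q ^ (s ^ a) ≤ 2 * m ^ 2 := h5
      _ ≤ 2 * (s ^ a * P * (Q - 1)) ^ 2 := Nat.mul_le_mul_left _ (Nat.pow_le_pow_left hm 2)
      _ ≤ 2 * (s ^ a * P * Q) ^ 2 := Nat.mul_le_mul_left _ (Nat.pow_le_pow_left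
          (Nat.mul_le_mul_left _ (by omega)) 2)
      _ = _ := by rw [mul_pow, mul_pow, ← pow_mul, mul_comm a 2]; ring
  have h7 : Q ^ (s ^ a - 2) ≤ 2 * (s ^ (2 * a) * P ^ 2) := by
    have : Q ^ (s ^ a) = Q ^ (s ^ a - 2) * Q ^ 2 := by
      rw [← pow_add]; congr 1; omega
    rw [this] at h6
    exact Nat.le_of_mul_le_mul_right h6 (by positivity)
  by_cases h51 : s = 5 ∧ a = 1
  · obtain ⟨rfl, rfl⟩ := h51
    rw [hP, prod_range_one] at h7
    norm_num at h7 hQge
    have : 26 ^ 3 ≤ Q ^ 3 := Nat.pow_le_pow_left (by omega) 3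
    omega
  · have h8 : (s ^ (a + 1)) ^ (s ^ a - 2) ≤ Q ^ (s ^ a - 2) :=
      Nat.pow_le_pow_left (by omega) _
    rw [← pow_mul] at h8
    have h9 : a ^ 2 + 5 * a + 1 ≤ (a + 1) * (s ^ a - 2) := by
      by_cases ha1 : a = 1
      · subst ha1
        have h10 : 7 ≤ s := by
          by_contra h
          have : s ≠ 4 := by rintro rfl; exact absurd hs (by norm_num)
          have : s ≠ 6 := by rintro rfl; exact absurd hs (by norm_num)
          have : s ≠ 3 := by rintro rfl; exact h31 ⟨rfl, rfl⟩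
          have : s ≠ 5 := by rintro rfl; exact h51 ⟨rfl, rfl⟩
          omega
        rw [pow_one]
        omega
      · have h10 : a + 6 ≤ s ^ a := by
          have h11 : ∀ b : ℕ, b + 2 + 6 ≤ 3 ^ (b + 2) := by
            intro b
            induction b with
            | zero => norm_num
            | succ b ih => rw [show b + 1 + 2 = b + 2 + 1 by ring, pow_succ]; omega
          obtain ⟨b, rfl⟩ := Nat.exists_eq_add_of_le (show 2 ≤ a by omega)
          have := h11 b
          rw [add_comm b 2] at this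
          exact this.trans (Nat.pow_le_pow_left h3 _)
        have h12 : (a + 1) * (a + 4) ≤ (a + 1) * (s ^ a - 2) := Nat.mul_le_mul_left _ (by omega)
        linarith only [h12]
    have h10 : s ^ (a ^ 2 + 5 * a + 1) ≤ s ^ ((a + 1) * (s ^ a - 2)) := Nat.pow_le_pow_right hs1 h9
    have h11 := prod_sq_le hs1 a
    rw [← hP] at h11
    have h12 : 2 * (s ^ (2 * a) * P ^ 2) < s ^ (a ^ 2 + 5 * a + 1) := by
      have h13 : 2 * 4 ^ a < s ^ (2 * a + 1) := by
        calc 2 * 4 ^ a < 3 * 9 ^ a := by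
              have : 4 ^ a ≤ 9 ^ a := Nat.pow_le_pow_left (by norm_num) a
              have : 0 < 9 ^ a := by positivity
              omega
          _ = 3 ^ (2 * a + 1) := by rw [pow_succ, pow_mul]; norm_num; ring
          _ ≤ s ^ (2 * a + 1) := Nat.pow_le_pow_left h3 _
      calc 2 * (s ^ (2 * a) * P ^ 2) ≤ 2 * (s ^ (2 * a) * (4 ^ a * s ^ (a * (a + 1)))) := by
            gcongr
        _ = 2 * 4 ^ a * (s ^ (2 * a) * s ^ (a * (a + 1))) := by ring
        _ < s ^ (2 * a + 1) * (s ^ (2 * a) * s ^ (a * (a + 1))) :=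
            Nat.mul_lt_mul_of_pos_right h13 (by positivity)
        _ = s ^ (a ^ 2 + 5 * a + 1) := by rw [← pow_add, ← pow_add]; congr 1; ring
    omega

end Cfsg.Agent.H450.HT
end

-- part: H451/HT/FullTwo
section
/-!
# TEAM HT-E (S3540, S3577), task (A7): the arithmetic of the case `s = 2`, `Full`
-/

set_option autoImplicit false

namespace Cfsg.Agent.H451.HT

open Finset

/-- the 2-part of `Q ^ (2 ^ a) - 1` -/
theorem val_pow {Q a : ℕ} (h4 : 4 ∣ Q - 1) (hQ : 1 < Q) (ha : 1 ≤ a) :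
    padicValNat 2 (Q ^ (2 ^ a) - 1) = padicValNat 2 (Q - 1) + a := by
  have hodd : ¬ 2 ∣ Q := by
    intro h
    obtain ⟨c, hc⟩ := h4
    omega
  have h2 : 2 ∣ Q - 1 := Dvd.dvd.trans (by norm_num) h4
  have key := padicValNat.pow_two_sub_pow (x := Q) (y := 1) hQ (by simpa using h2) hodd
    (n := 2 ^ a) (by positivity) (by
      rw [Nat.even_pow]
      exact ⟨even_two, by omega⟩)
  rw [one_pow, padicValNat.prime_pow] at key
  have h3 : padicValNat 2 (Q + 1) = 1 := by
    obtain ⟨c, hc⟩ := h4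
    have e : Q + 1 = 2 * (2 * c + 1) := by (clear * - hQ hc; omega)
    rw [e, padicValNat.mul (by norm_num) (by omega), padicValNat.self (by norm_num),
      padicValNat.eq_zero_of_not_dvd (by omega)]
  rw [h3] at key
  omega

theorem prod_sq_le (a : ℕ) : (∏ i ∈ range a, (2 ^ (i + 1) + 1)) ^ 2 ≤ 2 ^ (a * (a + 3)) := by
  induction a with
  | zero => simp
  | succ a ih =>
    rw [prod_range_succ, mul_pow]
    have h1 : (2 ^ (a + 1) + 1) ^ 2 ≤ 2 ^ (2 * a + 4) := by
      have h2 : 2 ^ (a + 1) + 1 ≤ 2 ^ (a + 2) := by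
        have := Nat.one_le_two_pow (n := a + 1)
        rw [pow_succ 2 (a + 1)]
        omega
      calc (2 ^ (a + 1) + 1) ^ 2 ≤ (2 ^ (a + 2)) ^ 2 := Nat.pow_le_pow_left h2 2
        _ = 2 ^ (2 * a + 4) := by rw [← pow_mul]; congr 1; ring
    calc _ ≤ 2 ^ (a * (a + 3)) * 2 ^ (2 * a + 4) := Nat.mul_le_mul ih h1
      _ = 2 ^ ((a + 1) * (a + 1 + 3)) := by rw [← pow_add]; congr 1; ring

theorem add_five_le : ∀ a : ℕ, 3 ≤ a → a + 5 ≤ 2 ^ a := by
  intro a ha
  induction a, ha using Nat.le_induction with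
  | base => norm_num
  | succ n _ ih => rw [pow_succ]; omega

/-- A7 -/
theorem full_two {a z Q m : ℕ} (ha : 2 ≤ a) (hz : 4 ∣ z) (hzQ : z ∣ Q - 1) (hQ : 1 < Q)
    (h1 : m ∣ 2 ^ a * (∏ i ∈ range a, (2 ^ (i + 1) + 1)) * (Q - 1)) (h2 : z * 2 ^ (2 * a) ∣ m)
    (h4 : m ∣ Q ^ (2 ^ a) - 1) (h5 : Q ^ (2 ^ a) ≤ 2 * m ^ 2) :
    a = 2 ∧ Q = 17 ∧ z = 4 ∧ (m = 320 ∨ m = 960) := by
  have h4Q : 4 ∣ Q - 1 := hz.trans hzQ
  have hprodpos : 0 < ∏ i ∈ range a, (2 ^ (i + 1) + 1) := prod_pos fun i _ => by positivity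
  have hRpos : 0 < 2 ^ a * (∏ i ∈ range a, (2 ^ (i + 1) + 1)) * (Q - 1) := by
    have : 0 < Q - 1 := by omega
    positivity
  have hmle : m ≤ 2 ^ a * (∏ i ∈ range a, (2 ^ (i + 1) + 1)) * (Q - 1) := Nat.le_of_dvd hRpos h1
  rcases Nat.lt_or_ge a 3 with h3 | h3
  · -- a = 2
    have ha2 : a = 2 := by omega
    subst ha2
    have e1 : (2 : ℕ) ^ 2 * (∏ i ∈ range 2, (2 ^ (i + 1) + 1)) = 60 := by decide
    rw [e1] at h1 hmle
    norm_num only [] at h2 h4 h5
    obtain ⟨k, hk⟩ := h4Q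
    have hQk : Q = 4 * k + 1 := by omega
    have hlt : Q < 85 := by
      by_contra hge
      push Not at hge
      have h6 : Q ^ 4 ≤ 2 * (60 * (Q - 1)) ^ 2 :=
        h5.trans (Nat.mul_le_mul_left 2 (Nat.pow_le_pow_left hmle 2))
      have h7 : (60 * (Q - 1)) ^ 2 ≤ (60 * Q) ^ 2 := Nat.pow_le_pow_left (by omega) 2
      have h8 : 85 ^ 2 * Q ^ 2 ≤ Q ^ 2 * Q ^ 2 := Nat.mul_le_mul_right _ (Nat.pow_le_pow_left hge 2)
      have h9 : 0 < Q ^ 2 := by positivity
      linarith only [h6, h7, h8, h9]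
    obtain ⟨w, hw⟩ := hz
    have h64 : 64 ∣ m := by
      refine Dvd.dvd.trans ?_ h2
      exact ⟨w, by rw [hw]; ring⟩
    have hg := Nat.dvd_gcd h1 h4
    rw [hk] at hg
    have hk20 : k ≤ 20 := by omega
    have hk1 : 1 ≤ k := by omega
    subst hQk
    have hk4 : k = 4 := by
      by_contra hne
      have hdvd := h64.trans hg
      have hgpos : 0 < Nat.gcd (60 * (4 * k)) ((4 * k + 1) ^ 4 - 1) :=
        Nat.gcd_pos_of_pos_left _ (by omega)
      have hmg := Nat.le_of_dvd hgpos hg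
      have h5' : (4 * k + 1) ^ 4 ≤ 2 * (Nat.gcd (60 * (4 * k)) ((4 * k + 1) ^ 4 - 1)) ^ 2 :=
        h5.trans (Nat.mul_le_mul_left 2 (Nat.pow_le_pow_left hmg 2))
      clear hmg hgpos hg h5 h4 h1 hmle h2 h64
      interval_cases k <;> first | exact hne rfl | (revert hdvd h5'; decide)
    subst hk4
    norm_num only [_root_.true_and] at h4 h5 hzQ hg ⊢
    have hm960 : m ∣ 960 := hg
    have hz16 : z * 16 ∣ 83520 := h2.trans h4
    have hzle : z ≤ 16 := Nat.le_of_dvd (by norm_num) hzQ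
    have hz4 : z = 4 := by
      have hw4 : w ≤ 4 := by omega
      subst hw
      have hw0 : w ≠ 0 := by
        rintro rfl
        norm_num at hzQ
      interval_cases w
      · exact absurd rfl hw0
      · rfl
      · exfalso; revert hz16; decide
      · exfalso; revert hzQ; decide
      · exfalso; revert hz16; decide
    refine ⟨hz4, ?_⟩
    obtain ⟨c, rfl⟩ := h64
    have hc : c ≤ 15 := by
      have := Nat.le_of_dvd (by norm_num) hm960
      omega
    interval_cases c <;> first | (exfalso; revert h5; norm_num; done) | (exfalso; revert hm960; decide) | simp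
  · -- a ≥ 3
    exfalso
    have hm0 : m ≠ 0 := by
      rintro rfl
      have : 0 < Q ^ (2 ^ a) := by positivity
      simp at h5
      omega
    have hz0 : z ≠ 0 := by
      rintro rfl
      rw [zero_mul] at h2
      exact hm0 (Nat.eq_zero_of_zero_dvd h2)
    have hP : Q ^ (2 ^ a) - 1 ≠ 0 := by
      have : 1 < Q ^ (2 ^ a) := Nat.one_lt_pow (by positivity) hQ
      omega
    have hv : (a + 2) + a ≤ padicValNat 2 (Q ^ (2 ^ a) - 1) := by
      have hd : 2 ^ (2 * a + 2) ∣ Q ^ (2 ^ a) - 1 := by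
        refine Dvd.dvd.trans ?_ (h2.trans h4)
        rw [pow_add, mul_comm]
        exact Nat.mul_dvd_mul_right hz _
      have := (padicValNat_dvd_iff_le hP).mp hd
      omega
    rw [val_pow h4Q hQ (by omega)] at hv
    have hQ1 : 2 ^ (a + 2) ∣ Q - 1 := by
      rw [padicValNat_dvd_iff_le (by omega)]
      omega
    have hQge : 2 ^ (a + 2) ≤ Q := by
      have := Nat.le_of_dvd (by omega) hQ1
      omega
    have hm2 : m ^ 2 ≤ (2 ^ (2 * a) * 2 ^ (a * (a + 3))) * Q ^ 2 := by
      calc m ^ 2 ≤ (2 ^ a * (∏ i ∈ range a, (2 ^ (i + 1) + 1)) * Q) ^ 2 :=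
            Nat.pow_le_pow_left (hmle.trans (Nat.mul_le_mul_left _ (Nat.sub_le _ _))) 2
        _ = 2 ^ (2 * a) * (∏ i ∈ range a, (2 ^ (i + 1) + 1)) ^ 2 * Q ^ 2 := by
            rw [mul_pow, mul_pow, ← pow_mul, mul_comm a 2]
        _ ≤ _ := Nat.mul_le_mul_right _ (Nat.mul_le_mul_left _ (prod_sq_le a))
    have h2a : 2 ≤ 2 ^ a := by
      have := add_five_le a h3
      omega
    obtain ⟨e, he⟩ : ∃ e, 2 ^ a = e + 2 := ⟨2 ^ a - 2, by omega⟩
    have h6 : Q ^ e * Q ^ 2 ≤ (2 ^ (1 + 2 * a + a * (a + 3))) * Q ^ 2 := by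
      rw [← pow_add, ← he]
      calc Q ^ 2 ^ a ≤ 2 * m ^ 2 := h5
        _ ≤ 2 * ((2 ^ (2 * a) * 2 ^ (a * (a + 3))) * Q ^ 2) := Nat.mul_le_mul_left 2 hm2
        _ = _ := by rw [pow_add, pow_add, pow_one]; ring
    have h7 : Q ^ e ≤ 2 ^ (1 + 2 * a + a * (a + 3)) := Nat.le_of_mul_le_mul_right h6 (by positivity)
    have h8 : 2 ^ ((a + 2) * e) ≤ 2 ^ (1 + 2 * a + a * (a + 3)) := by
      rw [pow_mul]
      exact (Nat.pow_le_pow_left hQge e).trans h7
    have h9 : (a + 2) * e ≤ 1 + 2 * a + a * (a + 3) := (Nat.pow_le_pow_iff_right (by norm_num)).mp h8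
    have h10 : a + 3 ≤ e := by
      have := add_five_le a h3
      omega
    have h11 : (a + 2) * (a + 3) ≤ (a + 2) * e := Nat.mul_le_mul_left _ h10
    linarith only [h9, h11]

end Cfsg.Agent.H451.HT
end

-- part: H662/HT/DOne
section
/-!
# Normal subgroups of symplectic type in half-transitive linear groups: full type (S3540, S3577; helper662)
-/

set_option autoImplicit false

open scoped commutatorElement
open Finset

namespace Cfsg.Agent.H662.HT

open Cfsg.Agent.H828.HT
open Cfsg.Agent.H662.HT.Leaf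

universe u

set_option linter.unusedSectionVars false

variable {p : ℕ} [Fact p.Prime] {V : Type u} [AddCommGroup V] [Module (ZMod p) V] [Finite V]

/-- a base of a prime power -/
theorem isPrimePow_of_pow {Q n k : ℕ} (hp : p.Prime) (hk : 0 < k) (hQ : 1 < Q) (h : p ^ n = Q ^ k) : IsPrimePow Q := by
  obtain ⟨q, hq, hqQ⟩ := Nat.exists_prime_and_dvd (n := Q) (by omega)
  have h1 : q ∣ p ^ n := by rw [h]; exact dvd_pow hqQ hk.ne'
  have h2 : Q ∣ p ^ n := by rw [h]; exact dvd_pow_self Q hk.ne'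
  obtain ⟨j, -, hj⟩ := (Nat.dvd_prime_pow hp).1 h2
  rw [isPrimePow_nat_iff]
  refine ⟨p, j, hp, ?_, hj.symm⟩
  rcases Nat.eq_zero_or_pos j with h0 | h0
  · subst h0; rw [hj] at hQ; simp at hQ
  · exact h0

/-- the numerical restrictions -/
theorem full_num' {G N : Subgroup (V ≃ₗ[ZMod p] V)} (hN : N ≤ G) (hn : ∀ g ∈ G, ∀ x ∈ N, g * x * g⁻¹ ∈ N)
    {h : ℕ} (hh : Half G h) (h2 : 2 ≤ h) {s a : ℕ} (H : Sym s a N V) (hF : Full s N)
    (big : 3 ≤ s ∨ 2 ≤ a) : s = 2 ∧ a = 2 ∧ Nat.card V = 17 ^ 4 ∧ Nat.card (Subgroup.center N) = 4 ∧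
      ∃ m, m * h = Nat.card G ∧ (m = 320 ∨ m = 960) := by
  obtain ⟨Q, hQ, hV, hz, hX, hfree⟩ := numbers_full H hF big
  have := H.nt
  obtain ⟨v, hv⟩ := exists_ne (0 : V)
  obtain ⟨m, hm, hm0⟩ := exists_m hh ⟨v, hv⟩
  have h0 : 0 < h := by omega
  have h1 : m ∣ s ^ a * (∏ i ∈ range a, (s ^ (i + 1) + 1)) * (Q - 1) := by
    rw [← hX]; exact dvd_spec hn hh h0 hm s a
  have h3 : Nat.card (Subgroup.center N) * s ^ (2 * a) ∣ m := by
    rw [← H.card]; exact dvd_of_free hN hn hh h0 hm hfree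
  have h4 : m ∣ Q ^ (s ^ a) - 1 := by
    rw [← hV]; exact dvd_card_sub_one hh h0 hm
  have h5 : Q ^ (s ^ a) ≤ 2 * m ^ 2 := by
    rw [← hV]; exact Cfsg.Agent.H19.HT.card_le hh h2 hm
  have hs := H.hs
  -- `s` divides the order of the centre
  have hsz : s ∣ Nat.card (Subgroup.center N) := by
    have : Fact s.Prime := ⟨hs⟩
    have := H.fin
    by_contra hns
    have hab : ∀ x y : N, x * y = y * x := by
      intro x y
      rw [← commutatorElement_eq_one_iff_mul_comm]
      have hpw := H.comm_pow x y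
      by_contra hne
      have hord : orderOf ⁅x, y⁆ = s := orderOf_eq_prime hpw hne
      exact hns (hord ▸ Subgroup.orderOf_dvd_natCard _ (H.comm x y))
    have htop : Subgroup.center N = ⊤ := by
      rw [eq_top_iff]
      intro x _
      exact Subgroup.mem_center_iff.2 fun y => hab y x
    have hc := H.card
    rw [htop, Subgroup.card_top] at hc
    have hpos : 0 < Nat.card N := Nat.card_pos
    have h6 : 1 < s ^ (2 * a) := Nat.one_lt_pow (by have := H.ha; omega) hs.one_lt
    nlinarith only [hc, hpos, h6]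
  have hpn : ∃ n, p ^ n = Q ^ (s ^ a) := ⟨_, by rw [← hV]; exact (card_eq_pow V).symm⟩
  obtain ⟨n, hpn⟩ := hpn
  have hpp : p.Prime := Fact.out
  have hQp : IsPrimePow Q := isPrimePow_of_pow hpp (pow_pos hs.pos a) hQ hpn
  rcases hs.eq_two_or_odd with hs2 | hsodd
  · subst hs2
    have ha : 2 ≤ a := by omega
    -- `4` divides the order of the centre
    have h4z : 4 ∣ Nat.card (Subgroup.center N) := by
      by_contra h4
      -- two noncommuting elements
      have hex : ∃ x y : N, ⁅x, y⁆ ≠ 1 := by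
        by_contra hcon
        push Not at hcon
        have htop : Subgroup.center N = ⊤ := by
          rw [eq_top_iff]
          intro x _
          exact Subgroup.mem_center_iff.2 fun y => (commutatorElement_eq_one_iff_mul_comm.1 (hcon y x))
        have hc := H.card
        rw [htop, Subgroup.card_top] at hc
        have := H.fin
        have hpos : 0 < Nat.card N := Nat.card_pos
        have h6 : 1 < 2 ^ (2 * a) := Nat.one_lt_pow (by omega) (by norm_num)
        nlinarith only [hc, hpos, h6]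
      obtain ⟨x, y, hxy⟩ := hex
      obtain ⟨c, hc, hxc⟩ := hF x
      obtain ⟨d, hd, hyd⟩ := hF y
      set x' := x * c with hx'
      set y' := y * d with hy'
      have hcx : ⁅x', y'⁆ = ⁅x, y⁆ := by
        rw [hx', hy', H.comm_mul_left, H.comm_mul_right, H.comm_mul_right]
        have e1 : ⁅x, d⁆ = 1 := commutatorElement_eq_one_iff_mul_comm.2 (Subgroup.mem_center_iff.1 hd x)
        have e2 : ⁅c, y⁆ = 1 := commutatorElement_eq_one_iff_mul_comm.2 (Subgroup.mem_center_iff.1 hc y).symm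
        have e3 : ⁅c, d⁆ = 1 := commutatorElement_eq_one_iff_mul_comm.2 (Subgroup.mem_center_iff.1 hd c)
        rw [e1, e2, e3, mul_one, mul_one, mul_one]
      obtain ⟨e, he, hxe⟩ := hF (x' * y')
      -- `(x' y' e)^2 = [x', y'] e^2`
      have h6 : (x' * y' * e) ^ 2 = ⁅x', y'⁆ * e ^ 2 := by
        have hxi : x'⁻¹ = x' := inv_eq_of_mul_eq_one_right (by rw [← sq]; exact hxc)
        have hyi : y'⁻¹ = y' := inv_eq_of_mul_eq_one_right (by rw [← sq]; exact hyd)
        have hec := Subgroup.mem_center_iff.1 he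
        rw [commutatorElement_def, hxi, hyi, sq, sq]
        calc x' * y' * e * (x' * y' * e) = x' * y' * (e * (x' * y')) * e := by group
          _ = x' * y' * ((x' * y') * e) * e := by rw [hec (x' * y')]
          _ = x' * y' * x' * y' * (e * e) := by group
      rw [hxe, hcx] at h6
      have h7 : e ^ 2 = ⁅x, y⁆⁻¹ := by
        rw [eq_comm, inv_eq_iff_mul_eq_one]; exact h6.symm
      have h8 : ⁅x, y⁆ ^ 2 = 1 := H.comm_pow x y
      have h9 : e ^ 4 = 1 := by
        have : e ^ 4 = (e ^ 2) ^ 2 := by rw [← pow_mul]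
        rw [this, h7, inv_pow, h8, inv_one]
      have h10 : e ^ 2 ≠ 1 := by rw [h7]; exact fun h => hxy (inv_eq_one.1 h)
      have h11 : orderOf e = 2 ^ 2 := by
        have : Fact (Nat.Prime 2) := ⟨Nat.prime_two⟩
        exact orderOf_eq_prime_pow (p := 2) (n := 1) (by simpa only [_root_.pow_one, _root_.ne_eq] using h10) (by simpa only [_root_.Nat.reduceAdd, _root_.Nat.reducePow] using h9)
      have h12 : orderOf e ∣ Nat.card (Subgroup.center N) := Subgroup.orderOf_dvd_natCard _ he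
      rw [h11] at h12
      exact h4 h12
    obtain ⟨ha2, hQ17, hz4, hmm⟩ := Cfsg.Agent.H451.HT.full_two ha h4z hz hQ h1 h3 h4 h5
    subst ha2
    refine ⟨rfl, rfl, ?_, hz4, m, hm, hmm⟩
    rw [hV, hQ17]
    norm_num
  · exfalso
    have hs3 : 3 ≤ s := by
      have := hs.two_le
      rcases Nat.lt_or_ge s 3 with h6 | h6
      · interval_cases s; simp at hsodd
      · exact h6
    exact Cfsg.Agent.H450.HT.full_odd hs hs3 H.ha hsz hz hQp h1 h3 h4 h5

/-- a group normalising a symplectic type group of order `64` with centre of order `4` on a space of order `17 ^ 4`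
has order prime to `17` -/
theorem cop_seventeen {V : Type u} [AddCommGroup V] [Fact (Nat.Prime 17)] [Module (ZMod 17) V] [Finite V]
    (hV : Nat.card V = 17 ^ 4) {G N : Subgroup (V ≃ₗ[ZMod 17] V)} (hn : ∀ g ∈ G, ∀ x ∈ N, g * x * g⁻¹ ∈ N)
    (H : Sym 2 2 N V) (hF : Full 2 N) (hz : Nat.card (Subgroup.center N) = 4) : ¬ 17 ∣ Nat.card G := by
  classical
  intro hdvd
  have hfin := H.fin
  have : Finite (V ≃ₗ[ZMod 17] V) := finG
  obtain ⟨g, hg⟩ := exists_prime_orderOf_dvd_card' 17 hdvd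
  -- conjugation by `g`
  let c : MulAut N := 
    { toFun := fun x => ⟨(g : V ≃ₗ[ZMod 17] V) * x * (g : V ≃ₗ[ZMod 17] V)⁻¹, hn _ g.2 _ x.2⟩
      invFun := fun x => ⟨(g : V ≃ₗ[ZMod 17] V)⁻¹ * x * (g : V ≃ₗ[ZMod 17] V), by
        have := hn _ (G.inv_mem g.2) _ x.2
        rwa [inv_inv] at this⟩
      left_inv := fun x => Subtype.ext (by simp only [mul_assoc, _root_.inv_mul_cancel_left, _root_.inv_mul_cancel, _root_.mul_one])
      right_inv := fun x => Subtype.ext (by simp only [mul_assoc, _root_.mul_inv_cancel_left, _root_.mul_inv_cancel, _root_.mul_one])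
      map_mul' := fun x y => Subtype.ext (by simp only [mul_assoc, _root_.Subgroup.coe_mul, _root_.MulMemClass.mk_mul_mk, _root_.inv_mul_cancel_left]) }
  have hpow : ∀ (n : ℕ) (x : N), (((c ^ n) x : N) : V ≃ₗ[ZMod 17] V) =
      (g : V ≃ₗ[ZMod 17] V) ^ n * x * ((g : V ≃ₗ[ZMod 17] V) ^ n)⁻¹ := by
    intro n
    induction n with
    | zero => intro x; simp
    | succ n ih =>
      intro x
      rw [pow_succ', MulAut.mul_apply]
      change (g : V ≃ₗ[ZMod 17] V) * (((c ^ n) x : N) : V ≃ₗ[ZMod 17] V) * (g : V ≃ₗ[ZMod 17] V)⁻¹ = _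
      rw [ih, pow_succ']
      group
  have hc17 : c ^ 17 = 1 := by
    apply MulEquiv.ext
    intro x
    apply Subtype.ext
    rw [hpow]
    have h1 : (g : V ≃ₗ[ZMod 17] V) ^ 17 = 1 := by
      have := pow_orderOf_eq_one g
      rw [hg] at this
      exact congrArg Subtype.val this
    rw [h1]
    simp
  -- `c` is trivial
  have hc1 : c = 1 := by
    have hpg : IsPGroup 17 (Subgroup.zpowers c) := by
      refine IsPGroup.of_card_dvd_pow (n := 1) ?_
      rw [Nat.card_zpowers, pow_one]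
      exact orderOf_dvd_of_pow_eq_one hc17
    have h1 := hpg.card_modEq_card_fixedPoints N
    let Fx : Subgroup N :=
      { carrier := {x | c x = x}
        one_mem' := map_one c
        mul_mem' := fun {a b} ha hb => by
          change c (a * b) = a * b
          rw [map_mul, show c a = a from ha, show c b = b from hb]
        inv_mem' := fun {a} ha => by
          change c a⁻¹ = a⁻¹
          rw [map_inv, show c a = a from ha] }
    have h2 : Nat.card (MulAction.fixedPoints (Subgroup.zpowers c) N) = Nat.card Fx := by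
      refine Nat.card_congr (Equiv.setCongr ?_)
      ext x
      constructor
      · intro h
        exact h ⟨c, Subgroup.mem_zpowers c⟩
      · rintro h ⟨_, k, rfl⟩
        have h3 : c x = x := h
        have h4 : c ∈ MulAction.stabilizer (MulAut N) x := h3
        exact (MulAction.stabilizer (MulAut N) x).zpow_mem h4 k
    rw [h2] at h1
    have h3 : Nat.card N = 64 := by rw [H.card, hz]; norm_num
    have h4 : Nat.card Fx ∣ 64 := h3 ▸ Subgroup.card_subgroup_dvd_card Fx
    rw [h3] at h1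
    have h5 : Nat.card Fx = 64 := by
      have h6 : Nat.card Fx ∈ Nat.divisors 64 := Nat.mem_divisors.2 ⟨h4, by norm_num⟩
      have h7 : Nat.divisors 64 = {1, 2, 4, 8, 16, 32, 64} := by decide +kernel
      rw [h7] at h6
      simp only [Finset.mem_insert, Finset.mem_singleton] at h6
      unfold Nat.ModEq at h1
      rcases h6 with h | h | h | h | h | h | h <;> rw [h] at h1 <;> first | exact h | (norm_num at h1)
    have h6 : Fx = ⊤ := Subgroup.eq_top_of_card_eq _ (by rw [h5, h3])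
    apply MulEquiv.ext
    intro x
    exact (h6 ▸ Subgroup.mem_top x : x ∈ Fx)
  have hcomm : ∀ x ∈ N, (g : V ≃ₗ[ZMod 17] V) * x = x * g := by
    intro x hx
    have h1 : (g : V ≃ₗ[ZMod 17] V) * x * (g : V ≃ₗ[ZMod 17] V)⁻¹ = x := by
      have h2 : c ⟨x, hx⟩ = ⟨x, hx⟩ := by rw [hc1]; rfl
      exact congrArg Subtype.val h2
    exact mul_inv_eq_iff_eq_mul.1 h1
  -- the fixed points of `g`
  have hnt := H.nt
  have hgp : IsPGroup 17 (Subgroup.zpowers g) := by
    refine IsPGroup.of_card_dvd_pow (n := 1) ?_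
    rw [Nat.card_zpowers, pow_one, hg]
  obtain ⟨v, hv, hvf⟩ := Cfsg.Agent.H19.HT.exists_fixed_pgroup (Subgroup.zpowers g) hgp
  have hWb : fx (g : V ≃ₗ[ZMod 17] V) ≠ ⊥ := by
    intro h
    apply hv
    have h1 : v ∈ fx (g : V ≃ₗ[ZMod 17] V) := mem_fx.2 (hvf g (Subgroup.mem_zpowers g))
    rw [h] at h1
    exact (Submodule.mem_bot _).1 h1
  obtain ⟨e, -, H'⟩ := H.restr hWb (by
    intro x hx w hw
    rw [mem_fx] at hw ⊢
    have h1 : (g : V ≃ₗ[ZMod 17] V) (x w) = x ((g : V ≃ₗ[ZMod 17] V) w) :=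
      congrArg (fun f : V ≃ₗ[ZMod 17] V => f w) (hcomm x hx)
    rw [h1, hw])
  obtain ⟨Q, hQ, hW, -⟩ := numbers_full H' (hF.congr e) (Or.inr le_rfl)
  have h17 : 17 ≤ Q := by
    have h1 : Q ∣ 17 ^ Module.finrank (ZMod 17) (fx (g : V ≃ₗ[ZMod 17] V)) := by
      rw [← card_eq_pow (p := 17), hW]
      exact dvd_pow_self Q (by norm_num)
    obtain ⟨j, -, hj⟩ := (Nat.dvd_prime_pow (by norm_num)).1 h1
    rcases Nat.eq_zero_or_pos j with h2 | h2
    · subst h2; omega
    · rw [hj]; exact Nat.le_self_pow h2.ne' 17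
  have h18 : Nat.card V ≤ Nat.card (fx (g : V ≃ₗ[ZMod 17] V)) := by
    rw [hV, hW]
    exact Nat.pow_le_pow_left h17 4
  have htop : fx (g : V ≃ₗ[ZMod 17] V) = ⊤ := by
    have : Finite (fx (g : V ≃ₗ[ZMod 17] V)) := inferInstance
    have h19 := Set.eq_of_subset_of_ncard_le (Set.subset_univ (fx (g : V ≃ₗ[ZMod 17] V) : Set V)) (by
      rw [Set.ncard_univ]; exact h18)
    exact SetLike.coe_injective (by rw [h19]; rfl)
  have hg1 : g = 1 := by
    apply Subtype.ext
    apply LinearEquiv.ext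
    intro w
    exact mem_fx.1 (htop ▸ Submodule.mem_top : w ∈ fx (g : V ≃ₗ[ZMod 17] V))
  rw [hg1, orderOf_one] at hg
  norm_num at hg

/-- **Full type is impossible.** -/
theorem full_false' {G N : Subgroup (V ≃ₗ[ZMod p] V)} (hN : N ≤ G) (hn : ∀ g ∈ G, ∀ x ∈ N, g * x * g⁻¹ ∈ N)
    {h : ℕ} (hh : Half G h) (h2 : 2 ≤ h) {s a : ℕ} (H : Sym s a N V) (hF : Full s N)
    (big : 3 ≤ s ∨ 2 ≤ a) : False := by
  obtain ⟨rfl, rfl, hV, hz, m, hm, hmm⟩ := full_num' hN hn hh h2 H hF big
  have hp : p = 17 := by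
    have h1 := card_eq_pow (p := p) V
    rw [hV] at h1
    have hpp : p.Prime := Fact.out
    have h2 : p ∣ 17 ^ 4 := by
      rw [h1]
      refine dvd_pow_self p ?_
      rintro h3
      rw [h3] at h1
      norm_num at h1
    exact (Nat.prime_dvd_prime_iff_eq hpp (by norm_num)).1 (hpp.dvd_of_dvd_pow h2)
  subst hp
  have hcop := cop_seventeen hV hn H hF hz
  exact beta_two hV hN hn hcop hh h2 hm hmm H hF hz fun t ht ht2 ht1 ht3 =>
    Cfsg.Agent.H137.HT.beta_one hV hN hn hcop hh h2 hm hmm H hF hz ht ht2 ht1 ht3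

/-- **Full type is impossible.** -/
theorem full_false {G N : Subgroup (V ≃ₗ[ZMod p] V)} (hN : N ≤ G) (hn : ∀ g ∈ G, ∀ x ∈ N, g * x * g⁻¹ ∈ N)
    (_hcop : ¬ p ∣ Nat.card G) {h : ℕ} (hh : Half G h) (h2 : 2 ≤ h) {s a : ℕ} (H : Sym s a N V) (hF : Full s N)
    (big : 3 ≤ s ∨ 2 ≤ a) : False :=
  full_false' hN hn hh h2 H hF big

end Cfsg.Agent.H662.HT
end

private theorem dce_f71710912feb : _root_.True := by
  try have : _root_.True := by simp only [_root_.Cfsg.Agent.H137.HT.klein.eq_1]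
  exact _root_.True.intro
end

-- part: H333/QS6/Rep
section
prune_inst 0x4f0104f0177221000001c000042001ef3b3000002000b0000402403060f890c4220438621ba300510801200c4403c007813100520420000000a000400013d078910801000a019080c840000000000400000000000000000000000000000000000200400002
set_option linter.all false
open scoped Cfsg.Agent.FastGrp

-- part: H333/QS6/Eig
section
/-!
# S3540, quasisimple rows: eigenvalue multiplicities (helper333)

* `orbits`: `z ^ m = 1`, `m` prime, `y z y⁻¹ = z ^ a`, `a` of order `k` modulo `m`: `dim V = dim C_V(z) + k c`, and every other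
  eigenspace of `z` has dimension at most `c`;
* `bar`: base change.
-/

set_option autoImplicit false
set_option linter.unusedSectionVars false

universe u v w

namespace Cfsg.Agent.H333.QS6.Eig

open Module Cfsg.Agent.H952.F4 Cfsg.Agent.H952.F4.EigFr

section orb

variable {m : ℕ} [Fact m.Prime]

/-- sums of functions invariant under multiplication by `b` -/
theorem sum_orbits {b : ZMod m} {k : ℕ} (hb : orderOf b = k) (hk : 0 < k) (a : ZMod m → ℕ) (ha : ∀ i, a (b * i) = a i) :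
    ∃ c, ∑ i, a i = a 0 + k * c ∧ ∀ i, i ≠ 0 → a i ≤ c := by
  classical
  obtain ⟨R, hR0, hR1, hR2⟩ := exists_transversal b hb hk
  have hbk : b ^ k = 1 := by rw [← hb]; exact pow_orderOf_eq_one b
  have hpow : ∀ (j : ℕ) (i : ZMod m), a (b ^ j * i) = a i := by
    intro j
    induction j with
    | zero => intro i; rw [pow_zero, one_mul]
    | succ j ih => intro i; rw [pow_succ', mul_assoc, ha, ih]
  have hb0 : b ≠ 0 := by
    rintro rfl
    rw [zero_pow hk.ne'] at hbk
    exact zero_ne_one hbk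
  refine ⟨∑ i ∈ R, a i, ?_, ?_⟩
  · rw [← Finset.add_sum_erase _ _ (Finset.mem_univ (0 : ZMod m))]
    congr 1
    have h1 : ∑ x ∈ R ×ˢ Finset.range k, a (b ^ x.2 * x.1) = k * ∑ i ∈ R, a i := by
      rw [Finset.sum_product, Finset.mul_sum]
      refine Finset.sum_congr rfl fun i _ => ?_
      rw [Finset.sum_congr rfl fun j _ => hpow j i, Finset.sum_const, Finset.card_range, smul_eq_mul]
    rw [← h1]
    symm
    refine Finset.sum_bij (fun x _ => b ^ x.2 * x.1) ?_ ?_ ?_ ?_
    · intro x hx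
      rw [Finset.mem_product] at hx
      refine Finset.mem_erase.2 ⟨?_, Finset.mem_univ _⟩
      refine mul_ne_zero (pow_ne_zero _ hb0) ?_
      intro h
      rw [← h] at hR0
      exact hR0 hx.1
    · rintro ⟨i, j⟩ hx ⟨i', j'⟩ hx' h
      rw [Finset.mem_product, Finset.mem_range] at hx hx'
      dsimp only at h hx hx'
      have key : ∀ {i i' : ZMod m} {j j' : ℕ}, i ∈ R → i' ∈ R → j < k → j' < k → b ^ j * i = b ^ j' * i' → j ≤ j' →
          i = i' ∧ j = j' := by
        intro i i' j j' hi hi' hj hj' h hle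
        obtain ⟨d, rfl⟩ := Nat.exists_eq_add_of_le hle
        rw [pow_add, mul_assoc] at h
        have h2 := mul_left_cancel₀ (pow_ne_zero j hb0) h
        rcases Nat.eq_zero_or_pos d with rfl | hd
        · rw [pow_zero, one_mul] at h2
          exact ⟨h2, by omega⟩
        · exfalso
          rw [h2] at hi
          exact hR2 i' hi' d hd (by omega) hi
      rcases Nat.le_total j j' with hle | hle
      · obtain ⟨h1, h2⟩ := key hx.1 hx'.1 hx.2 hx'.2 h hle
        rw [h1, h2]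
      · obtain ⟨h1, h2⟩ := key hx'.1 hx.1 hx'.2 hx.2 h.symm hle
        rw [h1, h2]
    · intro i hi
      rw [Finset.mem_erase] at hi
      obtain ⟨j, hj, hjR⟩ := hR1 i hi.1
      refine ⟨(b ^ j * i, (k - j) % k), ?_, ?_⟩
      · rw [Finset.mem_product]
        exact ⟨hjR, Finset.mem_range.2 (Nat.mod_lt _ hk)⟩
      · dsimp only
        have h2 : b ^ ((k - j) % k) = b ^ (k - j) := by
          rw [← hb, pow_mod_orderOf]
        rw [h2, ← mul_assoc, ← pow_add, Nat.sub_add_cancel hj.le, hbk, one_mul]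
    · intro x _
      rfl
  · intro i hi
    obtain ⟨j, -, hjR⟩ := hR1 i hi
    rw [← hpow j i]
    exact Finset.single_le_sum (f := fun i => a i) (fun _ _ => Nat.zero_le _) hjR

end orb

section eig

variable {K : Type u} {V : Type v} [Field K] [AddCommGroup V] [Module K V] [FiniteDimensional K V]

/-- the range of the projection is the eigenspace -/
theorem range_pj_gen {m : ℕ} [NeZero m] {T : Module.End K V} {ψ : AddChar (ZMod m) K} (hT : T ^ m = 1) (hmK : (m : K) ≠ 0)
    (i : ZMod m) : LinearMap.range (pj ψ T i) = es T (ψ i) := by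
  have hψm : ∀ j : ZMod m, ψ j ^ m = 1 := by
    intro j
    rw [← AddChar.map_nsmul_eq_pow, nsmul_eq_mul, ZMod.natCast_self, zero_mul, AddChar.map_zero_eq_one]
  have hT' : (ψ (-i) • T) ^ m = 1 := by rw [smul_pow, hT, hψm, one_smul]
  have h1 := range_pj (ψ := ψ) hT' hmK
  have h2 : pj ψ (ψ (-i) • T) 0 = pj ψ T i := by
    unfold pj
    congr 1
    refine Finset.sum_congr rfl fun t _ => ?_
    rw [mul_zero, neg_zero, AddChar.map_zero_eq_one, one_smul, smul_pow]
    congr 1
    rw [← AddChar.map_nsmul_eq_pow, nsmul_eq_mul, ZMod.natCast_zmod_val]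
    congr 1
    ring
  have h3 : es (ψ (-i) • T) 1 = es T (ψ i) := by
    have hinv : ψ i * ψ (-i) = 1 := by rw [← AddChar.map_add_eq_mul, add_neg_cancel, AddChar.map_zero_eq_one]
    ext v
    unfold es
    rw [Module.End.mem_eigenspace_iff, Module.End.mem_eigenspace_iff, LinearMap.smul_apply, one_smul]
    constructor
    · intro h
      rw [← one_smul K (T v), ← hinv, mul_smul, h]
    · intro h
      rw [h, smul_smul, mul_comm, hinv, one_smul]
  rw [← h2, h1, h3]

/-- conjugate operators have eigenspaces of the same dimension -/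
theorem ev_conj {T T' Y Y' : Module.End K V} (h1 : Y * Y' = 1) (h2 : Y' * Y = 1) (h : Y * T = T' * Y) (c : K) :
    ev T c = ev T' c := by
  have e1 : ∀ v, Y (T v) = T' (Y v) := fun v => LinearMap.congr_fun h v
  have e2 : ∀ v, T (Y' v) = Y' (T' v) := by
    intro v
    have : Y' * (Y * T) * Y' = Y' * (T' * Y) * Y' := by rw [h]
    rw [← mul_assoc, h2, one_mul, mul_assoc, mul_assoc, h1, mul_one] at this
    exact LinearMap.congr_fun this v
  have i1 : ∀ v, Y' (Y v) = v := fun v => LinearMap.congr_fun h2 v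
  have i2 : ∀ v, Y (Y' v) = v := fun v => LinearMap.congr_fun h1 v
  unfold ev
  refine LinearEquiv.finrank_eq (LinearEquiv.ofLinearMap
    (LinearMap.restrict Y (p := T.eigenspace c) (q := T'.eigenspace c) ?_)
    (LinearMap.restrict Y' (p := T'.eigenspace c) (q := T.eigenspace c) ?_) ?_ ?_)
  · intro v hv
    rw [Module.End.mem_eigenspace_iff] at hv ⊢
    rw [← e1, hv, map_smul]
  · intro v hv
    rw [Module.End.mem_eigenspace_iff] at hv ⊢
    rw [e2, hv, map_smul]
  · ext v
    exact i2 v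
  · ext v
    exact i1 v

variable {G : Type w} [Group G]

/-- **Orbits of eigenvalues.** -/
theorem orbits [IsAlgClosed K] (ρ : Representation K G V) {m : ℕ} (hm : m.Prime) (hmK : (m : K) ≠ 0) {z y : G}
    {a k : ℕ} (hz : z ^ m = 1) (hyz : y * z * y⁻¹ = z ^ a) (hk : orderOf (a : ZMod m) = k) (hk0 : 0 < k) :
    ∃ c, finrank K V = ev (ρ z) 1 + k * c ∧ ∀ μ : K, μ ≠ 1 → ev (ρ z) μ ≤ c := by
  have hmf : Fact m.Prime := ⟨hm⟩
  have : NeZero (m : K) := ⟨hmK⟩
  have hne : NeZero m := ⟨hm.ne_zero⟩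
  obtain ⟨ω, hω⟩ := HasEnoughRootsOfUnity.exists_primitiveRoot K m
  have hψ := AddChar.zmodChar_primitive_of_primitive_root m hω
  set ψ : AddChar (ZMod m) K := AddChar.zmodChar m hω.pow_eq_one with hψdef
  have hT : ρ z ^ m = 1 := by rw [← map_pow, hz, map_one]
  have hak : (a : ZMod m) ^ k = 1 := by rw [← hk]; exact pow_orderOf_eq_one _
  -- the permutation of the eigenspaces
  have hYT : ρ y * ρ z = ρ z ^ a * ρ y := by
    rw [← map_pow, ← map_mul, ← map_mul, ← hyz]
    congr 1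
    group
  have hmul := mul_pow_val hT hYT
  have hab : (a : ZMod m) * (a : ZMod m) ^ (k - 1) = 1 := by
    rw [← pow_succ', Nat.sub_add_cancel hk0, hak]
  have hpj := mul_pj (ψ := ψ) hab hmul
  -- dimensions
  have hdim := finrank_complete (fun i => pj ψ (ρ z) i) (sum_pj hmK hψ)
    (fun i j hij => by rw [pj_mul hT hmK hψ, if_neg hij]) (fun i => by rw [pj_mul hT hmK hψ, if_pos rfl])
  have hrange : ∀ i, finrank K (LinearMap.range (pj ψ (ρ z) i)) = ev (ρ z) (ψ i) := by
    intro i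
    rw [range_pj_gen hT hmK i]
    rfl
  have hinv : ∀ i : ZMod m, ev (ρ z) (ψ ((a : ZMod m) ^ (k - 1) * i)) = ev (ρ z) (ψ i) := by
    intro i
    rw [← hrange, ← hrange]
    -- `Y P_i = P_{b i} Y`
    have h1 : pj ψ (ρ z) ((a : ZMod m) ^ (k - 1) * i) = ρ y * pj ψ (ρ z) i * ρ y⁻¹ := by
      rw [hpj i, mul_assoc, ← map_mul, mul_inv_cancel, map_one, mul_one]
    have h2 : LinearMap.range (pj ψ (ρ z) ((a : ZMod m) ^ (k - 1) * i)) =
        (LinearMap.range (pj ψ (ρ z) i)).map (ρ y) := by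
      rw [h1]
      ext v
      constructor
      · rintro ⟨u, rfl⟩
        exact ⟨pj ψ (ρ z) i (ρ y⁻¹ u), ⟨_, rfl⟩, rfl⟩
      · rintro ⟨_, ⟨u, rfl⟩, rfl⟩
        refine ⟨ρ y u, ?_⟩
        change ρ y (pj ψ (ρ z) i (ρ y⁻¹ (ρ y u))) = _
        have : ρ y⁻¹ (ρ y u) = u := by
          rw [← Module.End.mul_apply, ← map_mul, inv_mul_cancel, map_one]; rfl
        rw [this]
    rw [h2]
    have hinj : Function.Injective (ρ y) := by
      intro u u' h
      have := congrArg (ρ y⁻¹) h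
      rwa [← Module.End.mul_apply, ← Module.End.mul_apply, ← map_mul, inv_mul_cancel, map_one] at this
    exact (Submodule.equivMapOfInjective (ρ y) hinj _).finrank_eq.symm
  have hord : orderOf ((a : ZMod m) ^ (k - 1)) = k := by
    have h1 : (a : ZMod m) ^ (k - 1) = (a : ZMod m)⁻¹ := by
      rw [eq_inv_of_mul_eq_one_right hab]
    rw [h1, ← hk, orderOf_eq_orderOf_iff]
    intro n
    rw [inv_pow, inv_eq_one]
  obtain ⟨c, hc1, hc2⟩ := sum_orbits hord hk0 (fun i => ev (ρ z) (ψ i)) hinv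
  refine ⟨c, ?_, ?_⟩
  · rw [hdim]
    simp only [hrange]
    rw [hc1, AddChar.map_zero_eq_one]
  · intro μ hμ
    by_cases hμm : μ ^ m = 1
    · obtain ⟨i, -, hi⟩ := hω.eq_pow_of_pow_eq_one hμm
      have h1 : ψ (i : ZMod m) = μ := by
        rw [hψdef, AddChar.zmodChar_apply', hi]
      rw [← h1]
      refine hc2 _ ?_
      intro h0
      rw [h0, AddChar.map_zero_eq_one] at h1
      exact hμ h1.symm
    · have h0 : ev (ρ z) μ = 0 := by
        unfold ev
        rw [finrank_eq_zero_iff_of_free, Submodule.subsingleton_iff_eq_bot, Submodule.eq_bot_iff]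
        intro v hv
        rw [Module.End.mem_eigenspace_iff] at hv
        have h1 : ∀ n : ℕ, (ρ z ^ n) v = μ ^ n • v := by
          intro n
          induction n with
          | zero => rw [pow_zero, pow_zero, one_smul]; rfl
          | succ n ih => rw [pow_succ, Module.End.mul_apply, hv, map_smul, ih, smul_smul, pow_succ']
        have h2 := h1 m
        rw [hT] at h2
        have h3 : (μ ^ m - 1) • v = 0 := by rw [sub_smul, one_smul, ← h2, Module.End.one_apply, sub_self]
        exact (smul_eq_zero.1 h3).resolve_left (sub_ne_zero.2 hμm)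
      rw [h0]
      exact Nat.zero_le _

end eig

end Cfsg.Agent.H333.QS6.Eig
end

-- part: H333/QS6/Rep
section
/-!
# S3540, quasisimple rows: the representation of `L` on `V` over `K`, base change to the algebraic closure (helper333)
-/

set_option autoImplicit false
set_option linter.unusedSectionVars false

universe u v w

namespace Cfsg.Agent.H333.QS6.Rep

open Module Cfsg.Agent.H952.F4 Cfsg.Agent.H337.HT
open Cfsg.Agent.H828.HT hiding ev

section bar

variable {K : Type u} {V : Type v} [Field K] [AddCommGroup V] [Module K V] [FiniteDimensional K V]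

theorem ev_toMatrix (b : Basis (Fin (finrank K V)) K V) (T : Module.End K V) (c : K) :
    ev (Matrix.toLin' (LinearMap.toMatrix b b T)) c = ev T c := by
  have h : Matrix.toLin' (LinearMap.toMatrix b b T) = (b.equivFun.toLinearMap ∘ₗ T) ∘ₗ b.equivFun.symm.toLinearMap := by
    have h1 : LinearMap.toMatrix b b T = LinearMap.toMatrix' ((b.equivFun.toLinearMap ∘ₗ T) ∘ₗ
      b.equivFun.symm.toLinearMap) := rfl
    rw [h1, Matrix.toLin'_toMatrix']
  rw [h]
  unfold ev
  refine LinearEquiv.finrank_eq (LinearEquiv.ofLinearMap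
    (LinearMap.restrict b.equivFun.symm.toLinearMap (q := T.eigenspace c) ?_)
    (LinearMap.restrict b.equivFun.toLinearMap (p := T.eigenspace c) ?_) ?_ ?_)
  · intro v hv
    rw [Module.End.mem_eigenspace_iff] at hv ⊢
    have h1 := congrArg b.equivFun.symm hv
    rw [map_smul] at h1
    rw [LinearEquiv.coe_coe, ← h1]
    simp
  · intro v hv
    rw [Module.End.mem_eigenspace_iff] at hv ⊢
    simp [hv]
  · exact LinearMap.ext fun v => Subtype.ext (b.equivFun.symm_apply_apply v.1)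
  · exact LinearMap.ext fun v => Subtype.ext (b.equivFun.apply_symm_apply v.1)

/-- the base change of a representation to the algebraic closure -/
noncomputable def bar {G : Type w} [Group G] (ρ : Representation K G V) :
    Representation (AlgebraicClosure K) G (Fin (finrank K V) → AlgebraicClosure K) :=
  (((Matrix.toLinAlgEquiv' : Matrix (Fin (finrank K V)) (Fin (finrank K V)) (AlgebraicClosure K) ≃ₐ[AlgebraicClosure K]
    _) : Matrix (Fin (finrank K V)) (Fin (finrank K V)) (AlgebraicClosure K) →* _).comp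
    (((algebraMap K (AlgebraicClosure K)).mapMatrix : Matrix (Fin (finrank K V)) (Fin (finrank K V)) K →+*
      _) : Matrix (Fin (finrank K V)) (Fin (finrank K V)) K →* _)).comp
    (((LinearMap.toMatrixAlgEquiv (Module.finBasis K V) : Module.End K V ≃ₐ[K] _) : Module.End K V →* _).comp ρ)

theorem bar_apply {G : Type w} [Group G] (ρ : Representation K G V) (g : G) :
    bar ρ g = Matrix.toLin' ((LinearMap.toMatrix (Module.finBasis K V) (Module.finBasis K V) (ρ g)).map
      (algebraMap K (AlgebraicClosure K))) := rfl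

theorem ev_bar {G : Type w} [Group G] (ρ : Representation K G V) (g : G) (c : K) :
    ev (bar ρ g) (algebraMap K (AlgebraicClosure K) c) = ev (ρ g) c := by
  rw [bar_apply, H815.F4Chg.ev_map, ev_toMatrix]

theorem ev_bar_one {G : Type w} [Group G] (ρ : Representation K G V) (g : G) : ev (bar ρ g) 1 = ev (ρ g) 1 := by
  rw [← ev_bar ρ g 1, map_one]

end bar

section qs

variable {p : ℕ} [Fact p.Prime] {K : Type w} [Field K] {V : Type u} [AddCommGroup V] [Module (ZMod p) V]
    [Module K V] {G L : Subgroup (V ≃ₗ[ZMod p] V)} {h : ℕ}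

/-- the representation of `L` on `V` over `K` -/
def rep (H : QS p K V G L h) : Representation K L V where
  toFun l :=
    { toFun := fun v => (l : V ≃ₗ[ZMod p] V) v
      map_add' := fun x y => map_add _ x y
      map_smul' := fun c v => H.lin l l.2 c v }
  map_one' := rfl
  map_mul' _ _ := rfl

theorem rep_apply (H : QS p K V G L h) (l : L) (v : V) : rep H l v = (l : V ≃ₗ[ZMod p] V) v := rfl

theorem rep_injective (H : QS p K V G L h) : Function.Injective (rep H) := by
  intro a b hab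
  apply Subtype.ext
  ext v
  exact LinearMap.congr_fun hab v

variable [Finite V] (H : QS p K V G L h)

include H

theorem exists_ne_zero : ∃ v : V, v ≠ 0 := by
  obtain ⟨a, -, b, -, hab⟩ := H.nonab
  by_contra hc
  push Not at hc
  apply hab
  ext v
  rw [hc v, map_zero, map_zero]

theorem finiteK : Finite K := by
  obtain ⟨v, hv⟩ := exists_ne_zero H
  refine Finite.of_injective (fun c : K => c • v) ?_
  intro a b hab
  have h1 : (a - b) • v = 0 := by
    rw [sub_smul]; exact sub_eq_zero.2 hab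
  exact sub_eq_zero.1 ((smul_eq_zero.1 h1).resolve_right hv)

theorem charK : (p : K) = 0 := by
  obtain ⟨v, hv⟩ := exists_ne_zero H
  have h1 : (p : K) • v = 0 := by
    rw [Nat.cast_smul_eq_nsmul, ← Nat.cast_smul_eq_nsmul (ZMod p), ZMod.natCast_self, zero_smul]
  exact (smul_eq_zero.1 h1).resolve_right hv

theorem charP : CharP K p := by
  have h1 : ringChar K = p := CharP.ringChar_of_prime_eq_zero Fact.out (charK H)
  exact h1 ▸ ringChar.charP K

theorem le_cardK : p ≤ Nat.card K := by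
  have := charP H
  have := finiteK H
  have h1 : Function.Injective (ZMod.castHom (dvd_refl p) K) := RingHom.injective _
  have h2 := Nat.card_le_card_of_injective _ h1
  rwa [Nat.card_zmod] at h2

theorem card_L_dvd : Nat.card L ∣ Nat.card G := Subgroup.card_dvd_of_le H.le

theorem card_S_dvd : Nat.card (L ⧸ Subgroup.center L) ∣ Nat.card L := Subgroup.card_quotient_dvd_card _

theorem not_dvd_S : ¬ p ∣ Nat.card (L ⧸ Subgroup.center L) := fun hd =>
  H.cop (hd.trans ((card_S_dvd H).trans (card_L_dvd H)))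

theorem ne_zero_of_dvd {r : ℕ} (hr : r.Prime) (hd : r ∣ Nat.card (L ⧸ Subgroup.center L)) : (r : K) ≠ 0 := by
  have := charP H
  rw [Ne, CharP.cast_eq_zero_iff K p]
  intro h1
  have h2 : p = r := (Nat.prime_dvd_prime_iff_eq Fact.out hr).1 h1
  exact not_dvd_S H (h2 ▸ hd)

theorem fd : FiniteDimensional K V := Module.Finite.of_finite

/-- eigenspaces and cardinalities -/
theorem card_eig (x : L) (c : K) :
    Nat.card {v : V // (x : V ≃ₗ[ZMod p] V) v = c • v} = Nat.card K ^ ev (rep H x) c := by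
  have := finiteK H
  have h1 : Nat.card {v : V // (x : V ≃ₗ[ZMod p] V) v = c • v} = Nat.card ↥(Module.End.eigenspace (rep H x) c) := by
    refine Nat.card_congr (Equiv.subtypeEquivRight fun v => ?_)
    rw [Module.End.mem_eigenspace_iff, rep_apply]
  rw [h1]
  exact Module.natCard_eq_pow_finrank (K := K)

/-- an element of order `r` with a non-zero fixed vector: `r ∣ h` -/
theorem dvd_h_of_ev {r : ℕ} {x : L} (hx : orderOf x = r) (hev : 0 < ev (rep H x) 1) : r ∣ h := by
  have h1 : Module.End.eigenspace (rep H x) 1 ≠ ⊥ := by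
    intro h0
    unfold ev at hev
    rw [h0, finrank_bot] at hev
    exact lt_irrefl _ hev
  obtain ⟨v, hv, hv0⟩ := Submodule.exists_mem_ne_zero_of_ne_bot h1
  rw [Module.End.mem_eigenspace_iff, one_smul, rep_apply] at hv
  refine dvd_h (g := (⟨x, H.le x.2⟩ : G)) H.half ?_ hv0 hv
  rw [← hx]
  exact (Subgroup.orderOf_mk (x : V ≃ₗ[ZMod p] V) (H.le x.2)).trans (Subgroup.orderOf_coe x)

/-- if the fixed space is everything the element is trivial -/
theorem eq_one_of_ev {x : L} (hx : ev (rep H x) 1 = finrank K V) : x = 1 := by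
  have := fd H
  have h1 : Module.End.eigenspace (rep H x) 1 = ⊤ := Submodule.eq_top_of_finrank_eq hx
  apply rep_injective H
  rw [map_one]
  ext v
  have h2 : v ∈ Module.End.eigenspace (rep H x) 1 := by rw [h1]; trivial
  rw [Module.End.mem_eigenspace_iff, one_smul] at h2
  exact h2

end qs

end Cfsg.Agent.H333.QS6.Rep
end
end
end
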